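import Cfsg.Agent.Lib.BG.FixedLine.Dual
import Cfsg.Agent.Lib.BG.FixedLine.Mono

/-!
The dual of an elementary abelian group over the algebraic closure: spanning by prime functionals,
ranks of operators and inverse characters under an invariant alternating pairing.
-/

set_option autoImplicit false
set_option linter.style.haveILetI false
set_option linter.unusedSectionVars false

open scoped commutatorElement

namespace CfsgLib.HallHigman.FpfTwo

open CfsgLib.BG.FixedLine

variable {X : Type*} [Group X] [Finite X] (q : ℕ) [hq : Fact q.Prime] {V : Subgroup X}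

/-- A prime functional seen in the dual. -/
noncomputable def castDual (φ : Additive V →+ ZMod q) : Dual q V :=
  ((algebraMap (ZMod q) (AlgebraicClosure (ZMod q))).toAddMonoidHom).comp φ

theorem castDual_apply (φ : Additive V →+ ZMod q) (v : Additive V) :
    castDual q φ v = algebraMap (ZMod q) (AlgebraicClosure (ZMod q)) (φ v) := rfl

/-- Coordinates on a complement of a subgroup. -/
theorem exists_coord_aux {M : Type*} [AddCommGroup M] [Module (ZMod q) M] [Finite M]
    (C : AddSubgroup M) {k : ℕ} (hk : C.index = q ^ k) :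
    ∃ (b : Fin k → M) (co : Fin k → (M →+ ZMod q)), (∀ i, ∀ c ∈ C, co i c = 0) ∧
      ∀ f : M →+ AlgebraicClosure (ZMod q), (∀ c ∈ C, f c = 0) → ∀ v,
        f v = ∑ i, f (b i) * algebraMap (ZMod q) (AlgebraicClosure (ZMod q)) (co i v) := by
  classical
  haveI : Module.Finite (ZMod q) M := Module.Finite.of_finite
  obtain ⟨C₀, hC₀⟩ : ∃ C₀ : Submodule (ZMod q) M, C₀.toAddSubgroup = C :=
    ⟨AddSubgroup.toZModSubmodule q C, AddSubgroup.toZModSubmodule_toAddSubgroup q C⟩
  obtain ⟨D, hD⟩ := C₀.exists_isCompl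
  have hkD : Module.finrank (ZMod q) D = k := by
    have e1 := (Submodule.quotientEquivOfIsCompl C₀ D hD).finrank_eq
    have e2 : Nat.card (M ⧸ C₀) = q ^ k := by
      rw [← hk, ← hC₀]; rfl
    rw [Module.natCard_eq_pow_finrank (K := ZMod q), Nat.card_zmod, e1] at e2
    exact Nat.pow_right_injective hq.out.two_le e2
  let bs : Module.Basis (Fin k) (ZMod q) D := Module.finBasisOfFinrankEq _ _ hkD
  let pr := Submodule.projectionOnto D C₀ hD.symm
  refine ⟨fun i => (bs i : M), fun i => ((bs.coord i).comp pr).toAddMonoidHom, fun i c hc => ?_,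
    fun f hf v => ?_⟩
  · have hc' : c ∈ C₀ := by rw [← hC₀] at hc; exact hc
    simp only [LinearMap.toAddMonoidHom_coe, LinearMap.coe_comp, Function.comp_apply,
      show pr c = 0 from Submodule.projectionOnto_apply_right hD.symm ⟨c, hc'⟩, map_zero]
  obtain ⟨d, hd, c, hc, rfl⟩ := Submodule.mem_sup.1
    (hD.symm.sup_eq_top.ge (Submodule.mem_top (x := v)))
  have hfc : f c = 0 := hf c (hC₀ ▸ hc)
  have hpr : pr (d + c) = ⟨d, hd⟩ := by
    rw [map_add, show pr c = 0 from Submodule.projectionOnto_apply_right hD.symm ⟨c, hc⟩, add_zero]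
    exact Submodule.projectionOnto_apply_left hD.symm ⟨d, hd⟩
  rw [map_add, hfc, add_zero]
  simp only [LinearMap.toAddMonoidHom_coe, LinearMap.coe_comp, Function.comp_apply, hpr]
  conv_lhs => rw [show d = D.subtype (∑ i, bs.coord i ⟨d, hd⟩ • bs i) by
    simp only [Module.Basis.coord_apply, bs.sum_repr]; rfl]
  rw [map_sum, map_sum]
  refine Finset.sum_congr rfl fun i _ => ?_
  rw [map_smul, ZMod.map_smul, Algebra.smul_def, mul_comm]
  rfl

/-- A basis with coordinates, for a subgroup and a complement of a given subgroup. -/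
theorem exists_coord (hV : Cfsg.IsElementaryAbelian q V) {C : Subgroup X} (_hC : C ≤ V) {k : ℕ}
    (hk : C.relIndex V = q ^ k) :
    ∃ (b : Fin k → Additive V) (co : Fin k → (Additive V →+ ZMod q)),
      (∀ i, ∀ c : V, (c : X) ∈ C → co i (Additive.ofMul c) = 0) ∧ ∀ f : Dual q V,
      (∀ c : V, (c : X) ∈ C → f (Additive.ofMul c) = 0) →
      f = ∑ i, f (b i) • castDual q (co i) := by
  haveI := hV.1
  letI : CommGroup V := { (inferInstance : Group V) with mul_comm := mul_comm' }
  letI hM : Module (ZMod q) (Additive V) :=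
    AddCommGroup.zmodModule (fun x => Additive.toMul.injective (Subtype.ext (by
      simpa using hV.2 _ (Additive.toMul x).2)))
  obtain ⟨b, co, hco, h⟩ := @exists_coord_aux q hq (Additive V) _ hM _
    (Subgroup.toAddSubgroup (C.subgroupOf V)) k (Subgroup.index_toAddSubgroup.trans hk)
  refine ⟨b, co, fun i c hc => hco i _ hc, fun f hf => AddMonoidHom.ext fun v => ?_⟩
  refine (h f (fun c hc => hf (Additive.toMul c) ?_) v).trans ?_
  · exact hc
  · rw [AddMonoidHom.finsetSum_apply]
    exact Finset.sum_congr rfl fun i _ => rfl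

/-- The functionals vanishing on a subgroup. -/
def ann (V C : Subgroup X) : Submodule (AlgebraicClosure (ZMod q)) (Dual q V) where
  carrier := {f | ∀ c : V, (c : X) ∈ C → f (Additive.ofMul c) = 0}
  add_mem' {a b} ha hb c hc := by rw [AddMonoidHom.add_apply, ha c hc, hb c hc, add_zero]
  zero_mem' _ _ := rfl
  smul_mem' t f hf c hc := by rw [AddMonoidHom.smul_apply, hf c hc, smul_zero]

theorem mem_ann {C : Subgroup X} {f : Dual q V} :
    f ∈ ann q V C ↔ ∀ c : V, (c : X) ∈ C → f (Additive.ofMul c) = 0 := Iff.rfl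

/-- A family of prime functionals with kernel `C` gives all of them killing `C`. -/
theorem surjective_of_kernel (hV : Cfsg.IsElementaryAbelian q V) {C : Subgroup X} (hC : C ≤ V)
    (Bp : V → (Additive V →+ ZMod q)) (hkill : ∀ v c : V, (c : X) ∈ C → Bp v (Additive.ofMul c) = 0)
    (hker : ∀ v w : V, Bp v = Bp w → (v : X)⁻¹ * (w : X) ∈ C)
    (φ : Additive V →+ ZMod q) (hφ : ∀ c : V, (c : X) ∈ C → φ (Additive.ofMul c) = 0) :
    ∃ v, Bp v = φ := by
  classical
  obtain ⟨k, hk⟩ : ∃ k, C.relIndex V = q ^ k := by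
    obtain ⟨m, hm⟩ := IsPGroup.exists_card_eq (p := q) (G := V) fun v => ⟨1, Subtype.ext (by
      simpa using hV.2 v v.2)⟩
    obtain ⟨k, -, hk⟩ := (Nat.dvd_prime_pow hq.out).1 (hm ▸ C.relIndex_dvd_card V)
    exact ⟨k, hk⟩
  obtain ⟨b, co, -, h⟩ := exists_coord q hV hC hk
  let Φ := {ψ : Additive V →+ ZMod q // ∀ c : V, (c : X) ∈ C → ψ (Additive.ofMul c) = 0}
  have hdet : ∀ ψ : Φ, ∀ v, ψ.1 v = ∑ i, ψ.1 (b i) * co i v := by
    intro ψ v
    have h1 := DFunLike.congr_fun (h (castDual q ψ.1) fun c hc => by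
      rw [castDual_apply, ψ.2 c hc, map_zero]) v
    rw [AddMonoidHom.finsetSum_apply] at h1
    simp only [AddMonoidHom.smul_apply, castDual_apply, smul_eq_mul, ← map_mul, ← map_sum] at h1
    exact (algebraMap (ZMod q) (AlgebraicClosure (ZMod q))).injective h1
  let ev : Φ → (Fin k → ZMod q) := fun ψ i => ψ.1 (b i)
  have hev : Function.Injective ev := fun ψ ψ' e => Subtype.ext (AddMonoidHom.ext fun v => by
    rw [hdet ψ v, hdet ψ' v]
    exact Finset.sum_congr rfl fun i _ => by rw [show ψ.1 (b i) = ψ'.1 (b i) from congrFun e i])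
  haveI : Finite Φ := Finite.of_injective ev hev
  let F : V ⧸ C.subgroupOf V → Φ := fun i => ⟨Bp i.out, hkill i.out⟩
  have hF : Function.Injective F := fun i j e => by
    rw [← QuotientGroup.out_eq' i, ← QuotientGroup.out_eq' j, QuotientGroup.eq, Subgroup.mem_subgroupOf]
    simpa using hker _ _ (congrArg Subtype.val e)
  have hcard : Nat.card Φ ≤ Nat.card (V ⧸ C.subgroupOf V) := by
    refine le_trans (Nat.card_le_card_of_injective ev hev) (le_of_eq ?_)
    rw [Nat.card_fun, Nat.card_zmod, Nat.card_fin]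
    exact hk.symm
  obtain ⟨i, hi⟩ := ((Nat.bijective_iff_injective_and_card F).2
    ⟨hF, le_antisymm (Nat.card_le_card_of_injective F hF) hcard⟩).2 ⟨φ, hφ⟩
  exact ⟨i.out, congrArg Subtype.val hi⟩

/-- The rank of `g - 1` on an annihilator is bounded by the index of the fixed points modulo it. -/
theorem finrank_range_sub_one_le {H : Subgroup X} (hV : Cfsg.IsElementaryAbelian q V)
    (hHV : H ≤ Subgroup.normalizer (V : Set X)) (g : H) {C F : Subgroup X} (hF : F ≤ V)
    (hfix : ∀ c : V, (c : X) ∈ F → (c : X)⁻¹ * ((g : X)⁻¹ * (c : X) * (g : X)) ∈ C)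
    {k : ℕ} (hk : F.relIndex V = q ^ k) :
    Module.finrank (AlgebraicClosure (ZMod q))
      ((ann q V C).map (dualRep q hHV g - 1)) ≤ k := by
  obtain ⟨b, co, -, h⟩ := exists_coord q hV hF hk
  haveI := finiteDimensional_dual q (V := V)
  calc Module.finrank (AlgebraicClosure (ZMod q)) ((ann q V C).map (dualRep q hHV g - 1))
      ≤ Module.finrank (AlgebraicClosure (ZMod q))
          (Submodule.span (AlgebraicClosure (ZMod q)) (Set.range fun i => castDual q (co i))) := by
        refine Submodule.finrank_mono ?_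
        rintro _ ⟨f, hf, rfl⟩
        rw [h ((dualRep q hHV g - 1) f) fun c hc => ?_]
        · exact Submodule.sum_mem _ fun i _ =>
            Submodule.smul_mem _ _ (Submodule.subset_span ⟨i, rfl⟩)
        · have hd := hf (c⁻¹ * CfsgLib.Coprime.conjAct hHV g⁻¹ c) (by
            simp only [Subgroup.coe_mul, Subgroup.coe_inv, CfsgLib.Coprime.coe_conjAct, inv_inv]
            exact hfix c hc)
          rw [ofMul_mul, ofMul_inv, map_add, map_neg] at hd
          rw [LinearMap.sub_apply, Module.End.one_apply, AddMonoidHom.sub_apply, dualRep_apply,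
            toMul_ofMul, sub_eq_add_neg, add_comm]
          exact hd
    _ ≤ k := (finrank_range_le_card _).trans (by simp)

/-- An invariant alternating pairing makes the set of components closed under inversion. -/
theorem comp_inv_ne_bot {H : Subgroup X} (hV : Cfsg.IsElementaryAbelian q V)
    (hHV : H ≤ Subgroup.normalizer (V : Set X)) (A : Subgroup H)
    (hA0 : (Nat.card A : AlgebraicClosure (ZMod q)) ≠ 0) {C : Subgroup X} (hC : C ≤ V)
    (Bp : V → (Additive V →+ ZMod q)) (hkill : ∀ v c : V, (c : X) ∈ C → Bp v (Additive.ofMul c) = 0)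
    (hker : ∀ v w : V, Bp v = Bp w → (v : X)⁻¹ * (w : X) ∈ C)
    (halt : ∀ v w : V, Bp v (Additive.ofMul w) = -Bp w (Additive.ofMul v))
    (hinv : ∀ a : A, ∀ v w : V, Bp (CfsgLib.Coprime.conjAct hHV (a : H) v)
      (Additive.ofMul (CfsgLib.Coprime.conjAct hHV (a : H) w)) = Bp v (Additive.ofMul w))
    {μ : Chi (AlgebraicClosure (ZMod q)) A} (hμ : comp (dualRep q hHV) A μ ⊓ ann q V C ≠ ⊥) :
    comp (dualRep q hHV) A μ⁻¹ ⊓ ann q V C ≠ ⊥ := by
  intro hbot
  haveI := Fintype.ofFinite A
  set ρ := dualRep q hHV with hρ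
  have hCa : ∀ (a : A) (c : V), (c : X) ∈ C → ((CfsgLib.Coprime.conjAct hHV (a : H) c : V) : X) ∈ C := by
    intro a c hc
    have h0 : ∀ v : V, Bp v (Additive.ofMul (CfsgLib.Coprime.conjAct hHV (a : H) c)) = 0 := fun v => by
      have h1 := hinv a (CfsgLib.Coprime.conjAct hHV (a : H)⁻¹ v) c
      rw [← MulAut.mul_apply, ← map_mul, mul_inv_cancel, map_one, MulAut.one_apply] at h1
      rw [h1, hkill _ c hc]
    have h2 : Bp (CfsgLib.Coprime.conjAct hHV (a : H) c) = Bp 1 := AddMonoidHom.ext fun w => by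
      obtain ⟨w, rfl⟩ : ∃ u : V, Additive.ofMul u = w := ⟨Additive.toMul w, rfl⟩
      rw [halt, h0, neg_zero, halt, ofMul_one, map_zero, neg_zero]
    have h3 := hker _ _ h2
    rw [Subgroup.coe_one, mul_one] at h3
    simpa using C.inv_mem h3
  have hann : ∀ (ν : Chi (AlgebraicClosure (ZMod q)) A), ∀ f ∈ ann q V C, proj ρ A ν f ∈ ann q V C := by
    intro ν f hf
    rw [proj_apply]
    refine Submodule.sum_mem _ fun a _ => Submodule.smul_mem _ _ fun c hc => ?_
    rw [hρ, dualRep_apply]
    refine hf _ ?_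
    have := hCa a⁻¹ c hc
    simpa using this
  have hzero : ∀ f ∈ ann q V C, proj ρ A μ⁻¹ f = 0 := fun f hf => by
    have h1 : proj ρ A μ⁻¹ f ∈ comp ρ A μ⁻¹ ⊓ ann q V C := ⟨proj_mem ρ A μ⁻¹ f, hann _ f hf⟩
    rwa [hbot, Submodule.mem_bot] at h1
  have hkill' : ∀ φ : Additive V →+ ZMod q, (∀ c : V, (c : X) ∈ C → φ (Additive.ofMul c) = 0) →
      proj ρ A μ (castDual q φ) = 0 := by
    intro φ hφ
    obtain ⟨w, rfl⟩ := surjective_of_kernel q hV hC Bp hkill hker φ hφ
    refine AddMonoidHom.ext fun v => ?_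
    obtain ⟨v, rfl⟩ : ∃ u : V, Additive.ofMul u = v := ⟨Additive.toMul v, rfl⟩
    have h1 := DFunLike.congr_fun (hzero (castDual q (Bp v)) fun c hc => by
      rw [castDual_apply, hkill v c hc, map_zero]) (Additive.ofMul w)
    rw [proj_apply, AddMonoidHom.finsetSum_apply, AddMonoidHom.zero_apply] at h1
    rw [proj_apply, AddMonoidHom.finsetSum_apply, AddMonoidHom.zero_apply]
    rw [← neg_eq_zero, ← Finset.sum_neg_distrib, ← h1]
    refine Fintype.sum_equiv (Equiv.inv A) _ _ fun a => ?_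
    simp only [AddMonoidHom.smul_apply, hρ, dualRep_apply, toMul_ofMul, castDual_apply,
      Equiv.inv_apply, smul_eq_mul]
    have e : Bp v (Additive.ofMul (CfsgLib.Coprime.conjAct hHV (((a⁻¹ : A) : H))⁻¹ w)) =
        Bp (CfsgLib.Coprime.conjAct hHV ((a : H))⁻¹ v) (Additive.ofMul w) := by
      have := hinv a⁻¹ v (CfsgLib.Coprime.conjAct hHV (((a⁻¹ : A) : H))⁻¹ w)
      rw [Subgroup.coe_inv, inv_inv] at this ⊢
      rw [← this]
      congr 2
      rw [← MulAut.mul_apply, ← map_mul, inv_mul_cancel, map_one, MulAut.one_apply]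
    rw [e, halt (CfsgLib.Coprime.conjAct hHV ((a : H))⁻¹ v) w, map_neg]
    simp
  obtain ⟨k, hk⟩ : ∃ k, C.relIndex V = q ^ k := by
    obtain ⟨m, hm⟩ := IsPGroup.exists_card_eq (p := q) (G := V) fun v => ⟨1, Subtype.ext (by
      simpa using hV.2 v v.2)⟩
    obtain ⟨k, -, hk⟩ := (Nat.dvd_prime_pow hq.out).1 (hm ▸ C.relIndex_dvd_card V)
    exact ⟨k, hk⟩
  obtain ⟨b, co, hco, h⟩ := exists_coord q hV hC hk
  refine hμ ?_
  rw [Submodule.eq_bot_iff]
  rintro f ⟨hf, hfC⟩
  have h2 := proj_self ρ A hf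
  have h0 : proj ρ A μ f = 0 := by
    rw [h f hfC, map_sum]
    exact Finset.sum_eq_zero fun i _ => by rw [map_smul, hkill' _ (hco i), smul_zero]
  rw [h0] at h2
  exact (smul_eq_zero.1 h2.symm).resolve_left hA0

end CfsgLib.HallHigman.FpfTwo
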