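import Cfsg.Agent.Lib.HallHigman.FpfPower.Block

/-!
An operator of two-power order without fixed vectors: its involution centralizes every invariant
abelian group.
-/

set_option autoImplicit false
set_option linter.style.haveILetI false
set_option linter.unusedSectionVars false

open scoped commutatorElement

namespace CfsgLib.HallHigman.FpfTwo

open CfsgLib.BG.FixedLine

variable {K W Y : Type*} [Field K] [IsAlgClosed K] [AddCommGroup W] [Module K W] [Group Y] [Finite Y]
  (ρ : Y →* Module.End K W)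

/-- An orbit of components inside an invariant subspace without fixed vectors. -/
theorem no_fixed_comp' {A : Subgroup Y} (hA0 : (Nat.card A : K) ≠ 0)
    (xn : Subgroup.normalizer (A : Set Y)) {E : Submodule K W}
    (hE : ∀ v ∈ E, ρ (xn : Y) v ∈ E) (hfix : ∀ v ∈ E, ρ (xn : Y) v = v → v = 0) {μ : Chi K A} {M : ℕ}
    (hM : 0 < M) (hμ : ∀ i, 0 < i → i < M → xn ^ i • μ ≠ μ) {v : W} (hv : v ∈ comp ρ A μ) (hvE : v ∈ E)
    (hMv : ρ ((xn : Y) ^ M) v = v) : v = 0 := by
  have hpow : ∀ i : ℕ, ρ ((xn : Y) ^ i) v ∈ E := by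
    intro i
    induction i with
    | zero => simpa using hvE
    | succ k ih => rw [pow_succ', rho_mul]; exact hE _ ih
  have hf : (∑ i ∈ Finset.range M, ρ ((xn : Y) ^ i) v) = 0 := by
    refine hfix _ (Submodule.sum_mem _ fun i _ => hpow i) ?_
    rw [map_sum]
    simp only [← rho_mul, ← pow_succ']
    have h1 := Finset.sum_range_succ' (fun i => ρ ((xn : Y) ^ i) v) M
    have h2 := Finset.sum_range_succ (fun i => ρ ((xn : Y) ^ i) v) M
    simp only [pow_zero, map_one, Module.End.one_apply, hMv] at h1 h2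
    exact add_right_cancel (h1.symm.trans h2)
  have h1 := congrArg (proj ρ A μ) hf
  rw [map_sum, map_zero, Finset.sum_eq_single 0] at h1
  · rw [pow_zero, map_one, Module.End.one_apply, proj_self ρ A hv] at h1
    exact (smul_eq_zero.1 h1).resolve_left hA0
  · intro i hi hi0
    have := rho_mem_comp ρ A (xn ^ i) hv
    rw [Subgroup.coe_pow] at this
    exact proj_other ρ A (fun e => hμ i (Nat.pos_of_ne_zero hi0) (Finset.mem_range.1 hi) e.symm) this
  · intro h; exact absurd (Finset.mem_range.2 hM) h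

/-- The involution in an operator without fixed vectors commutes with an invariant abelian group. -/
theorem commute_of_abelian {x : Y} {c : ℕ} (hxr : x ^ 2 ^ (c + 1) = 1) (hfix : fix ρ x = ⊥)
    {A : Subgroup Y} (hA : ∀ a ∈ A, ∀ b ∈ A, a * b = b * a) (hA0 : (Nat.card A : K) ≠ 0)
    (hxA : ∀ a ∈ A, x * a * x⁻¹ ∈ A) :
    ∀ a ∈ A, ρ (x ^ 2 ^ c) * ρ a = ρ a * ρ (x ^ 2 ^ c) := by
  let xN : Subgroup.normalizer (A : Set Y) := ⟨x, mem_normalizer_of_conj hxA⟩
  intro a ha
  refine eq_of_eq_on_comp ρ A hA hA0 fun ν v hv => ?_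
  by_cases hν : xN ^ 2 ^ c • ν = ν
  · have h1 := rho_mem_comp ρ A (xN ^ 2 ^ c) hv
    rw [hν, Subgroup.coe_pow] at h1
    rw [Module.End.mul_apply, Module.End.mul_apply, hv ⟨a, ha⟩, map_smul, h1 ⟨a, ha⟩]
  · have h0 : v = 0 := by
      refine FpfPower.no_fixed_comp ρ hA0 xN hfix (M := 2 ^ (c + 1)) (Nat.pow_pos two_pos)
        (fun i hi hiM e => hν ?_) hv ?_
      · exact FpfPower.pow_mem_of_pow_mem (H := MulAction.stabilizer _ ν) Nat.prime_two
          (show xN ^ 2 ^ (c + 1) = 1 from Subtype.ext hxr) e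
          (fun hd => absurd (Nat.le_of_dvd hi hd) (not_le.2 hiM))
      · rw [show (xN : Y) = x from rfl, hxr, map_one, Module.End.one_apply]
    simp [h0]

end CfsgLib.HallHigman.FpfTwo
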