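import Mathlib

/-!
The arithmetic behind the impossibility of three exceptional layers.
-/

set_option autoImplicit false

namespace CfsgLib.HallHigman.FpfTwo

theorem lt_nine_pow (j : ℕ) : (j + 4) * (j + 5) < 9 ^ (j + 2) := by
  induction j with
  | zero => norm_num
  | succ j ih =>
    rw [show j + 1 + 2 = (j + 2) + 1 by omega, pow_succ]
    nlinarith

theorem forty_mul_le (j : ℕ) : 40 * (j + 3) ≤ 5 ^ (j + 3) := by
  induction j with
  | zero => norm_num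
  | succ j ih => rw [show j + 1 + 3 = (j + 3) + 1 by omega, pow_succ]; omega

theorem nine_mul_le (j : ℕ) : 9 * (j + 3) ≤ 3 ^ (j + 3) := by
  induction j with
  | zero => norm_num
  | succ j ih => rw [show j + 1 + 3 = (j + 3) + 1 by omega, pow_succ]; omega

theorem four_mul_le (j : ℕ) : 4 * (j + 2) ≤ 3 ^ (j + 2) := by
  induction j with
  | zero => norm_num
  | succ j ih => rw [show j + 1 + 2 = (j + 2) + 1 by omega, pow_succ]; omega

/-- The estimate when the operator of order four stabilizes every component. -/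
theorem count_lt {q a h r : ℕ} (hq : 3 ≤ q) (hh : 1 ≤ h) (hq5 : h = 1 → 5 ≤ q) (ha : 2 ≤ a)
    (hr : r ≤ 4 * a * (h + 1)) : (r - 1) * (q ^ a + (r - 2)) < q ^ (a * (h + 1)) := by
  have hmono : (r - 1) * (q ^ a + (r - 2)) ≤ (4 * a * (h + 1) - 1) * (q ^ a + (4 * a * (h + 1) - 2)) :=
    Nat.mul_le_mul (by omega) (by omega)
  refine lt_of_le_of_lt hmono ?_
  rw [pow_mul]
  obtain ⟨j, rfl⟩ : ∃ j, a = j + 2 := ⟨a - 2, by omega⟩
  obtain ⟨Q, hQ⟩ : ∃ Q, Q = q ^ (j + 2) := ⟨_, rfl⟩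
  rw [← hQ]
  have hQ3 : 3 ^ (j + 2) ≤ Q := hQ ▸ Nat.pow_le_pow_left hq _
  have hQ9 : 9 ≤ Q := le_trans (by rw [pow_add]; have := Nat.one_le_pow j 3 (by norm_num); omega) hQ3
  rcases (show h = 1 ∨ h = 2 ∨ 3 ≤ h by omega) with rfl | rfl | hh3
  · have hQ5 : 5 ^ (j + 2) ≤ Q := hQ ▸ Nat.pow_le_pow_left (hq5 rfl) _
    rcases j with _ | i
    · norm_num at hQ5 ⊢
      nlinarith
    · have h40 := (forty_mul_le i).trans hQ5
      have h8 : 4 * (i + 1 + 2) * (1 + 1) * 5 ≤ Q := by omega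
      obtain ⟨A, hA⟩ : ∃ A, A = 4 * (i + 1 + 2) * (1 + 1) := ⟨_, rfl⟩
      rw [← hA] at h8 ⊢
      calc (A - 1) * (Q + (A - 2)) ≤ A * (Q + A) := Nat.mul_le_mul (by omega) (by omega)
        _ < Q ^ (1 + 1) := by
          have e1 : A * A * 25 ≤ Q * Q := by nlinarith only [Nat.mul_le_mul h8 h8]
          have e2 : A * Q * 5 ≤ Q * Q := by nlinarith only [Nat.mul_le_mul h8 (le_refl Q)]
          have e4 : 81 ≤ Q * Q := Nat.mul_le_mul hQ9 hQ9
          rw [show Q ^ (1 + 1) = Q * Q by ring, mul_add]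
          omega
  · rcases j with _ | i
    · norm_num at hQ3 ⊢
      nlinarith [Nat.mul_le_mul hQ3 hQ3, Nat.mul_le_mul (Nat.mul_le_mul hQ3 hQ3) (le_refl Q)]
    · have h9 := (nine_mul_le i).trans hQ3
      obtain ⟨A, hA⟩ : ∃ A, A = 4 * (i + 1 + 2) * (2 + 1) := ⟨_, rfl⟩
      have hA' : 3 * A ≤ 4 * Q := by omega
      rw [← hA]
      calc (A - 1) * (Q + (A - 2)) ≤ A * (Q + A) := Nat.mul_le_mul (by omega) (by omega)
        _ < Q ^ (2 + 1) := by
          have e1 : A * A * 9 ≤ 16 * (Q * Q) := by nlinarith only [Nat.mul_le_mul hA' hA']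
          have e2 : A * Q * 3 ≤ 4 * (Q * Q) := by nlinarith only [Nat.mul_le_mul hA' (le_refl Q)]
          have e3 : 9 * (Q * Q) ≤ Q * (Q * Q) := Nat.mul_le_mul hQ9 le_rfl
          have e4 : 81 ≤ Q * Q := Nat.mul_le_mul hQ9 hQ9
          rw [show Q ^ (2 + 1) = Q * (Q * Q) by ring, mul_add]
          omega
  · obtain ⟨k, rfl⟩ : ∃ k, h = k + 3 := ⟨h - 3, by omega⟩
    have h4 := (four_mul_le j).trans hQ3
    obtain ⟨A, hA⟩ : ∃ A, A = 4 * (j + 2) * (k + 3 + 1) := ⟨_, rfl⟩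
    have hA' : A ≤ Q * (k + 4) := by rw [hA, show k + 3 + 1 = k + 4 by omega]; exact Nat.mul_le_mul h4 le_rfl
    rw [← hA]
    have h2 : 9 ^ (k + 2) ≤ Q ^ (k + 2) := Nat.pow_le_pow_left hQ9 _
    have h3 := lt_nine_pow k
    calc (A - 1) * (Q + (A - 2)) ≤ A * (Q + A) := Nat.mul_le_mul (by omega) (by omega)
      _ ≤ Q * (k + 4) * (Q + Q * (k + 4)) := Nat.mul_le_mul hA' (by omega)
      _ = (k + 4) * (k + 5) * Q ^ 2 := by ring
      _ < Q ^ (k + 2) * Q ^ 2 :=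
        Nat.mul_lt_mul_of_pos_right (h3.trans_le h2) (Nat.pow_pos (by omega))
      _ = Q ^ (k + 3 + 1) := by rw [← pow_add]

/-- The estimate when some power of order four moves a component. -/
theorem count_lt_small {q a h r : ℕ} (hq : 3 ≤ q) (hh : 1 ≤ h) (hq5 : h = 1 → 5 ≤ q) (ha : 2 ≤ a)
    (hr : r ≤ 2 * a) : (r - 1) * (r - 1) < q ^ (a * h) := by
  refine lt_of_le_of_lt (Nat.mul_le_mul (show r - 1 ≤ 2 * a - 1 by omega) (show r - 1 ≤ 2 * a - 1 by omega)) ?_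
  obtain ⟨j, rfl⟩ : ∃ j, a = j + 2 := ⟨a - 2, by omega⟩
  have key : ∀ j : ℕ, (2 * (j + 2) - 1) * (2 * (j + 2) - 1) < 5 ^ (j + 2) := by
    intro j
    rw [show 2 * (j + 2) - 1 = 2 * j + 3 by omega]
    induction j with
    | zero => norm_num
    | succ j ih => rw [show j + 1 + 2 = (j + 2) + 1 by omega, pow_succ]; nlinarith
  refine (key j).trans_le ?_
  rcases (show h = 1 ∨ 2 ≤ h by omega) with rfl | h2
  · rw [mul_one]; exact Nat.pow_le_pow_left (hq5 rfl) _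
  · calc 5 ^ (j + 2) ≤ 9 ^ (j + 2) := Nat.pow_le_pow_left (by norm_num) _
      _ ≤ q ^ ((j + 2) * 2) := by
        rw [mul_comm, pow_mul]
        exact Nat.pow_le_pow_left (by nlinarith) _
      _ ≤ q ^ ((j + 2) * h) := Nat.pow_le_pow_right (by omega) (Nat.mul_le_mul le_rfl h2)

end CfsgLib.HallHigman.FpfTwo
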