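import Cfsg.Agent.Lib.HallHigman.FpfTwo.Orbit
import Cfsg.Agent.Lib.HallHigman.FpfTwo.Dual
import Cfsg.Agent.Lib.HallHigman.FpfTwo.Numeric
import Cfsg.Agent.Lib.HallHigman.FpfPower.Linear

/-!
The side carrying the form against the side acting on it: the counts are incompatible.
-/

set_option autoImplicit false
set_option linter.style.haveILetI false
set_option linter.unusedSectionVars false

open scoped commutatorElement

namespace CfsgLib.HallHigman.FpfTwo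

open CfsgLib.BG.FixedLine
open CfsgLib.HallHigman.FpfPower (ext ext_eq ext_mul ext_one ext_ne_zero)

variable {X : Type*} [Group X] [Finite X] {q : ℕ} [hq : Fact q.Prime]

theorem dual_count {V H : Subgroup X} (hV : Cfsg.IsElementaryAbelian q V)
    (hHV : H ≤ Subgroup.normalizer (V : Set X)) (hq2 : q ≠ 2) {r₀ : ℕ} (hqr : q ≠ r₀)
    {B Zc : Subgroup H} {y g : H} {c : ℕ} (P : Pieces (dualRep q hHV) B Zc y r₀)
    (hg : g ^ 2 ^ (c + 1) = 1) (hgy : y = g ^ 2 ^ c) (hgB : ∀ u ∈ B, g * u * g⁻¹ ∈ B)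
    (hgZ : ∀ z ∈ Zc, g * z * g⁻¹ ∈ Zc) {C : Subgroup X} (hC : C ≤ V)
    (hBC : ∀ b ∈ B, ∀ v ∈ C, (b : X) * v * (b : X)⁻¹ ∈ C)
    (hgC : ∀ v ∈ C, (g : X) * v * (g : X)⁻¹ ∈ C)
    (Bp : V → (Additive V →+ ZMod q)) (hkill : ∀ v w : V, (w : X) ∈ C → Bp v (Additive.ofMul w) = 0)
    (hker : ∀ v w : V, Bp v = Bp w → (v : X)⁻¹ * (w : X) ∈ C)
    (halt : ∀ v w : V, Bp v (Additive.ofMul w) = -Bp w (Additive.ofMul v))
    (hinv : ∀ a : Zc, ∀ v w : V, Bp (CfsgLib.Coprime.conjAct hHV (a : H) v)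
      (Additive.ofMul (CfsgLib.Coprime.conjAct hHV (a : H) w)) = Bp v (Additive.ofMul w))
    {a₀ b₀ : H} (ha₀ : a₀ ∈ B) (hb₀ : b₀ ∈ B) {v₀ : V}
    (hmove : (v₀ : X)⁻¹ * ((CfsgLib.Coprime.conjAct hHV ⁅a₀, b₀⁆ v₀ : V) : X) ∉ C)
    (hineq : ∀ Fy F4 : Subgroup X,
      (∀ v, v ∈ Fy ↔ v ∈ V ∧ v⁻¹ * ((g : X) ^ 2 ^ c * v * ((g : X) ^ 2 ^ c)⁻¹) ∈ C) →
      (∀ v, v ∈ F4 ↔ v ∈ V ∧ v⁻¹ * ((g : X) ^ 2 ^ (c - 1) * v * ((g : X) ^ 2 ^ (c - 1))⁻¹) ∈ C) →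
      2 ^ (c + 1) * C.relIndex V ≤ (2 ^ (c + 1) - 1) *
        (C.relIndex V + C.relIndex Fy + (2 ^ (c + 1) - 2) * C.relIndex F4)) : False := by
  classical
  haveI := Fact.mk P.hr₀
  haveI := finiteDimensional_dual q (V := V)
  set ρ := dualRep q hHV with hρ
  set A := ann q V C with hA
  -- elements normalizing `C` stabilize the annihilator
  have hVc : ∀ a ∈ V, ∀ b ∈ V, a * b = b * a := fun a ha b hb => by
    haveI := hV.1
    exact congrArg Subtype.val (mul_comm' (⟨a, ha⟩ : V) ⟨b, hb⟩)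
  have hstab : ∀ s : H, (∀ v ∈ C, (s : X) * v * (s : X)⁻¹ ∈ C) → s ∈ stab ρ A := by
    intro s hs f hf v hv
    rw [hρ, dualRep_apply]
    refine hf _ ?_
    rw [toMul_ofMul, CfsgLib.Coprime.coe_conjAct]
    exact (Subgroup.mem_normalizer_iff.1 (Subgroup.inv_mem _ (mem_normalizer_of_conj hs)) _).1 hv
  set Y2 := stab ρ A with hY2
  have hBY : B ≤ Y2 := fun b hb => hstab b (hBC b hb)
  have hgY : g ∈ Y2 := hstab g hgC
  have hyY : y ∈ Y2 := hgy ▸ Y2.pow_mem hgY _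
  letI iA : AddCommGroup A := Submodule.addCommGroup A
  letI : AddCommMonoid A := iA.toAddCommMonoid
  letI : Module (AlgebraicClosure (ZMod q)) A := A.module
  let ρ2 : Y2 →* Module.End (AlgebraicClosure (ZMod q)) A := res ρ A
  have hρ2apply : ∀ (s : Y2) (f : A), ((ρ2 s f : A) : Dual q V) = ρ (s : H) f := fun s f => rfl
  set B2 := B.subgroupOf Y2 with hB2
  set Z2 := Zc.subgroupOf Y2 with hZ2
  let ι : Zc →* Z2 :=
    { toFun := fun z => ⟨⟨z, hBY (P.hZB z.2)⟩, z.2⟩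
      map_one' := rfl
      map_mul' := fun _ _ => rfl }
  have hext : ∀ (μ : Chi (AlgebraicClosure (ZMod q)) Z2) (z : Y2) (hz : (z : H) ∈ Zc),
      ext (μ.comp ι) (z : H) = ext μ z := fun μ z hz => by
    rw [ext_eq (μ.comp ι) hz, ext_eq μ (show z ∈ Z2 from hz)]
    rfl
  have hcomp_up : ∀ (μ : Chi (AlgebraicClosure (ZMod q)) Z2) (f : A), f ∈ comp (W := A) ρ2 Z2 μ →
      (f : Dual q V) ∈ comp ρ Zc (μ.comp ι) := fun μ f hf a =>
    congrArg Subtype.val (hf (ι a))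
  have hne_up : ∀ μ : Chi (AlgebraicClosure (ZMod q)) Z2, comp (W := A) ρ2 Z2 μ ≠ ⊥ →
      comp ρ Zc (μ.comp ι) ⊓ A ≠ ⊥ := by
    intro μ hμ
    obtain ⟨f, hf, hf0⟩ := (Submodule.ne_bot_iff _).1 hμ
    exact (Submodule.ne_bot_iff _).2 ⟨f, ⟨hcomp_up μ f hf, f.2⟩, fun e => hf0 (Subtype.ext e)⟩
  have hne_down : ∀ μ : Chi (AlgebraicClosure (ZMod q)) Z2,
      comp ρ Zc (μ.comp ι) ⊓ A ≠ ⊥ → comp (W := A) ρ2 Z2 μ ≠ ⊥ := by
    intro μ hμ
    obtain ⟨f, ⟨hf, hfA⟩, hf0⟩ := (Submodule.ne_bot_iff _).1 hμ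
    refine (Submodule.ne_bot_iff _).2 ⟨⟨f, hfA⟩, fun a => Subtype.ext ?_, fun e => hf0 (congrArg Subtype.val e)⟩
    exact hf ⟨((a : Y2) : H), a.2⟩
  have hB2 : IsPGroup r₀ B2 := P.hB.of_equiv (Subgroup.subgroupOfEquivOfLe hBY).symm
  have P2 : Pieces (W := A) ρ2 B2 Z2 (⟨y, hyY⟩ : Y2) r₀ :=
    { hr₀ := P.hr₀, hr₀2 := P.hr₀2, hr00 := P.hr00, h2 := P.h2
      hB := hB2
      hZB := fun z hz => P.hZB hz
      hcen := fun z hz u hu => Subtype.ext (P.hcen _ hz _ hu)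
      hder := fun u hu v hv => P.hder _ hu _ hv
      hy2 := Subtype.ext P.hy2
      hyB := fun u hu => P.hyB _ hu
      hyZ := fun z hz => Subtype.ext (P.hyZ _ hz)
      hyU := fun u hu h => P.hyU _ hu h
      hscal := fun μ hμ a ha hrad => by
        obtain ⟨t, ht⟩ := P.hscal (μ.comp ι) (fun h => hne_up μ hμ (by rw [h, bot_inf_eq])) a ha
          fun v hv => (hext μ ⁅a, ⟨v, hBY hv⟩⁆ (P.hder _ ha v hv)).trans (hrad ⟨v, hBY hv⟩ hv)
        exact ⟨t, fun f hf => Subtype.ext (ht f (hcomp_up μ f hf))⟩ }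
  have hZ0 : (Nat.card Zc : AlgebraicClosure (ZMod q)) ≠ 0 :=
    natCast_ne_zero_of_isPGroup (K := AlgebraicClosure (ZMod q)) (P.hB.to_le P.hZB) P.hr00
  have hZ20 : (Nat.card Z2 : AlgebraicClosure (ZMod q)) ≠ 0 :=
    natCast_ne_zero_of_isPGroup (K := AlgebraicClosure (ZMod q)) (hB2.to_le P2.hZB) P.hr00
  -- the commutator is nontrivial on the annihilator
  set c₀ : Y2 := ⁅(⟨a₀, hBY ha₀⟩ : Y2), ⟨b₀, hBY hb₀⟩⁆ with hc₀
  have hc₀Z : c₀ ∈ Z2 := P.hder a₀ ha₀ b₀ hb₀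
  have hc₀ne : ρ2 c₀ ≠ 1 := by
    intro h1
    refine hmove (hker _ _ (AddMonoidHom.ext fun w => ?_))
    obtain ⟨w, rfl⟩ : ∃ u : V, Additive.ofMul u = w := ⟨Additive.toMul w, rfl⟩
    have hmem : castDual q (Bp w) ∈ A := fun u hu => by rw [castDual_apply, hkill w u hu, map_zero]
    have h2 := DFunLike.congr_fun (congrArg Subtype.val (LinearMap.congr_fun h1 ⟨_, hmem⟩))
      (Additive.ofMul (CfsgLib.Coprime.conjAct hHV ⁅a₀, b₀⁆ v₀))
    rw [hρ2apply, hρ, dualRep_apply, toMul_ofMul, Module.End.one_apply, castDual_apply, castDual_apply,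
      show (c₀ : H) = ⁅a₀, b₀⁆ from rfl, ← MulAut.mul_apply, ← map_mul, inv_mul_cancel, map_one,
      MulAut.one_apply] at h2
    rw [halt, halt _ w, (algebraMap (ZMod q) (AlgebraicClosure (ZMod q))).injective h2]
  obtain ⟨μ₀, hμ₀, hμc⟩ : ∃ μ, comp (W := A) ρ2 Z2 μ ≠ ⊥ ∧ ext μ c₀ ≠ 1 := by
    by_contra hno
    push Not at hno
    refine hc₀ne (eq_of_eq_on_comp (W := A) ρ2 Z2 (fun a ha b hb => P2.hcen a ha b (P2.hZB hb)) hZ20
      fun μ f hf => ?_)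
    by_cases hbot : comp (W := A) ρ2 Z2 μ = ⊥
    · rw [hbot, Submodule.mem_bot] at hf
      simp [hf]
    · rw [hf ⟨c₀, hc₀Z⟩, ← ext_eq μ hc₀Z, hno μ hbot, one_smul, Module.End.one_apply]
  -- fixed points modulo `C`
  let Fs : H → Subgroup X := fun s =>
    { carrier := {v | v ∈ V ∧ v⁻¹ * ((s : X) * v * (s : X)⁻¹) ∈ C}
      one_mem' := ⟨V.one_mem, by simp⟩
      mul_mem' := fun {a b} ha hb => ⟨V.mul_mem ha.1 hb.1, by
        have e : (a * b)⁻¹ * ((s : X) * (a * b) * (s : X)⁻¹) =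
            a⁻¹ * ((s : X) * a * (s : X)⁻¹) * (b⁻¹ * ((s : X) * b * (s : X)⁻¹)) := by
          rw [show (a * b)⁻¹ * ((s : X) * (a * b) * (s : X)⁻¹) =
            b⁻¹ * (a⁻¹ * ((s : X) * a * (s : X)⁻¹)) * ((s : X) * b * (s : X)⁻¹) by group,
            hVc _ (V.inv_mem hb.1) _ (hC ha.2), mul_assoc]
        rw [e]
        exact C.mul_mem ha.2 hb.2⟩
      inv_mem' := fun {a} ha => ⟨V.inv_mem ha.1, by
        rw [show a⁻¹⁻¹ * ((s : X) * a⁻¹ * (s : X)⁻¹) = a * (a⁻¹ * ((s : X) * a * (s : X)⁻¹))⁻¹ * a⁻¹ by group,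
          hVc _ ha.1 _ (V.inv_mem (hC ha.2)), mul_inv_cancel_right]
        exact C.inv_mem ha.2⟩ }
  have hCs : ∀ m : ℕ, ∀ v ∈ C, ((g ^ m : H) : X) * v * ((g ^ m : H) : X)⁻¹ ∈ C := fun m v hv => by
    rw [Subgroup.coe_pow]; exact FpfPower.conj_pow_mem' hgC _ hv
  have hCF : ∀ m : ℕ, C ≤ Fs (g ^ m) := fun m v hv => ⟨hC hv, C.mul_mem (C.inv_mem hv) (hCs m v hv)⟩
  have hFV : ∀ s, Fs s ≤ V := fun s v hv => hv.1
  have hsplit : ∀ m : ℕ, C.relIndex V = C.relIndex (Fs (g ^ m)) * (Fs (g ^ m)).relIndex V := fun m =>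
    (Subgroup.relIndex_mul_relIndex _ _ _ (hCF m) (hFV _)).symm
  have hlower : ∀ (m d : ℕ), d ≤ Module.finrank (AlgebraicClosure (ZMod q))
      (LinearMap.range (ρ2 ((⟨g, hgY⟩ : Y2) ^ m) - (1 : Module.End (AlgebraicClosure (ZMod q)) A))) → q ^ d ≤ (Fs (g ^ m)).relIndex V := by
    intro m d hd
    obtain ⟨t, ht⟩ := IsPGroup.exists_card_eq (p := q) (G := V) fun v => ⟨1, Subtype.ext (by
      simpa using hV.2 v v.2)⟩
    obtain ⟨k, -, hk⟩ := (Nat.dvd_prime_pow hq.out).1 (ht ▸ (Fs (g ^ m)).relIndex_dvd_card V)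
    rw [hk]
    refine Nat.pow_le_pow_right hq.out.pos (hd.trans (le_trans ?_ (finrank_range_sub_one_le q hV hHV
      (g ^ m) (hFV _) (C := C) (fun v hv => ?_) hk)))
    · rw [← Submodule.finrank_map_subtype_eq A (LinearMap.range (ρ2 ((⟨g, hgY⟩ : Y2) ^ m) - (1 : Module.End (AlgebraicClosure (ZMod q)) A)))]
      refine Submodule.finrank_mono ?_
      rintro - ⟨-, ⟨f, rfl⟩, rfl⟩
      exact ⟨f, f.2, rfl⟩
    · have h2 := (Subgroup.mem_normalizer_iff.1 (Subgroup.inv_mem _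
        (mem_normalizer_of_conj (hCs m))) _).1 hv.2
      have h3 := C.inv_mem h2
      simp only [mul_inv_rev, inv_inv, mul_assoc, inv_mul_cancel_left, mul_inv_cancel_left,
        inv_mul_cancel, mul_inv_cancel, mul_one] at h3 ⊢
      exact h3
  obtain ⟨a, h, ha2, hh1, hh3, hya, hcases⟩ := P2.orbit_bounds (g := ⟨g, hgY⟩) (c := c)
    (Subtype.ext hg) (Subtype.ext hgy) (fun u hu => hgB _ hu) (fun z hz => hgZ _ hz) hμ₀
    (hne_down _ (comp_inv_ne_bot q hV hHV Zc hZ0 hC Bp hkill hker halt hinv (hne_up μ₀ hμ₀)))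
    (a₀ := ⟨a₀, hBY ha₀⟩) (b₀ := ⟨b₀, hBY hb₀⟩) ha₀ hb₀ hμc
  rw [show (⟨y, hyY⟩ : Y2) = (⟨g, hgY⟩ : Y2) ^ 2 ^ c from Subtype.ext hgy] at hya
  have hy_lower : q ^ (a * h) ≤ (Fs (g ^ 2 ^ c)).relIndex V := hlower _ _ hya
  have hq3 : 3 ≤ q := by have := hq.out.two_le; omega
  have hq5 : h = 1 → 5 ≤ q := fun h1 => by
    have hr3 := hh3 h1
    rcases (show q = 3 ∨ q = 4 ∨ 5 ≤ q by omega) with h3 | h4 | h5
    · exact absurd (h3.trans hr3.symm) hqr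
    · exact absurd hq.out (by rw [h4]; norm_num)
    · exact h5
  set r := 2 ^ (c + 1) with hr
  have hr2 : 2 ≤ r := by rw [hr, pow_succ]; have := Nat.one_le_pow c 2 two_pos; omega
  obtain ⟨r', hr'⟩ : ∃ r', r = r' + 2 := ⟨r - 2, by omega⟩
  have hkey := hineq (Fs (g ^ 2 ^ c)) (Fs (g ^ 2 ^ (c - 1)))
    (fun v => by simp only [← Subgroup.coe_pow]; exact Iff.rfl)
    (fun v => by simp only [← Subgroup.coe_pow]; exact Iff.rfl)
  obtain ⟨Xc, hXc⟩ : ∃ Xc, Xc = C.relIndex V := ⟨_, rfl⟩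
  obtain ⟨Fy, hFy⟩ : ∃ Fy, Fy = C.relIndex (Fs (g ^ 2 ^ c)) := ⟨_, rfl⟩
  obtain ⟨F4, hF4⟩ : ∃ F4, F4 = C.relIndex (Fs (g ^ 2 ^ (c - 1))) := ⟨_, rfl⟩
  rw [← hXc, ← hFy, ← hF4] at hkey
  have hXy := hsplit (2 ^ c)
  rw [← hXc, ← hFy] at hXy
  have hFy0 : 0 < Fy := hFy ▸ Nat.pos_of_ne_zero Subgroup.index_ne_zero_of_finite
  rw [hr', show r' + 2 - 1 = r' + 1 from rfl, show r' + 2 - 2 = r' from rfl] at hkey
  have hkey' : Xc ≤ (r' + 1) * (Fy + r' * F4) := by nlinarith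
  rcases hcases with hsmall | ⟨hc1, hrb, h4⟩
  · -- no element of order four fixes the component
    have hle : Fs (g ^ 2 ^ (c - 1)) ≤ Fs (g ^ 2 ^ c) := by
      rcases Nat.eq_zero_or_pos c with hc | hc
      · subst hc; exact le_rfl
      rintro v ⟨hv, hv'⟩
      refine ⟨hv, ?_⟩
      have h2 : 2 ^ c = 2 ^ (c - 1) + 2 ^ (c - 1) := by
        rw [← two_mul, ← pow_succ', Nat.sub_add_cancel hc]
      rw [h2, pow_add, Subgroup.coe_mul]
      have h3 := hCs (2 ^ (c - 1)) _ hv'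
      generalize ((g ^ 2 ^ (c - 1) : H) : X) = s at hv' h3 ⊢
      rw [show v⁻¹ * (s * s * v * (s * s)⁻¹) = v⁻¹ * (s * v * s⁻¹) * (s * (v⁻¹ * (s * v * s⁻¹)) * s⁻¹) by group]
      exact C.mul_mem hv' h3
    have hF : F4 ≤ Fy := by
      rw [hF4, hFy]
      exact Subgroup.relIndex_le_of_le_right hle Subgroup.index_ne_zero_of_finite
    have hbound : (Fs (g ^ 2 ^ c)).relIndex V ≤ (r' + 1) * (r' + 1) := by
      refine Nat.le_of_mul_le_mul_left ?_ hFy0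
      rw [← hXy]
      calc Xc ≤ (r' + 1) * (Fy + r' * F4) := hkey'
        _ ≤ (r' + 1) * (Fy + r' * Fy) := Nat.mul_le_mul le_rfl (Nat.add_le_add_left (Nat.mul_le_mul le_rfl hF) _)
        _ = _ := by ring
    have := count_lt_small (r := r) hq3 hh1 hq5 ha2 hsmall
    rw [hr', show r' + 2 - 1 = r' + 1 from rfl] at this
    omega
  · -- an element of order four fixes every component
    have h4_lower : q ^ (a * (h + 1)) ≤ (Fs (g ^ 2 ^ (c - 1))).relIndex V := hlower _ _ h4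
    have hlt := count_lt hq3 hh1 hq5 ha2 hrb
    rw [hr', show r' + 2 - 1 = r' + 1 from rfl, show r' + 2 - 2 = r' from rfl] at hlt
    have hX4 := hsplit (2 ^ (c - 1))
    rw [← hXc, ← hF4] at hX4
    obtain ⟨Q, hQ⟩ : ∃ Q, Q = q ^ (a * (h + 1)) := ⟨_, rfl⟩
    rw [← hQ] at hlt h4_lower
    have e1 : Fy * Q ≤ Xc * q ^ a := by
      rw [hXy, hQ, mul_add, mul_one, pow_add, mul_assoc]
      exact Nat.mul_le_mul le_rfl (Nat.mul_le_mul hy_lower le_rfl)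
    have e2 : F4 * Q ≤ Xc := by
      rw [hX4]
      exact Nat.mul_le_mul le_rfl h4_lower
    have hXc0 : 0 < Xc := hXc ▸ Nat.pos_of_ne_zero Subgroup.index_ne_zero_of_finite
    have : Q ≤ (r' + 1) * (q ^ a + r') := by
      refine Nat.le_of_mul_le_mul_left ?_ hXc0
      calc Xc * Q ≤ (r' + 1) * (Fy + r' * F4) * Q := Nat.mul_le_mul hkey' le_rfl
        _ = (r' + 1) * (Fy * Q + r' * (F4 * Q)) := by ring
        _ ≤ (r' + 1) * (Xc * q ^ a + r' * Xc) :=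
          Nat.mul_le_mul le_rfl (Nat.add_le_add e1 (Nat.mul_le_mul le_rfl e2))
        _ = _ := by ring
    omega

end CfsgLib.HallHigman.FpfTwo
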