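import Cfsg.Agent.Lib.HallHigman.FpfTwo.Abelian
import Cfsg.Agent.Lib.HallHigman.FpfPower.Linear

/-!
On a component of the centre, the radical of a group inverted by the involution acts by scalars.
-/

set_option autoImplicit false
set_option linter.style.haveILetI false
set_option linter.unusedSectionVars false

open scoped commutatorElement

namespace CfsgLib.HallHigman.FpfTwo

open CfsgLib.BG.FixedLine
open CfsgLib.HallHigman.FpfPower (ext ext_eq ext_conj)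

variable {K W Y : Type*} [Field K] [IsAlgClosed K] [AddCommGroup W] [Module K W] [Group Y] [Finite Y]
  (ρ : Y →* Module.End K W)

theorem scalar_rad {x : Y} {n r₀ : ℕ} (hr₀ : r₀.Prime) (hr₀2 : r₀ ≠ 2) (hr00 : (r₀ : K) ≠ 0)
    (hxr : x ^ 2 ^ (n + 1) = 1) (hfix : fix ρ x = ⊥) {B Z : Subgroup Y} (hB : IsPGroup r₀ B)
    (hZB : Z ≤ B) (hxB : ∀ u ∈ B, x * u * x⁻¹ ∈ B) (hxZ : ∀ z ∈ Z, x * z * x⁻¹ ∈ Z)
    (hcen : ∀ z ∈ Z, ∀ u ∈ B, z * u = u * z) (hder : ∀ u ∈ B, ∀ v ∈ B, ⁅u, v⁆ ∈ Z)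
    (hyU : ∀ u ∈ B, ⁅x ^ 2 ^ n, u⁆ ∈ Z → u ∈ Z) (hyZ : ∀ z ∈ Z, x ^ 2 ^ n * z = z * x ^ 2 ^ n)
    (μ : Chi K Z) (hμ : comp ρ Z μ ≠ ⊥) {a : Y} (ha : a ∈ B) (ha' : ∀ v ∈ B, ext μ ⁅a, v⁆ = 1) :
    ∃ t : K, ∀ w ∈ comp ρ Z μ, ρ a w = t • w := by
  classical
  haveI := Fact.mk hr₀
  set y := x ^ 2 ^ n with hy
  have hyy : y * y = 1 := by rw [hy, ← pow_add, ← two_mul, ← pow_succ', hxr]
  have hyB : ∀ u ∈ B, y * u * y⁻¹ ∈ B := fun u hu => FpfPower.conj_pow_mem' hxB _ hu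
  have hZ0 : (Nat.card Z : K) ≠ 0 := natCast_ne_zero_of_isPGroup (K := K) (hB.to_le hZB) hr00
  set E := comp ρ Z μ with hE
  -- the stabilizer of the character
  let xZ : Subgroup.normalizer (Z : Set Y) := ⟨x, mem_normalizer_of_conj hxZ⟩
  have hyμ : xZ ^ 2 ^ n • μ = μ := (FpfPower.smul_chi_eq_iff _ μ).2 fun b => by
    congr 1
    apply Subtype.ext
    rw [CfsgLib.Coprime.coe_conjAct]
    show y⁻¹ * (b : Y) * y⁻¹⁻¹ = b
    rw [inv_inv, mul_assoc, ← hyZ _ b.2, inv_mul_cancel_left]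
  have hex : ∃ d, xZ ^ 2 ^ d • μ = μ := ⟨n, hyμ⟩
  obtain ⟨d, hd, hdmin⟩ : ∃ d, xZ ^ 2 ^ d • μ = μ ∧ ∀ e < d, xZ ^ 2 ^ e • μ ≠ μ :=
    ⟨Nat.find hex, Nat.find_spec hex, fun e he => Nat.find_min hex he⟩
  have hdn : d ≤ n := by
    by_contra h
    exact hdmin n (not_le.1 h) hyμ
  obtain ⟨c, hc⟩ : ∃ c, n = d + c := ⟨n - d, by omega⟩
  have hμM : ∀ i, 0 < i → i < 2 ^ d → xZ ^ i • μ ≠ μ := by
    intro i hi hiM e
    rcases Nat.eq_zero_or_pos d with hd0 | hd0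
    · rw [hd0, pow_zero] at hiM; omega
    · refine hdmin (d - 1) (by omega) (FpfPower.pow_mem_of_pow_mem (H := MulAction.stabilizer _ μ)
        Nat.prime_two (show xZ ^ 2 ^ (n + 1) = 1 from Subtype.ext hxr) e ?_)
      rw [show d - 1 + 1 = d by omega]
      exact fun hdd => absurd (Nat.le_of_dvd hi hdd) (not_le.2 hiM)
  set w := x ^ 2 ^ d with hw
  have hwE : ∀ v ∈ E, ρ w v ∈ E := fun v hv => by
    have h := rho_mem_comp ρ Z (xZ ^ 2 ^ d) hv
    rwa [hd, Subgroup.coe_pow] at h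
  have hBE : B ≤ stab ρ E := fun u hu v hv b => by
    rw [← rho_mul, hcen b b.2 u hu, rho_mul, hv b, map_smul]
  have hwμ : ∀ z ∈ Z, ext μ (w * z * w⁻¹) = ext μ z := fun z hz => ext_conj μ (xZ ^ 2 ^ d) hd hz
  have hwB : ∀ u ∈ B, w * u * w⁻¹ ∈ B := fun u hu => FpfPower.conj_pow_mem' hxB _ hu
  let f := (res ρ E).toHomUnits
  let σ : f.range →* Module.End K E := (Units.coeHom (Module.End K E)).comp f.range.subtype
  haveI : Finite f.range := Finite.of_surjective f.rangeRestrict f.rangeRestrict_surjective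
  let φ := f.rangeRestrict
  have hσg : ∀ (s : stab ρ E) (v : E), ((σ (φ s) v : E) : W) = ρ (s : Y) v := fun s v => rfl
  have hσ : Function.Injective σ := fun a b h => Subtype.ext (Units.ext h)
  set we := φ ⟨w, hwE⟩ with hwe
  have hfixe : fix σ we = ⊥ := by
    rw [Submodule.eq_bot_iff]
    intro v hv
    exact Subtype.ext (FpfPower.no_fixed_comp ρ hZ0 xZ hfix (Nat.pow_pos two_pos) hμM v.2
      ((hσg ⟨w, hwE⟩ v).symm.trans (congrArg Subtype.val hv)))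
  -- the radical, on the component
  let T : Subgroup Y := Subgroup.closure {u | u ∈ B ∧ ∀ v ∈ B, ext μ ⁅u, v⁆ = 1}
  have hTB : T ≤ B := (Subgroup.closure_le _).2 fun u hu => hu.1
  have haT : a ∈ T := Subgroup.subset_closure ⟨ha, ha'⟩
  set Te := (T.subgroupOf (stab ρ E)).map φ with hTe
  have hcommon : ∀ u ∈ B, (∀ v ∈ B, ext μ ⁅u, v⁆ = 1) → ∀ v (hv : v ∈ B) (hu : u ∈ B),
      φ ⟨u, hBE hu⟩ * φ ⟨v, hBE hv⟩ = φ ⟨v, hBE hv⟩ * φ ⟨u, hBE hu⟩ := by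
    intro u _ h v hv hu
    rw [← commutatorElement_eq_one_iff_mul_comm, ← map_commutatorElement]
    refine hσ (LinearMap.ext fun t => Subtype.ext ?_)
    show ρ ⁅u, v⁆ (t : W) = (t : W)
    have h1 := t.2 ⟨_, hder u hu v hv⟩
    rwa [← ext_eq μ (hder u hu v hv), h v hv, one_smul] at h1
  have hTcomm : ∀ s (hs : s ∈ T), ∀ v (hv : v ∈ B),
      φ ⟨s, hBE (hTB hs)⟩ * φ ⟨v, hBE hv⟩ = φ ⟨v, hBE hv⟩ * φ ⟨s, hBE (hTB hs)⟩ := by
    intro s hs v hv
    induction hs using Subgroup.closure_induction with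
    | mem u hu => exact hcommon u hu.1 hu.2 v hv hu.1
    | one =>
      show φ 1 * _ = _ * φ 1
      rw [map_one, one_mul, mul_one]
    | mul a b ha hb iha ihb =>
      rw [show (⟨a * b, hBE (hTB (T.mul_mem ha hb))⟩ : stab ρ E) =
        ⟨a, hBE (hTB ha)⟩ * ⟨b, hBE (hTB hb)⟩ from rfl, map_mul, mul_assoc, ihb, ← mul_assoc, iha, mul_assoc]
    | inv a ha iha =>
      rw [show (⟨a⁻¹, hBE (hTB (T.inv_mem ha))⟩ : stab ρ E) = ⟨a, hBE (hTB ha)⟩⁻¹ from rfl, map_inv]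
      exact ((show Commute _ _ from iha).inv_left).eq
  have hTab : ∀ s ∈ Te, ∀ t ∈ Te, s * t = t * s := by
    rintro - ⟨⟨s, _⟩, hs, rfl⟩ - ⟨⟨t, _⟩, ht, rfl⟩
    exact hTcomm s hs t (hTB (show t ∈ T from ht))
  have hT0 : (Nat.card Te : K) ≠ 0 := natCast_ne_zero_of_isPGroup (K := K)
    (((hB.to_le hTB).of_equiv (Subgroup.subgroupOfEquivOfLe (hTB.trans hBE)).symm).map _) hr00
  have hwTset : ∀ u ∈ T, w * u * w⁻¹ ∈ T := by
    intro u hu
    induction hu using Subgroup.closure_induction with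
    | mem u hu =>
      refine Subgroup.subset_closure ⟨hwB u hu.1, fun v hv => ?_⟩
      have hv' : w⁻¹ * v * w ∈ B := by
        have := ((Subgroup.mem_normalizer_iff.1 (inv_mem (mem_normalizer_of_conj hwB))) v).1 hv
        rwa [inv_inv] at this
      rw [show ⁅w * u * w⁻¹, v⁆ = w * ⁅u, w⁻¹ * v * w⁆ * w⁻¹ by simp only [commutatorElement_def]; group,
        hwμ _ (hder u hu.1 _ hv'), hu.2 _ hv']
    | one => simp
    | mul a b _ _ iha ihb =>
      rw [show w * (a * b) * w⁻¹ = w * a * w⁻¹ * (w * b * w⁻¹) by group]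
      exact T.mul_mem iha ihb
    | inv a _ iha =>
      rw [show w * a⁻¹ * w⁻¹ = (w * a * w⁻¹)⁻¹ by group]
      exact T.inv_mem iha
  have hkey := commute_of_abelian σ (x := we) (c := c)
    (by
      rw [hwe, ← map_pow, show (⟨w, hwE⟩ : stab ρ E) ^ 2 ^ (c + 1) = 1 from Subtype.ext (by
        show w ^ 2 ^ (c + 1) = 1
        rw [hw, ← pow_mul, ← pow_add, show d + (c + 1) = n + 1 by omega, hxr]), map_one])
    hfixe hTab hT0
    (by
      rintro - ⟨⟨u, _⟩, hu, rfl⟩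
      exact ⟨⟨w, hwE⟩ * ⟨u, _⟩ * ⟨w, hwE⟩⁻¹, hwTset u hu, by rw [map_mul, map_mul, map_inv]⟩)
    (φ ⟨a, hBE ha⟩) ⟨⟨a, hBE ha⟩, haT, rfl⟩
  have hwy : w ^ 2 ^ c = y := by rw [hw, hy, ← pow_mul, ← pow_add, ← hc]
  -- the involution inverts modulo `Z` and commutes with `a` on the component
  have hinv : y * a * y⁻¹ * a ∈ Z := by
    refine hyU _ (B.mul_mem (hyB a ha) ha) ?_
    have : ⁅y, y * a * y⁻¹ * a⁆ = ⁅a, y * a * y⁻¹⁆ := by
      have hyi : y⁻¹ = y := inv_eq_of_mul_eq_one_left hyy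
      have hyya : ∀ b : Y, y * (y * b) = b := fun b => by rw [← mul_assoc, hyy, one_mul]
      simp only [commutatorElement_def, mul_inv_rev, inv_inv, hyi, mul_assoc, hyya]
    rw [this]
    exact hder a ha _ (hyB a ha)
  have hya : ∀ v ∈ E, ρ (y * a * y⁻¹) v = ρ a v := by
    intro v hv
    have hyv : ρ y⁻¹ v ∈ E := by
      have := (inv_mem ((stab ρ E).pow_mem (show w ∈ stab ρ E from hwE) (2 ^ c))) v hv
      rwa [hwy] at this
    have h1 := congrArg (fun t : Module.End K E => ((t ⟨_, hyv⟩ : E) : W)) hkey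
    simp only [Module.End.mul_apply] at h1
    rw [← map_pow φ] at h1
    rw [hσg, hσg, hσg, hσg, Subgroup.coe_pow] at h1
    simp only [hwy] at h1
    rw [rho_mul, rho_mul, h1, ← rho_mul ρ y y⁻¹, mul_inv_cancel, map_one, Module.End.one_apply]
  have hsq : ∀ v ∈ E, ρ (a * a) v = ext μ (y * a * y⁻¹ * a) • v := by
    intro v hv
    have h1 := hv ⟨_, hinv⟩
    rw [← ext_eq μ hinv, rho_mul] at h1
    rw [rho_mul, ← hya _ (hBE ha v hv), h1]
  obtain ⟨k, hk⟩ := hB ⟨a, ha⟩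
  have hk' : a ^ r₀ ^ k = 1 := congrArg Subtype.val hk
  obtain ⟨m, hm⟩ := (hr₀.odd_of_ne_two hr₀2).pow (n := k)
  set t := ext μ (y * a * y⁻¹ * a) with ht
  refine ⟨t ^ (m + 1), fun v hv => ?_⟩
  have hp : ∀ (j : ℕ), ∀ v ∈ E, ρ ((a * a) ^ j) v = t ^ j • v := by
    intro j
    induction j with
    | zero => intro v _; simp
    | succ j ih => intro v hv; rw [pow_succ, rho_mul, hsq v hv, map_smul, ih v hv, smul_smul, pow_succ']
  rw [← hp (m + 1) v hv, ← pow_two, ← pow_mul, show 2 * (m + 1) = 2 * m + 1 + 1 by ring, ← hm, pow_succ,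
    hk', one_mul]

end CfsgLib.HallHigman.FpfTwo
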