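import Cfsg.Agent.Lib.HallHigman.FpfTwo.Triple
import Cfsg.Agent.Lib.HallHigman.FpfTwo.Scalar
import Cfsg.Agent.Lib.HallHigman.FpfTwo.DualCount

/-!
A minimal configuration of three layers does not exist.
-/

set_option autoImplicit false
set_option linter.style.haveILetI false
set_option linter.unusedSectionVars false

open scoped commutatorElement

namespace CfsgLib.HallHigman.FpfTwo

open CfsgLib.BG.FixedLine
open CfsgLib.HallHigman.FpfPower (ext ext_eq ext_mul ext_one ext_ne_zero)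

variable {K W Y : Type*} [Field K] [IsAlgClosed K] [AddCommGroup W] [Module K W] [FiniteDimensional K W]
  [Group Y] [Finite Y]

/-- The exponent of a root of unity. -/
noncomputable def rootLog {q : ℕ} (ω t : K) : ZMod q :=
  haveI := Classical.dec (∃ j : ℕ, ω ^ j = t)
  if h : ∃ j : ℕ, ω ^ j = t then (h.choose : ZMod q) else 0

theorem rootLog_pow {q : ℕ} {ω : K} (hω : IsPrimitiveRoot ω q) (hq : 0 < q) (j : ℕ) :
    rootLog (q := q) ω (ω ^ j) = (j : ZMod q) := by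
  classical
  have h : ∃ i : ℕ, ω ^ i = ω ^ j := ⟨j, rfl⟩
  simp only [rootLog, dif_pos h]
  have hc := h.choose_spec
  obtain ⟨m, hm⟩ : ∃ m, m = h.choose := ⟨_, rfl⟩
  rw [← hm] at hc ⊢
  haveI : NeZero q := ⟨hq.ne'⟩
  rw [← pow_mod_orderOf ω m, ← pow_mod_orderOf ω j, ← hω.eq_orderOf] at hc
  exact (ZMod.natCast_eq_natCast_iff' _ _ q).2
    (hω.pow_inj (Nat.mod_lt _ hq) (Nat.mod_lt _ hq) hc)

set_option maxHeartbeats 1000000 in
theorem Triple.false {ρ : Y →* Module.End K W} {S R : Subgroup Y} {x : Y} {q r₀ n : ℕ}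
    (T : Triple ρ S R x q r₀ n) : False := by
  classical
  haveI := Fact.mk T.hq
  haveI := Fact.mk T.hr₀
  set Z := S ⊓ Subgroup.centralizer (S : Set Y) with hZdef
  set K₀ := R ⊓ Subgroup.centralizer (S : Set Y) with hK₀
  set N := Subgroup.normalizer (S : Set Y) ⊓ Subgroup.normalizer (K₀ : Set Y) with hN
  -- the three actors normalize `S` and the kernel
  have hK₀conj : ∀ g ∈ Subgroup.normalizer (S : Set Y), (∀ u ∈ R, g * u * g⁻¹ ∈ R) →
      g ∈ Subgroup.normalizer (K₀ : Set Y) := fun g hg hgR => mem_normalizer_of_conj fun k hk =>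
    ⟨hgR k hk.1, fun v hv => by
      have hv' : g⁻¹ * v * g ∈ S := by
        have := (Subgroup.mem_normalizer_iff.1 (inv_mem hg) v).1 hv
        rwa [inv_inv] at this
      calc v * (g * k * g⁻¹) = g * (g⁻¹ * v * g * k) * g⁻¹ := by group
        _ = g * (k * (g⁻¹ * v * g)) * g⁻¹ := by rw [hk.2 _ hv']
        _ = g * k * g⁻¹ * v := by group⟩
  have hxN : x ∈ N := ⟨T.xS_mem, hK₀conj x T.xS_mem T.hxR⟩
  have hRN : R ≤ N := fun u hu => ⟨T.R_le_normalizer hu,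
    hK₀conj u (T.R_le_normalizer hu) fun w hw => R.mul_mem (R.mul_mem hu hw) (R.inv_mem hu)⟩
  have hSN : S ≤ N := fun s hs => ⟨Subgroup.le_normalizer hs, mem_normalizer_of_conj fun k hk => by
    rwa [hk.2 s hs, mul_inv_cancel_right]⟩
  have hSR : ∀ s, s ∈ S → s ∈ R → s = 1 := fun s h1 h2 =>
    Subgroup.mem_bot.1 (disjoint_iff_inf_le.1 (IsPGroup.disjoint_of_ne q r₀ T.hqr _ _ T.hS T.hR) ⟨h1, h2⟩)
  have hZK : ∀ z ∈ Z, ∀ k ∈ K₀, z * k = k * z := fun z hz k hk => hk.2 z hz.1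
  let N₀ : Subgroup Y :=
    { carrier := {g | ∃ z ∈ Z, ∃ k ∈ K₀, g = z * k}
      one_mem' := ⟨1, Z.one_mem, 1, K₀.one_mem, (one_mul 1).symm⟩
      mul_mem' := by
        rintro - - ⟨z, hz, k, hk, rfl⟩ ⟨z', hz', k', hk', rfl⟩
        refine ⟨z * z', Z.mul_mem hz hz', k * k', K₀.mul_mem hk hk', ?_⟩
        rw [mul_assoc, ← mul_assoc k, ← hZK z' hz' k hk, mul_assoc, mul_assoc]
      inv_mem' := by
        rintro - ⟨z, hz, k, hk, rfl⟩
        exact ⟨z⁻¹, Z.inv_mem hz, k⁻¹, K₀.inv_mem hk,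
          by rw [mul_inv_rev, hZK z⁻¹ (Z.inv_mem hz) k⁻¹ (K₀.inv_mem hk)]⟩ }
  haveI : (N₀.subgroupOf N).Normal := ⟨by
    rintro m ⟨z, hz, k, hk, e⟩ g
    refine ⟨(g : Y) * z * (g : Y)⁻¹, T.conj_center g.2.1 hz, (g : Y) * k * (g : Y)⁻¹,
      (Subgroup.mem_normalizer_iff.1 g.2.2 k).1 hk, ?_⟩
    rw [Subgroup.coe_subtype] at e ⊢
    rw [Subgroup.coe_mul, Subgroup.coe_mul, Subgroup.coe_inv, e]
    group⟩
  let π : N →* N ⧸ N₀.subgroupOf N := QuotientGroup.mk' _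
  have hπ1 : ∀ g : N, π g = 1 ↔ (g : Y) ∈ N₀ := fun g => QuotientGroup.eq_one_iff g
  have hπS : ∀ g : N, (g : Y) ∈ S → (π g = 1 ↔ (g : Y) ∈ Z) := fun g hg => by
    rw [hπ1]
    refine ⟨?_, fun h => ⟨_, h, 1, K₀.one_mem, (mul_one _).symm⟩⟩
    rintro ⟨z, hz, k, hk, e⟩
    have hk1 : k = 1 := hSR k (by
      rw [show k = z⁻¹ * (g : Y) by rw [e, inv_mul_cancel_left]]
      exact S.mul_mem (S.inv_mem hz.1) hg) hk.1
    rwa [e, hk1, mul_one]
  -- the elementary abelian section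
  set V := (S.subgroupOf N).map π with hVdef
  have hV : Cfsg.IsElementaryAbelian q V := by
    refine ⟨⟨⟨?_⟩⟩, ?_⟩
    · rintro ⟨-, a, ha, rfl⟩ ⟨-, b, hb, rfl⟩
      apply Subtype.ext
      show π a * π b = π b * π a
      rw [← commutatorElement_eq_one_iff_mul_comm, ← map_commutatorElement, hπS _ ((T.commutator_mem_center _ ha _ hb).1)]
      exact T.commutator_mem_center _ ha _ hb
    · rintro - ⟨a, ha, rfl⟩
      rw [← map_pow, hπS _ (S.pow_mem ha q)]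
      exact T.pow_mem_center _ ha
  set H : Subgroup (N ⧸ N₀.subgroupOf N) := ⊤ with hH
  have hHV : H ≤ Subgroup.normalizer (V : Set (N ⧸ N₀.subgroupOf N)) := by
    intro g _
    obtain ⟨a, rfl⟩ := QuotientGroup.mk'_surjective _ g
    refine mem_normalizer_of_conj ?_
    rintro - ⟨s, hs, rfl⟩
    exact ⟨a * s * a⁻¹, (Subgroup.mem_normalizer_iff.1 a.2.1 _).1 hs, by simp [π]⟩
  let τ : N →* H := π.codRestrict H fun _ => Subgroup.mem_top _
  have hτ : ∀ g, ((τ g : H) : N ⧸ N₀.subgroupOf N) = π g := fun _ => rfl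
  have hconj : ∀ (g : N) (v : V) (s : N), (v : N ⧸ N₀.subgroupOf N) = π s →
      ((CfsgLib.Coprime.conjAct hHV (τ g) v : V) : N ⧸ N₀.subgroupOf N) = π (g * s * g⁻¹) := by
    intro g v s hs
    rw [CfsgLib.Coprime.coe_conjAct, hs, hτ, map_mul, map_mul, map_inv]
  haveI := finiteDimensional_dual q (V := V)
  set ρ1 := dualRep q hHV with hρ1
  set B := (R.subgroupOf N).map τ with hBdef
  -- `B` is faithful on the section
  have hfaith : ∀ u : N, (u : Y) ∈ R → (∀ s : N, (s : Y) ∈ S → π ⁅u, s⁆ = 1) → τ u = 1 := by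
    intro u hu hs
    apply Subtype.ext
    rw [hτ]
    refine (hπ1 u).2 ⟨1, Z.one_mem, u, ⟨hu, fun v hv => ?_⟩, (one_mul _).symm⟩
    have hz : ⁅(u : Y), v⁆ ∈ Z := (hπS ⁅u, ⟨v, hSN hv⟩⁆
      (S.mul_mem (T.hRS _ hu v hv) (S.inv_mem hv))).1 (hs ⟨v, hSN hv⟩ hv)
    have hiter : ∀ m : ℕ, (u : Y) ^ m * v * ((u : Y) ^ m)⁻¹ = ⁅(u : Y), v⁆ ^ m * v := by
      intro m
      induction m with
      | zero => simp
      | succ k ih =>
        have hc : Commute (u : Y) (⁅(u : Y), v⁆ ^ k) :=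
          ((T.R_centralizes_center hu) _ (Z.pow_mem hz k)).symm
        rw [show (u : Y) ^ (k + 1) * v * ((u : Y) ^ (k + 1))⁻¹ =
          (u : Y) * ((u : Y) ^ k * v * ((u : Y) ^ k)⁻¹) * (u : Y)⁻¹ by rw [pow_succ']; group, ih,
          ← mul_assoc, hc.eq, pow_succ]
        simp only [commutatorElement_def]
        group
    obtain ⟨k, hk⟩ := T.hR ⟨u, hu⟩
    have hk' : (u : Y) ^ r₀ ^ k = 1 := congrArg Subtype.val hk
    obtain ⟨m, hm⟩ := T.hS ⟨_, hz.1⟩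
    have hm' : ⁅(u : Y), v⁆ ^ q ^ m = 1 := congrArg Subtype.val hm
    have h1 := hiter (r₀ ^ k)
    rw [hk', one_mul, inv_one, mul_one, right_eq_mul] at h1
    have h2 := pow_gcd_eq_one.2 ⟨hm', h1⟩
    rw [(Nat.coprime_pow_primes _ _ T.hq T.hr₀ T.hqr).gcd_eq_one, pow_one] at h2
    exact (commutatorElement_eq_one_iff_mul_comm.1 h2).symm
  have hBfaith : ∀ b ∈ B, ρ1 b = 1 → b = 1 := by
    rintro - ⟨u, hu, rfl⟩ hb
    refine hfaith u hu fun s hs => ?_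
    have h := (dualRep_eq_one_iff q hV hHV (τ u)).1 hb (π s) ⟨s, hs, rfl⟩
    rw [map_commutatorElement, commutatorElement_eq_one_iff_mul_comm]
    exact h.symm
  -- the operator
  set xN : N := ⟨x, hxN⟩ with hxNdef
  set xH := τ xN with hxH
  have hxNr : xN ^ 2 ^ (n + 1) = 1 := Subtype.ext (by simpa using T.hxr)
  have hxHr : xH ^ 2 ^ (n + 1) = 1 := by rw [hxH, ← map_pow, hxNr, map_one]
  set yN := xN ^ 2 ^ n with hyN
  have hyNc : (yN : Y) = x ^ 2 ^ n := by simp [hyN, hxNdef]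
  set yH := xH ^ 2 ^ n with hyH
  have hyτ : yH = τ yN := by rw [hyN, map_pow]
  have hyy : yH ^ 2 = 1 := by rw [hyH, ← pow_mul, ← pow_succ, hxHr]
  have hxB : ∀ b ∈ B, xH * b * xH⁻¹ ∈ B := by
    rintro - ⟨u, hu, rfl⟩
    exact ⟨xN * u * xN⁻¹, T.hxR _ hu, by rw [map_mul, map_mul, map_inv]⟩
  have hyB : ∀ b ∈ B, yH * b * yH⁻¹ ∈ B := fun b hb => FpfPower.conj_pow_mem' hxB _ hb
  have hfix : fix ρ1 xH = ⊥ := by
    refine fix_dualRep_eq_bot q hV hHV xH ?_ (le_bot_iff.1 ?_)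
    · refine Nat.Coprime.coprime_dvd_left (orderOf_dvd_of_pow_eq_one (n := 2 ^ (n + 1)) ?_)
        (((Nat.coprime_primes Nat.prime_two T.hq).2 T.hq2.symm).pow_left _)
      rw [← Subgroup.coe_pow, hxHr, Subgroup.coe_one]
    rintro - ⟨⟨s, hs, rfl⟩, hc⟩
    rw [Subgroup.mem_bot, hπS s hs]
    have h1 : π ⁅xN, s⁆ = 1 := by
      rw [map_commutatorElement, commutatorElement_eq_one_iff_mul_comm]
      exact hc _ rfl
    have hz : ⁅x, (s : Y)⁆ ∈ Z :=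
      (hπS _ (show ⁅x, (s : Y)⁆ ∈ S from S.mul_mem (T.hxS _ hs) (S.inv_mem hs))).1 h1
    let f : Z → Z := fun w => ⟨⁅x, (w : Y)⁆, Z.mul_mem (T.conj_center T.xS_mem w.2) (Z.inv_mem w.2)⟩
    have hf : Function.Injective f := fun a b e => by
      have e' : x * (a : Y) * x⁻¹ * (a : Y)⁻¹ = x * (b : Y) * x⁻¹ * (b : Y)⁻¹ := congrArg Subtype.val e
      refine Subtype.ext (inv_mul_eq_one.1 (T.hCS _ (S.mul_mem (S.inv_mem b.2.1) a.2.1) ?_)).symm
      calc x * ((b : Y)⁻¹ * (a : Y))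
          = (x * (b : Y) * x⁻¹)⁻¹ * (x * (a : Y) * x⁻¹ * (a : Y)⁻¹) * (a : Y) * x := by group
        _ = _ := by rw [e']; group
    obtain ⟨w, hw⟩ := Finite.injective_iff_surjective.1 hf ⟨_, hz⟩
    have hw' : x * (w : Y) * x⁻¹ * (w : Y)⁻¹ = x * (s : Y) * x⁻¹ * (s : Y)⁻¹ := congrArg Subtype.val hw
    have hcomm : (w : Y)⁻¹ * (s : Y) * (w : Y) = (s : Y) := by
      rw [mul_assoc, w.2.2 (s : Y) hs, inv_mul_cancel_left]
    have := T.hCS _ (S.mul_mem (S.inv_mem w.2.1) hs) (by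
      calc x * ((w : Y)⁻¹ * (s : Y))
          = (x * (w : Y) * x⁻¹)⁻¹ * (x * (s : Y) * x⁻¹ * (s : Y)⁻¹) * (s : Y) * x := by group
        _ = (w : Y)⁻¹ * (s : Y) * x := by rw [← hw']; group)
    have e : (w : Y) = (s : Y) := inv_mul_eq_one.1 this
    exact e ▸ w.2
  have hr00 : (r₀ : AlgebraicClosure (ZMod q)) ≠ 0 :=
    natCast_ne_zero_dual q fun h => T.hqr ((Nat.prime_dvd_prime_iff_eq T.hq T.hr₀).1 h)
  have h20 : (2 : AlgebraicClosure (ZMod q)) ≠ 0 := by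
    have := natCast_ne_zero_dual q (n := 2) fun h => T.hq2 ((Nat.prime_dvd_prime_iff_eq T.hq Nat.prime_two).1 h)
    exact_mod_cast this
  have hBp : IsPGroup r₀ B := ((T.hR.of_equiv (Subgroup.subgroupOfEquivOfLe hRN).symm).map τ)
  have hcommA : ∀ A : Subgroup H, A ≤ B → (∀ a ∈ A, ∀ b ∈ A, a * b = b * a) →
      (∀ a ∈ A, xH * a * xH⁻¹ ∈ A) → ∀ a ∈ A, yH * a = a * yH := by
    intro A hAB hAab hxA a ha
    have h := commute_of_abelian ρ1 hxHr hfix hAab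
      (natCast_ne_zero_of_isPGroup (K := AlgebraicClosure (ZMod q)) (hBp.to_le hAB) hr00) hxA a ha
    rw [← commutatorElement_eq_one_iff_mul_comm]
    refine hBfaith _ (B.mul_mem (hyB a (hAB ha)) (B.inv_mem (hAB ha))) ?_
    rw [← hyH] at h
    rw [commutatorElement_def, map_mul, map_mul, map_mul, h, mul_assoc (ρ1 a), ← map_mul ρ1 yH,
      mul_inv_cancel, map_one, mul_one, ← map_mul, mul_inv_cancel, map_one]
  -- `B` is generated by commutators with the involution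
  have hBgen : ∀ M : Subgroup H, (∀ b ∈ B, ⁅yH, b⁆ ∈ M) → B ≤ M := by
    intro M hM
    have h := T.le_of_comm_mem (H := (M.comap τ).map N.subtype) fun u hu =>
      ⟨⁅yN, ⟨u, hRN hu⟩⁆, Subgroup.mem_comap.2 (by
        rw [map_commutatorElement, ← hyτ]; exact hM _ ⟨⟨u, hRN hu⟩, hu, rfl⟩), by
        show ⁅(yN : Y), u⁆ = ⁅x ^ 2 ^ n, u⁆; rw [hyNc]⟩
    rintro - ⟨u, hu, rfl⟩
    obtain ⟨u', hu', e⟩ := h hu
    exact (Subtype.ext e : u' = u) ▸ hu'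
  -- small preimages are centralized
  have hpre : ∀ D : Subgroup H, D ≤ B → (∀ a ∈ D, xH * a * xH⁻¹ ∈ D) → ¬ B ≤ D →
      ∀ a ∈ D, yH * a = a * yH := by
    intro D hDB hxD hne a ha
    set D' := R ⊓ (D.comap τ).map N.subtype with hD'
    have hlt : D' < R := by
      refine lt_of_le_of_ne inf_le_left fun e => hne ?_
      rintro - ⟨u, hu, rfl⟩
      obtain ⟨u', hu', e'⟩ := (e.ge hu).2
      exact (Subtype.ext e' : u' = u) ▸ hu'
    have hxD' : ∀ u ∈ D', x * u * x⁻¹ ∈ D' := by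
      rintro u ⟨hu, u', hu', rfl⟩
      refine ⟨T.hxR _ hu, xN * u' * xN⁻¹, Subgroup.mem_comap.2 ?_, rfl⟩
      rw [map_mul, map_mul, map_inv]
      exact hxD _ hu'
    obtain ⟨u, hu, rfl⟩ := hDB ha
    have hc := T.comm_mem_centralizer hlt hxD' (u : Y) ⟨hu, u, ha, rfl⟩
    rw [hyτ, ← commutatorElement_eq_one_iff_mul_comm, ← map_commutatorElement]
    refine hfaith _ ?_ fun s hs => ?_
    · show ⁅(yN : Y), (u : Y)⁆ ∈ R
      rw [hyNc]
      exact R.mul_mem (T.hyR _ hu) (R.inv_mem hu)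
    · rw [hπS _ ?_]
      · show ⁅⁅(yN : Y), (u : Y)⁆, (s : Y)⁆ ∈ Z
        rw [hyNc, hc _ hs]
        exact Z.one_mem
      · show ⁅⁅(yN : Y), (u : Y)⁆, (s : Y)⁆ ∈ S
        rw [hyNc, hc _ hs]
        exact S.one_mem
  obtain ⟨a₀, ha₀, b₀, hb₀, hab₀⟩ : ∃ a ∈ B, ∃ b ∈ B, a * b ≠ b * a := by
    by_contra hno
    push Not at hno
    have hy1 := hcommA B le_rfl hno hxB
    obtain ⟨u, hu, v, hv, hne⟩ := T.hmove
    have h1 : τ ⁅yN, ⟨u, hRN hu⟩⁆ = 1 := by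
      rw [map_commutatorElement, ← hyτ, commutatorElement_eq_one_iff_mul_comm]
      exact hy1 _ ⟨⟨u, hRN hu⟩, hu, rfl⟩
    obtain ⟨z, hz, k, hk, e⟩ := (hπ1 _).1 ((hτ _).symm.trans (congrArg Subtype.val h1))
    have e' : ⁅x ^ 2 ^ n, u⁆ = z * k := by rw [← hyNc]; exact e
    refine hne (commutatorElement_eq_one_iff_mul_comm.2 ?_)
    rw [e', mul_assoc, ← hk.2 v hv, ← mul_assoc, ← hz.2 v hv, mul_assoc]
  set Zc := B ⊓ Subgroup.centralizer (B : Set H) with hZcdef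
  have hcen : ∀ z ∈ Zc, ∀ b ∈ B, z * b = b * z := fun z hz b hb => (hz.2 b hb).symm
  have hxZc : ∀ z ∈ Zc, xH * z * xH⁻¹ ∈ Zc := by
    intro z hz
    refine ⟨hxB z hz.1, fun b hb => ?_⟩
    have hb' : xH⁻¹ * b * xH ∈ B := by
      have := (Subgroup.mem_normalizer_iff.1 (inv_mem (mem_normalizer_of_conj hxB)) b).1 hb
      rwa [inv_inv] at this
    calc b * (xH * z * xH⁻¹) = xH * (xH⁻¹ * b * xH * z) * xH⁻¹ := by group
      _ = xH * (z * (xH⁻¹ * b * xH)) * xH⁻¹ := by rw [hz.2 _ hb']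
      _ = xH * z * xH⁻¹ * b := by group
  have hyZ : ∀ z ∈ Zc, yH * z = z * yH :=
    hcommA Zc inf_le_left (fun a ha b hb => hcen a ha b hb.1) hxZc
  set Ay := Subgroup.zpowers yH with hAy
  have hAyB : Ay ≤ Subgroup.normalizer (B : Set H) := zpowers_le_normalizer hyB
  have hBA : ⁅B, Ay⁆ = B := le_antisymm (CfsgLib.Coprime.commutator_le_left_of_le_normalizer hAyB)
    (hBgen _ fun b hb => by
      rw [← commutatorElement_inv]
      exact inv_mem (Subgroup.commutator_mem_commutator hb (Subgroup.mem_zpowers _)))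
  have hDy : ∀ d ∈ ⁅B, B⁆, yH * d = d * yH := by
    have hle : ⁅B, B⁆ ≤ B := Subgroup.commutator_le.2 fun a ha b hb =>
      B.mul_mem (B.mul_mem (B.mul_mem ha hb) (B.inv_mem ha)) (B.inv_mem hb)
    refine hpre _ hle (conj_mem_of_le_normalizer (CfsgLib.Coprime.le_normalizer_commutator
      (zpowers_le_normalizer hxB) (zpowers_le_normalizer hxB) (Subgroup.mem_zpowers xH))) fun hBD => ?_
    haveI := hBp.isNilpotent
    haveI : Nontrivial B := (Subgroup.nontrivial_iff_ne_bot B).2 fun e => hab₀ (by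
      rw [e, Subgroup.mem_bot] at ha₀
      rw [ha₀, one_mul, mul_one])
    have h1 := Group.IsSolvable.commutator_lt_top_of_nontrivial B
    have h2 := (Subgroup.map_lt_map_iff_of_injective (f := B.subtype) B.subtype_injective).2 h1
    rw [← MonoidHom.range_eq_map, Subgroup.range_subtype, Subgroup.map_subtype_commutator] at h2
    exact h2.not_ge hBD
  set E := B ⊓ Subgroup.centralizer (Ay : Set H) with hE
  have hEmem : ∀ {b : H}, b ∈ B → yH * b = b * yH → b ∈ E := fun {b} hb hc => ⟨hb, fun a ha => by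
    obtain ⟨i, rfl⟩ := Subgroup.mem_zpowers_iff.1 ha
    exact ((show Commute yH b from hc).zpow_left i).eq⟩
  have hEn : B ≤ Subgroup.normalizer (E : Set H) := fun b hb => mem_normalizer_of_conj fun e he => by
    rw [show b * e * b⁻¹ = ⁅b, e⁆ * e by simp only [commutatorElement_def]; group]
    refine E.mul_mem ?_ he
    exact hEmem (B.mul_mem (B.mul_mem (B.mul_mem hb he.1) (B.inv_mem hb)) (B.inv_mem he.1))
      (hDy _ (Subgroup.commutator_mem_commutator hb he.1))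
  have hEcen : ∀ e ∈ E, e ∈ Zc := fun e he =>
    ⟨he.1, fun b hb => (central_of_centralizes hEn inf_le_right hBA e he b hb).symm⟩
  have hder : ∀ a ∈ B, ∀ b ∈ B, ⁅a, b⁆ ∈ Zc := fun a ha b hb =>
    hEcen _ (hEmem (B.mul_mem (B.mul_mem (B.mul_mem ha hb) (B.inv_mem ha)) (B.inv_mem hb))
      (hDy _ (Subgroup.commutator_mem_commutator ha hb)))
  have hyU : ∀ b ∈ B, ⁅yH, b⁆ ∈ Zc → b ∈ Zc := by
    let C : Subgroup H :=
      { carrier := {b | b ∈ B ∧ ⁅yH, b⁆ ∈ Zc}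
        one_mem' := ⟨B.one_mem, by rw [commutatorElement_one_right]; exact Zc.one_mem⟩
        mul_mem' := fun {a b} ha hb => ⟨B.mul_mem ha.1 hb.1, by
          rw [show ⁅yH, a * b⁆ = ⁅yH, a⁆ * (a * ⁅yH, b⁆ * a⁻¹) by simp only [commutatorElement_def]; group,
            ← hcen _ hb.2 a ha.1, mul_inv_cancel_right]
          exact Zc.mul_mem ha.2 hb.2⟩
        inv_mem' := fun {a} ha => ⟨B.inv_mem ha.1, by
          rw [show ⁅yH, a⁻¹⁆ = a⁻¹ * ⁅yH, a⁆⁻¹ * a by simp only [commutatorElement_def]; group,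
            mul_assoc, hcen _ (Zc.inv_mem ha.2) a ha.1, inv_mul_cancel_left]
          exact Zc.inv_mem ha.2⟩ }
    intro b hb hb'
    refine hEcen _ (hEmem hb (hpre C (fun a ha => ha.1) ?_ (fun hBC => ?_) b ⟨hb, hb'⟩))
    · rintro a ⟨ha, ha'⟩
      refine ⟨hxB a ha, ?_⟩
      have e : xH * yH * xH⁻¹ = yH := by rw [hyH, (Commute.self_pow xH (2 ^ n)).eq, mul_inv_cancel_right]
      have h := hxZc _ ha'
      rwa [show xH * ⁅yH, a⁆ * xH⁻¹ = ⁅xH * yH * xH⁻¹, xH * a * xH⁻¹⁆ by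
        simp only [commutatorElement_def]; group, e] at h
    · have hBZ : B ≤ Zc := hBgen _ fun a ha => (hBC ha).2
      exact hab₀ (hcen _ (hBZ ha₀) _ hb₀)
  have P : Pieces ρ1 B Zc yH r₀ :=
    { hr₀ := T.hr₀, hr₀2 := T.hr₀2, hr00 := hr00, h2 := h20, hB := hBp, hZB := inf_le_left
      hcen := hcen, hder := hder, hy2 := hyy, hyB := hyB, hyZ := hyZ, hyU := hyU
      hscal := fun μ hμ a ha ha' =>
        scalar_rad ρ1 T.hr₀ T.hr₀2 hr00 hxHr hfix hBp inf_le_left hxB hxZc hcen hder hyU hyZ μ hμ ha ha' }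
  -- a character of the centre seeing the moved commutator
  obtain ⟨ua, hua, rfl⟩ := ha₀
  obtain ⟨ub, hub, rfl⟩ := hb₀
  have hcR : (⁅ua, ub⁆ : N).1 ∈ R :=
    R.mul_mem (R.mul_mem (R.mul_mem hua hub) (R.inv_mem hua)) (R.inv_mem hub)
  obtain ⟨v, hvS, hvne⟩ : ∃ v : N, (v : Y) ∈ S ∧ π ⁅⁅ua, ub⁆, v⁆ ≠ 1 := by
    by_contra hno
    push Not at hno
    refine hab₀ ?_
    rw [← commutatorElement_eq_one_iff_mul_comm, ← map_commutatorElement]
    exact hfaith _ hcR hno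
  set c := ((⁅ua, ub⁆ : N) : Y) with hc
  have hcv : ⁅c, (v : Y)⁆ ∈ S := S.mul_mem (T.hRS _ hcR _ hvS) (S.inv_mem hvS)
  obtain ⟨w, hw, hwne⟩ : ∃ w ∈ S, ⁅⁅c, (v : Y)⁆, w⁆ ≠ 1 := by
    by_contra hno
    push Not at hno
    exact hvne ((hπS ⁅⁅ua, ub⁆, v⁆ hcv).2
      ⟨hcv, fun w hw => (commutatorElement_eq_one_iff_mul_comm.1 (hno w hw)).symm⟩)
  have hd : ⁅⁅c, (v : Y)⁆, w⁆ ∈ Z := T.commutator_mem_center _ hcv _ hw
  have hZ0 : (Nat.card Z : K) ≠ 0 := natCast_ne_zero_of_isPGroup (K := K) (T.hS.to_le inf_le_left) T.hq0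
  have hcenS : ∀ z ∈ Z, ∀ s ∈ S, z * s = s * z := fun z hz s hs => (hz.2 s hs).symm
  obtain ⟨μ, hμ, hμd⟩ : ∃ μ, comp ρ Z μ ≠ ⊥ ∧ ext μ ⁅⁅c, (v : Y)⁆, w⁆ ≠ 1 := by
    by_contra hno
    push Not at hno
    refine hwne (T.hinj ?_)
    rw [map_one]
    refine eq_of_eq_on_comp ρ Z (fun a ha b hb => hcenS a ha b hb.1) hZ0 fun μ t ht => ?_
    by_cases hbot : comp ρ Z μ = ⊥
    · rw [hbot, Submodule.mem_bot] at ht
      simp [ht]
    · rw [ht ⟨_, hd⟩, ← ext_eq μ hd, hno μ hbot, one_smul, Module.End.one_apply]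
  have hcm := T.commutator_mem_center
  have hmulL : ∀ {a b t : Y}, a ∈ S → b ∈ S → t ∈ S →
      ext μ ⁅a * b, t⁆ = ext μ ⁅a, t⁆ * ext μ ⁅b, t⁆ := by
    intro a b t ha hb ht
    rw [← ext_mul μ (hcm a ha t ht) (hcm b hb t ht),
      show ⁅a * b, t⁆ = a * ⁅b, t⁆ * a⁻¹ * ⁅a, t⁆ by simp only [commutatorElement_def]; group,
      ← hcenS _ (hcm b hb t ht) a ha, mul_inv_cancel_right,
      hcenS _ (hcm b hb t ht) _ (hcm a ha t ht).1]
  have hanti : ∀ {a b : Y}, a ∈ S → b ∈ S → ext μ ⁅b, a⁆ * ext μ ⁅a, b⁆ = 1 := fun {a b} ha hb => by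
    rw [← ext_mul μ (hcm b hb a ha) (hcm a ha b hb), ← commutatorElement_inv, inv_mul_cancel, ext_one]
  have hmulR : ∀ {a b t : Y}, a ∈ S → b ∈ S → t ∈ S →
      ext μ ⁅a, b * t⁆ = ext μ ⁅a, b⁆ * ext μ ⁅a, t⁆ := by
    intro a b t ha hb ht
    rw [← ext_mul μ (hcm a ha b hb) (hcm a ha t ht),
      show ⁅a, b * t⁆ = ⁅a, b⁆ * (b * ⁅a, t⁆ * b⁻¹) by simp only [commutatorElement_def]; group,
      ← hcenS _ (hcm a ha t ht) b hb, mul_inv_cancel_right]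
  -- the radical
  let Rd : Subgroup Y :=
    { carrier := {u | u ∈ S ∧ ∀ t ∈ S, ext μ ⁅u, t⁆ = 1}
      one_mem' := ⟨S.one_mem, fun t _ => by rw [commutatorElement_one_left, ext_one]⟩
      mul_mem' := fun {a b} ha hb => ⟨S.mul_mem ha.1 hb.1, fun t ht => by
        rw [hmulL ha.1 hb.1 ht, ha.2 t ht, hb.2 t ht, one_mul]⟩
      inv_mem' := fun {a} ha => ⟨S.inv_mem ha.1, fun t ht => by
        have h := hmulL (S.inv_mem ha.1) ha.1 ht
        rw [inv_mul_cancel, commutatorElement_one_left, ext_one, ha.2 t ht, mul_one] at h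
        exact h.symm⟩ }
  have hRdS : ∀ s ∈ S, ∀ r ∈ Rd, s * r * s⁻¹ ∈ Rd := fun s hs r hr => by
    rw [show s * r * s⁻¹ = ⁅s, r⁆ * r by simp only [commutatorElement_def]; group]
    refine Rd.mul_mem ⟨(hcm s hs r hr.1).1, fun t ht => ?_⟩ hr
    rw [commutatorElement_eq_one_iff_mul_comm.2 (hcenS _ (hcm s hs r hr.1) t ht), ext_one]
  have hRdR : ∀ u ∈ R, ∀ r ∈ Rd, u * r * u⁻¹ ∈ Rd := fun u hu r hr => by
    refine ⟨T.hRS u hu r hr.1, fun t ht => ?_⟩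
    have ht' : u⁻¹ * t * u ∈ S := by
      have := T.hRS u⁻¹ (R.inv_mem hu) t ht
      rwa [inv_inv] at this
    rw [show ⁅u * r * u⁻¹, t⁆ = u * ⁅r, u⁻¹ * t * u⁆ * u⁻¹ by simp only [commutatorElement_def]; group,
      ← (T.R_centralizes_center hu) _ (hcm r hr.1 _ ht'), mul_inv_cancel_right, hr.2 _ ht']
  -- the involution moves modulo the radical
  have hmove : ∃ t ∈ S, t⁻¹ * (x ^ 2 ^ n * t * (x ^ 2 ^ n)⁻¹) ∉ Rd := by
    by_contra hno
    push Not at hno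
    let M : Subgroup Y :=
      { carrier := {u | u ∈ R ∧ ∀ t ∈ S, t⁻¹ * (u * t * u⁻¹) ∈ Rd}
        one_mem' := ⟨R.one_mem, fun t _ => by simpa using Rd.one_mem⟩
        mul_mem' := fun {a b} ha hb => ⟨R.mul_mem ha.1 hb.1, fun t ht => by
          rw [show t⁻¹ * (a * b * t * (a * b)⁻¹) =
            t⁻¹ * (a * t * a⁻¹) * (a * (t⁻¹ * (b * t * b⁻¹)) * a⁻¹) by group]
          exact Rd.mul_mem (ha.2 t ht) (hRdR a ha.1 _ (hb.2 t ht))⟩
        inv_mem' := fun {a} ha => ⟨R.inv_mem ha.1, fun t ht => by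
          have h := Rd.inv_mem (hRdR _ (R.inv_mem ha.1) _ (ha.2 t ht))
          rwa [show (a⁻¹ * (t⁻¹ * (a * t * a⁻¹)) * a⁻¹⁻¹)⁻¹ = t⁻¹ * (a⁻¹ * t * a⁻¹⁻¹) by group] at h⟩ }
    have hRM : R ≤ M := T.le_of_comm_mem fun u hu => by
      refine ⟨R.mul_mem (T.hyR u hu) (R.inv_mem hu), fun t ht => ?_⟩
      set y := x ^ 2 ^ n with hy
      have hyi : y⁻¹ = y := inv_eq_of_mul_eq_one_left T.hyy
      have ht' : u⁻¹ * t * u ∈ S := by
        have := T.hRS u⁻¹ (R.inv_mem hu) t ht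
        rwa [inv_inv] at this
      have h1 : t⁻¹ * (u * (y⁻¹ * (u⁻¹ * t * u) * y) * u⁻¹) ∈ Rd := by
        have h := hRdR u hu _ (hno _ ht')
        rw [show u * ((u⁻¹ * t * u)⁻¹ * (y * (u⁻¹ * t * u) * y⁻¹)) * u⁻¹ =
          t⁻¹ * (u * (y * (u⁻¹ * t * u) * y⁻¹) * u⁻¹) by group] at h
        rwa [hyi] at h ⊢
      have h2S : u * (y⁻¹ * (u⁻¹ * t * u) * y) * u⁻¹ ∈ S := T.hRS u hu _ (by
        have := T.hyS _ ht'
        rw [hyi] at this ⊢
        exact this)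
      have h2 := Rd.mul_mem h1 (hno _ h2S)
      rw [show t⁻¹ * (⁅y, u⁆ * t * ⁅y, u⁆⁻¹) = t⁻¹ * (u * (y⁻¹ * (u⁻¹ * t * u) * y) * u⁻¹) *
        ((u * (y⁻¹ * (u⁻¹ * t * u) * y) * u⁻¹)⁻¹ * (y * (u * (y⁻¹ * (u⁻¹ * t * u) * y) * u⁻¹) * y⁻¹)) by
        simp only [commutatorElement_def]; group]
      exact h2
    refine hμd ?_
    have h := hRdS _ hvS _ ((hRM hcR).2 _ hvS)
    rw [show (v : Y) * ((v : Y)⁻¹ * (c * (v : Y) * c⁻¹)) * (v : Y)⁻¹ = ⁅c, (v : Y)⁆ by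
      simp only [commutatorElement_def]; group] at h
    exact h.2 w hw
  obtain ⟨i, c', hgr, hgy, hgμ, hgRd, hineq⟩ := side (ρ := ρ) T.hq T.hq0 T.h2 T.hxr T.hfix T.hS T.hxS
    inf_le_left (fun z hz => T.conj_center T.xS_mem hz) hcenS hcm T.y_centralizes_center hμ
    (Rd := Rd) (fun u => Iff.rfl) hmove
  -- the form on the section
  set gN := xN ^ i with hgN
  set gH := τ gN with hgH
  have hgc : (gN : Y) = x ^ i := by simp [hgN, hxNdef]
  set C := (Rd.subgroupOf N).map π with hC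
  have hRdN : Rd ≤ N := fun r hr => hSN hr.1
  have hmemC : ∀ s : N, (s : Y) ∈ S → (π s ∈ C ↔ (s : Y) ∈ Rd) := by
    refine fun s hs => ⟨?_, fun h => ⟨s, h, rfl⟩⟩
    rintro ⟨r, hr, e⟩
    have hr' : (r : Y) ∈ Rd := hr
    have hz : (r : Y)⁻¹ * (s : Y) ∈ Z :=
      (hπS (r⁻¹ * s) (S.mul_mem (S.inv_mem hr'.1) hs)).1 (by rw [map_mul, map_inv, e, inv_mul_cancel])
    rw [← mul_inv_cancel_left (r : Y) (s : Y)]
    refine Rd.mul_mem hr' ⟨hz.1, fun t ht => ?_⟩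
    rw [commutatorElement_eq_one_iff_mul_comm.2 (hcenS _ hz t ht), ext_one]
  haveI : NeZero (q : K) := ⟨T.hq0⟩
  haveI : NeZero q := ⟨T.hq.ne_zero⟩
  obtain ⟨ω, hω⟩ := HasEnoughRootsOfUnity.exists_primitiveRoot K q
  have hroot : ∀ {a b : Y}, a ∈ S → b ∈ S → ∃ j : ℕ, ω ^ j = ext μ ⁅a, b⁆ := by
    intro a b ha hb
    have h1 : ext μ ⁅a, b⁆ ^ q = 1 := by
      have hp : ∀ m : ℕ, ext μ ⁅a ^ m, b⁆ = ext μ ⁅a, b⁆ ^ m := by
        intro m
        induction m with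
        | zero => rw [pow_zero, pow_zero, commutatorElement_one_left, ext_one]
        | succ k ih => rw [pow_succ, pow_succ, hmulL (S.pow_mem ha k) ha hb, ih]
      rw [← hp q, commutatorElement_eq_one_iff_mul_comm.2 (hcenS _ (T.pow_mem_center a ha) b hb), ext_one]
    obtain ⟨j, -, hj⟩ := hω.eq_pow_of_pow_eq_one h1
    exact ⟨j, hj⟩
  have hlift : ∀ t : V, ∃ s : N, (s : Y) ∈ S ∧ π s = t := fun t => by
    obtain ⟨s, hs, e⟩ := t.2
    exact ⟨s, hs, e⟩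
  choose sec hsecS hsec using hlift
  let L : N → N → ZMod q := fun a b => rootLog ω (ext μ ⁅(a : Y), (b : Y)⁆)
  have hLmulR : ∀ a b t : N, (a : Y) ∈ S → (b : Y) ∈ S → (t : Y) ∈ S → L a (b * t) = L a b + L a t := by
    intro a b t ha hb ht
    obtain ⟨j, hj⟩ := hroot ha hb
    obtain ⟨l, hl⟩ := hroot ha ht
    simp only [L, Subgroup.coe_mul]
    rw [hmulR ha hb ht, ← hj, ← hl, ← pow_add, rootLog_pow hω T.hq.pos, rootLog_pow hω T.hq.pos,
      rootLog_pow hω T.hq.pos, Nat.cast_add]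
  have hZext : ∀ {z t : Y}, z ∈ Z → t ∈ S → ext μ ⁅z, t⁆ = 1 ∧ ext μ ⁅t, z⁆ = 1 := fun {z t} hz ht =>
    ⟨by rw [commutatorElement_eq_one_iff_mul_comm.2 (hcenS z hz t ht), ext_one],
      by rw [commutatorElement_eq_one_iff_mul_comm.2 (hcenS z hz t ht).symm, ext_one]⟩
  have hind : ∀ a a' b b' : N, (a : Y) ∈ S → (a' : Y) ∈ S → (b : Y) ∈ S → (b' : Y) ∈ S → π a = π a' →
      π b = π b' → L a b = L a' b' := by
    intro a a' b b' ha ha' hb hb' e1 e2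
    have hz1 : (a : Y)⁻¹ * (a' : Y) ∈ Z :=
      (hπS (a⁻¹ * a') (S.mul_mem (S.inv_mem ha) ha')).1 (by rw [map_mul, map_inv, e1, inv_mul_cancel])
    have hz2 : (b : Y)⁻¹ * (b' : Y) ∈ Z :=
      (hπS (b⁻¹ * b') (S.mul_mem (S.inv_mem hb) hb')).1 (by rw [map_mul, map_inv, e2, inv_mul_cancel])
    show rootLog ω _ = rootLog ω _
    congr 1
    rw [← mul_inv_cancel_left (a : Y) (a' : Y), ← mul_inv_cancel_left (b : Y) (b' : Y),
      hmulL ha hz1.1 (S.mul_mem hb hz2.1), (hZext hz1 (S.mul_mem hb hz2.1)).1, mul_one,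
      hmulR ha hb hz2.1, (hZext hz2 ha).2, mul_one]
  let Bp : V → (Additive V →+ ZMod q) := fun a =>
    AddMonoidHom.mk' (fun b => L (sec a) (sec (Additive.toMul b))) fun b t => by
      rw [← hLmulR _ _ _ (hsecS _) (hsecS _) (hsecS _)]
      exact hind _ _ _ _ (hsecS _) (hsecS _) (hsecS _) (S.mul_mem (hsecS _) (hsecS _)) rfl
        (by rw [map_mul, hsec, hsec, hsec]; rfl)
  have hBp' : ∀ (a b : V) (sa sb : N), (sa : Y) ∈ S → (sb : Y) ∈ S → π sa = a → π sb = b →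
      Bp a (Additive.ofMul b) = L sa sb := fun a b sa sb h1 h2 e1 e2 =>
    hind _ _ _ _ (hsecS _) h1 (hsecS _) h2 ((hsec a).trans e1.symm) ((hsec b).trans e2.symm)
  have hLanti : ∀ a b : N, (a : Y) ∈ S → (b : Y) ∈ S → L a b = -L b a := by
    intro a b ha hb
    obtain ⟨j, hj⟩ := hroot ha hb
    obtain ⟨l, hl⟩ := hroot hb ha
    have h1 : ω ^ (l + j) = ω ^ 0 := by rw [pow_add, hj, hl, pow_zero, hanti ha hb]
    have h2 := congrArg (rootLog (q := q) ω) h1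
    rw [rootLog_pow hω T.hq.pos, rootLog_pow hω T.hq.pos, Nat.cast_add, Nat.cast_zero] at h2
    show rootLog ω _ = -rootLog ω _
    rw [← hj, ← hl, rootLog_pow hω T.hq.pos, rootLog_pow hω T.hq.pos, eq_neg_iff_add_eq_zero, add_comm]
    exact h2
  refine dual_count hV hHV T.hq2 T.hqr P (g := gH) (c := c') ?_ ?_ ?_ ?_ (C := C)
    (Subgroup.map_mono fun r hr => (show (r : Y) ∈ Rd from hr).1) ?_ ?_ Bp ?_ ?_ ?_ ?_
    (a₀ := τ ua) (b₀ := τ ub) ⟨ua, hua, rfl⟩ ⟨ub, hub, rfl⟩ (v₀ := ⟨π v, v, hvS, rfl⟩) ?_ ?_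
  · rw [hgH, ← map_pow, show gN ^ 2 ^ (c' + 1) = 1 from Subtype.ext (by simpa [hgc] using hgr), map_one]
  · rw [hgH, hyτ, ← map_pow]
    congr 1
    exact Subtype.ext (by simpa [hgc, hyNc] using hgy)
  · intro b hb
    rw [hgH, hgN, map_pow]
    exact FpfPower.conj_pow_mem' hxB _ hb
  · intro z hz
    rw [hgH, hgN, map_pow]
    exact FpfPower.conj_pow_mem' hxZc _ hz
  · rintro - ⟨u, hu, rfl⟩ - ⟨r, hr, rfl⟩
    exact ⟨u * r * u⁻¹, hRdR _ hu _ hr, by rw [hτ, map_mul, map_mul, map_inv]⟩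
  · rintro - ⟨r, hr, rfl⟩
    refine ⟨gN * r * gN⁻¹, ?_, by rw [hgH, hτ, map_mul, map_mul, map_inv]⟩
    have := hgRd _ hr
    rw [← hgc] at this
    exact this
  · intro a b hb
    have hb' := (hmemC (sec b) (hsecS b)).1 (by rwa [hsec])
    rw [hBp' a b _ _ (hsecS a) (hsecS b) (hsec a) (hsec b), hLanti _ _ (hsecS a) (hsecS b), neg_eq_zero]
    show rootLog ω _ = _
    rw [hb'.2 _ (hsecS a), ← pow_zero ω, rootLog_pow hω T.hq.pos, Nat.cast_zero]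
  · intro a b hab
    rw [← hsec a, ← hsec b, ← map_inv, ← map_mul, hmemC _ (S.mul_mem (S.inv_mem (hsecS a)) (hsecS b))]
    refine ⟨S.mul_mem (S.inv_mem (hsecS a)) (hsecS b), fun t ht => ?_⟩
    obtain ⟨j, hj⟩ := hroot (hsecS a) ht
    obtain ⟨l, hl⟩ := hroot (hsecS b) ht
    have h1 := DFunLike.congr_fun hab (Additive.ofMul (⟨π ⟨t, hSN ht⟩, ⟨t, hSN ht⟩, ht, rfl⟩ : V))
    rw [hBp' a _ _ ⟨t, hSN ht⟩ (hsecS a) ht (hsec a) rfl, hBp' b _ _ ⟨t, hSN ht⟩ (hsecS b) ht (hsec b) rfl] at h1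
    have hL1 : L (sec a) ⟨t, hSN ht⟩ = (j : ZMod q) := by
      show rootLog ω _ = _
      rw [← hj, rootLog_pow hω T.hq.pos]
    have hL2 : L (sec b) ⟨t, hSN ht⟩ = (l : ZMod q) := by
      show rootLog ω _ = _
      rw [← hl, rootLog_pow hω T.hq.pos]
    rw [hL1, hL2, ZMod.natCast_eq_natCast_iff'] at h1
    have h2 : ext μ ⁅(sec a : Y), t⁆ = ext μ ⁅(sec b : Y), t⁆ := by
      rw [← hj, ← hl, ← pow_mod_orderOf ω j, ← pow_mod_orderOf ω l, ← hω.eq_orderOf, h1]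
    have h3 := hmulL (hsecS a) (S.mul_mem (S.inv_mem (hsecS a)) (hsecS b)) ht
    rw [mul_inv_cancel_left, ← h2] at h3
    exact (mul_eq_left₀ (ext_ne_zero μ (hcm _ (hsecS a) t ht))).1 h3.symm
  · intro a b
    rw [hBp' a b _ _ (hsecS a) (hsecS b) (hsec a) (hsec b),
      hBp' b a _ _ (hsecS b) (hsecS a) (hsec b) (hsec a)]
    exact hLanti _ _ (hsecS a) (hsecS b)
  · rintro ⟨-, ⟨u, hu, rfl⟩, -⟩ a b
    have huS : ∀ t : N, (t : Y) ∈ S → ((u * t * u⁻¹ : N) : Y) ∈ S := fun t ht => T.hRS _ hu _ ht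
    rw [hBp' _ _ _ _ (huS _ (hsecS a)) (huS _ (hsecS b)) (hconj u a _ (hsec a).symm).symm
      (hconj u b _ (hsec b).symm).symm, hBp' a b _ _ (hsecS a) (hsecS b) (hsec a) (hsec b)]
    show rootLog ω _ = rootLog ω _
    congr 2
    have hz := hcm _ (hsecS a) _ (hsecS b)
    calc ⁅((u * sec a * u⁻¹ : N) : Y), ((u * sec b * u⁻¹ : N) : Y)⁆
        = (u : Y) * ⁅(sec a : Y), (sec b : Y)⁆ * (u : Y)⁻¹ := by
          simp only [Subgroup.coe_mul, Subgroup.coe_inv, commutatorElement_def]; group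
      _ = _ := by rw [← (T.R_centralizes_center (show (u : Y) ∈ R from hu)) _ hz, mul_inv_cancel_right]
  · intro hin
    rw [← map_commutatorElement, hconj ⁅ua, ub⁆ _ v rfl] at hin
    change (π v)⁻¹ * π (⁅ua, ub⁆ * v * ⁅ua, ub⁆⁻¹) ∈ C at hin
    rw [← map_inv, ← map_mul] at hin
    have h := (hmemC _ (S.mul_mem (S.inv_mem hvS) (T.hRS c hcR _ hvS))).1 hin
    have h2 := hRdS _ hvS _ h
    refine hμd (Eq.trans ?_ (h2.2 w hw))
    congr 2
    show ⁅c, (v : Y)⁆ = (v : Y) * ((v : Y)⁻¹ * (c * (v : Y) * c⁻¹)) * (v : Y)⁻¹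
    simp only [commutatorElement_def]
    group
  · intro Fy F4 hFy hF4
    have htr : ∀ (m : ℕ) (F : Subgroup (N ⧸ N₀.subgroupOf N)),
        (∀ t, t ∈ F ↔ t ∈ V ∧ t⁻¹ * ((gH : N ⧸ N₀.subgroupOf N) ^ m * t *
          ((gH : N ⧸ N₀.subgroupOf N) ^ m)⁻¹) ∈ C) →
        ∀ s, s ∈ S ⊓ (F.comap π).map N.subtype ↔
          s ∈ S ∧ s⁻¹ * ((x ^ i) ^ m * s * ((x ^ i) ^ m)⁻¹) ∈ Rd := by
      intro m F hF s
      have hkey : ∀ t : N, (t : Y) ∈ S → (π t ∈ F ↔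
          (t : Y)⁻¹ * ((x ^ i) ^ m * (t : Y) * ((x ^ i) ^ m)⁻¹) ∈ Rd) := by
        intro t ht
        have hcj : ((t⁻¹ * (gN ^ m * t * (gN ^ m)⁻¹) : N) : Y) ∈ S := by
          refine S.mul_mem (S.inv_mem ht) ?_
          exact (Subgroup.mem_normalizer_iff.1 (gN ^ m).2.1 _).1 ht
        rw [hF, and_iff_right (show π t ∈ V from ⟨t, ht, rfl⟩), hgH, hτ, ← map_pow, ← map_inv, ← map_inv,
          ← map_mul, ← map_mul, ← map_mul, hmemC _ hcj]
        simp [hgc]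
      constructor
      · rintro ⟨hs, t, ht, rfl⟩
        exact ⟨hs, (hkey t hs).1 ht⟩
      · rintro ⟨hs, hs'⟩
        exact ⟨hs, ⟨s, hSN hs⟩, (hkey ⟨s, hSN hs⟩ hs).2 hs', rfl⟩
    have key := hineq _ _ (htr _ Fy hFy) (htr _ F4 hF4)
    have hrel : ∀ (Y' : Subgroup Y) (F : Subgroup (N ⧸ N₀.subgroupOf N)), Y' ≤ S → F ≤ V →
        (∀ t : N, (t : Y) ∈ S → (π t ∈ F ↔ (t : Y) ∈ Y')) → C.relIndex F = Rd.relIndex Y' := by
      intro Y' F hY' hF hiff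
      rw [Subgroup.relIndex, Subgroup.relIndex]
      let χ : Y' →* F :=
        { toFun := fun s => ⟨π ⟨s, hSN (hY' s.2)⟩, (hiff _ (hY' s.2)).2 s.2⟩
          map_one' := Subtype.ext (map_one π)
          map_mul' := fun a b => Subtype.ext (map_mul π ⟨a, hSN (hY' a.2)⟩ ⟨b, hSN (hY' b.2)⟩) }
      have hχ : Function.Surjective χ := by
        rintro ⟨t, ht⟩
        obtain ⟨s, hs, rfl⟩ := hF ht
        exact ⟨⟨s, (hiff s hs).1 ht⟩, rfl⟩
      rw [← Subgroup.index_comap_of_surjective (C.subgroupOf F) hχ]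
      congr 1
      ext s
      exact hmemC _ (hY' s.2)
    have hFV : ∀ {m : ℕ} {F : Subgroup (N ⧸ N₀.subgroupOf N)},
        (∀ t, t ∈ F ↔ t ∈ V ∧ t⁻¹ * ((gH : N ⧸ N₀.subgroupOf N) ^ m * t *
          ((gH : N ⧸ N₀.subgroupOf N) ^ m)⁻¹) ∈ C) → F ≤ V := fun hF t ht => ((hF t).1 ht).1
    have hiff : ∀ (F : Subgroup (N ⧸ N₀.subgroupOf N)) (t : N), (t : Y) ∈ S →
        (π t ∈ F ↔ (t : Y) ∈ S ⊓ (F.comap π).map N.subtype) := by
      intro F t ht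
      refine ⟨fun h => ⟨ht, t, h, rfl⟩, ?_⟩
      rintro ⟨-, t', ht', e⟩
      exact (Subtype.ext e : t' = t) ▸ ht'
    rw [hrel S V le_rfl le_rfl (fun t ht => ⟨fun _ => ht, fun _ => ⟨t, ht, rfl⟩⟩),
      hrel _ Fy inf_le_left (hFV hFy) (hiff Fy), hrel _ F4 inf_le_left (hFV hF4) (hiff F4)]
    exact key

end CfsgLib.HallHigman.FpfTwo
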