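import Cfsg.Agent.Lib.HallHigman.FpfTwo.Form
import Cfsg.Agent.Lib.BG.FixedLine.Setup
import Cfsg.Agent.Lib.HallHigman.FpfPower.Arith

/-!
Counting orbits: a two-power operator without fixed vectors moves few cosets of the radical.
-/

set_option autoImplicit false
set_option linter.style.haveILetI false
set_option linter.unusedSectionVars false

open scoped commutatorElement

namespace CfsgLib.HallHigman.FpfTwo

open CfsgLib.BG.FixedLine

variable {K W Y : Type*} [Field K] [IsAlgClosed K] [AddCommGroup W] [Module K W] [Group Y] [Finite Y]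
  {ρ : Y →* Module.End K W}

namespace Form

variable [Nontrivial W] [FiniteDimensional K W] {U Z : Subgroup Y} {x : Y} {lam : Y → K}
  (h : Form ρ U Z x lam)

include h

/-- The elements fixed by `g` modulo the radical. -/
theorem zpow_conj_mem {g : Y} (hg : g ∈ Subgroup.zpowers x) {u : Y} (hu : u ∈ U) : g * u * g⁻¹ ∈ U :=
  conj_mem_of_le_normalizer (zpowers_le_normalizer h.hxU hg) u hu

theorem zpow_comm_center {g : Y} (hg : g ∈ Subgroup.zpowers x) {z : Y} (hz : z ∈ Z) : g * z = z * g := by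
  obtain ⟨i, rfl⟩ := Subgroup.mem_zpowers_iff.1 hg
  exact ((show Commute x z from h.hxZ z hz).zpow_left i).eq

/-- The subgroup fixed by a power modulo the radical. -/
def fixMod (g : Subgroup.zpowers x) : Subgroup Y where
  carrier := {u | u ∈ U ∧ u⁻¹ * ((g : Y) * u * (g : Y)⁻¹) ∈ Z}
  one_mem' := ⟨U.one_mem, by simpa using Z.one_mem⟩
  mul_mem' {a b} ha hb := ⟨U.mul_mem ha.1 hb.1, by
    have hgb := h.zpow_conj_mem g.2 hb.1
    rw [show (a * b)⁻¹ * ((g : Y) * (a * b) * (g : Y)⁻¹) =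
        b⁻¹ * (a⁻¹ * ((g : Y) * a * (g : Y)⁻¹)) * b * (b⁻¹ * ((g : Y) * b * (g : Y)⁻¹)) by group]
    refine Z.mul_mem ?_ hb.2
    rw [mul_assoc, h.hcen _ ha.2 b hb.1, inv_mul_cancel_left]
    exact ha.2⟩
  inv_mem' {a} ha := ⟨U.inv_mem ha.1, by
    rw [show a⁻¹⁻¹ * ((g : Y) * a⁻¹ * (g : Y)⁻¹) = a * (a⁻¹ * ((g : Y) * a * (g : Y)⁻¹))⁻¹ * a⁻¹ by group,
      ← h.hcen _ (Z.inv_mem ha.2) a ha.1, mul_inv_cancel_right]
    exact Z.inv_mem ha.2⟩

theorem le_fixMod (g : Subgroup.zpowers x) : Z ≤ h.fixMod g := fun z hz => ⟨h.hZU hz, by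
  rw [h.zpow_comm_center g.2 hz, mul_inv_cancel_right, inv_mul_cancel]; exact Z.one_mem⟩

theorem fixMod_le_pow (g : Subgroup.zpowers x) (m : ℕ) : h.fixMod g ≤ h.fixMod (g ^ m) := by
  rintro u ⟨hu, hu'⟩
  refine ⟨hu, ?_⟩
  induction m with
  | zero => simpa using Z.one_mem
  | succ k ih =>
    have e : u⁻¹ * ((g : Y) ^ (k + 1) * u * ((g : Y) ^ (k + 1))⁻¹) =
        u⁻¹ * ((g : Y) * u * (g : Y)⁻¹) *
          ((g : Y) * (u⁻¹ * ((g : Y) ^ k * u * ((g : Y) ^ k)⁻¹)) * (g : Y)⁻¹) := by
      rw [pow_succ']; group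
    rw [Subgroup.coe_pow] at ih ⊢
    rw [e, h.zpow_comm_center g.2 ih, mul_inv_cancel_right]
    exact Z.mul_mem hu' ih

/-- Without fixed vectors the radical has small index compared with the number of orbits. -/
theorem index_mul_le_fixMod {c : ℕ} (h2 : (2 : K) ≠ 0) (hxr : x ^ 2 ^ (c + 1) = 1)
    (hy1 : x ^ 2 ^ c ≠ 1) (hfix : fix ρ x = ⊥) :
    2 ^ (c + 1) * Z.relIndex U ≤ (2 ^ (c + 1) - 1) * (Z.relIndex U +
      Z.relIndex (h.fixMod (⟨x, Subgroup.mem_zpowers x⟩ ^ 2 ^ c)) +
      (2 ^ (c + 1) - 2) * Z.relIndex (h.fixMod (⟨x, Subgroup.mem_zpowers x⟩ ^ 2 ^ (c - 1)))) := by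
  classical
  set Z' := Z.subgroupOf U with hZ'
  haveI := Fintype.ofFinite U
  haveI := Fintype.ofFinite (U ⧸ Z')
  set G := Subgroup.zpowers x with hG
  haveI := Fintype.ofFinite G
  let π : U → U ⧸ Z' := QuotientGroup.mk
  have hπ : ∀ u v : U, π u = π v ↔ (u : Y)⁻¹ * (v : Y) ∈ Z := fun u v => by
    show QuotientGroup.mk u = QuotientGroup.mk v ↔ _
    rw [QuotientGroup.eq, Subgroup.mem_subgroupOf]
    simp
  have hout : ∀ i, π i.out = i := fun i => QuotientGroup.out_eq' i
  let act : G → U ⧸ Z' → U ⧸ Z' := fun g i =>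
    π ⟨(g : Y) * ((i.out : U) : Y) * (g : Y)⁻¹, h.zpow_conj_mem g.2 (i.out).2⟩
  have hact : ∀ (g : G) (u : U), act g (π u) = π ⟨(g : Y) * (u : Y) * (g : Y)⁻¹, h.zpow_conj_mem g.2 u.2⟩ := by
    intro g u
    rw [hπ]
    have hz := (hπ _ _).1 (hout (π u))
    show ((g : Y) * (((π u).out : U) : Y) * (g : Y)⁻¹)⁻¹ * ((g : Y) * (u : Y) * (g : Y)⁻¹) ∈ Z
    rw [show ((g : Y) * (((π u).out : U) : Y) * (g : Y)⁻¹)⁻¹ * ((g : Y) * (u : Y) * (g : Y)⁻¹) =
      (g : Y) * ((((π u).out : U) : Y)⁻¹ * (u : Y)) * (g : Y)⁻¹ by group,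
      h.zpow_comm_center g.2 hz, mul_inv_cancel_right]
    exact hz
  letI : MulAction G (U ⧸ Z') :=
    { smul := act
      one_smul := fun i => by
        obtain ⟨u, rfl⟩ : ∃ u, π u = i := ⟨i.out, hout i⟩
        show act 1 (π u) = π u
        rw [hact]; congr 1; exact Subtype.ext (by simp)
      mul_smul := fun a b i => by
        obtain ⟨u, rfl⟩ : ∃ u, π u = i := ⟨i.out, hout i⟩
        show act (a * b) (π u) = act a (act b (π u))
        rw [hact (a * b) u, hact b u, hact a]; congr 1; exact Subtype.ext (by simp [mul_assoc]) }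
  haveI := Fintype.ofFinite (Quotient (MulAction.orbitRel G (U ⧸ Z')))
  -- the commutant of `x` is small
  have hdim : Module.finrank K (comm (ρ x)) ≤
      Nat.card (Quotient (MulAction.orbitRel G (U ⧸ Z'))) * Module.finrank K (commS ρ U) := by
    have hzero : ∀ u : U, twAvg ρ U lam ((π u).out : Y) = twAvg ρ U lam (u : Y) := by
      intro u
      have hz := (hπ u (π u).out).1 (hout (π u)).symm
      conv_lhs => rw [← mul_inv_cancel_left (u : Y) ((π u).out : Y)]
      exact h.twAvg_mul_center u.2 hz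
    let Ψ : comm (ρ x) →ₗ[K] (Quotient (MulAction.orbitRel G (U ⧸ Z')) → commS ρ U) :=
      { toFun := fun f o => ⟨ρ ((o.out.out : U) : Y)⁻¹ * twAvg ρ U lam ((o.out.out : U) : Y) f,
          h.untwist_mem (o.out.out).2 _⟩
        map_add' := fun a b => funext fun o => Subtype.ext (by simp [mul_add])
        map_smul' := fun k a => funext fun o => Subtype.ext (by simp) }
    have hΨ : Function.Injective Ψ := by
      rw [injective_iff_map_eq_zero]
      intro f hf
      let good : U ⧸ Z' → Prop := fun i => twAvg ρ U lam (i.out : Y) (f : Module.End K W) = 0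
      have hgood : ∀ u : U, good (π u) ↔ twAvg ρ U lam (u : Y) (f : Module.End K W) = 0 := fun u => by
        show _ = 0 ↔ _; rw [hzero u]
      have hstep : ∀ i, good i → good ((⟨x, Subgroup.mem_zpowers x⟩ : G) • i) := by
        intro i hi
        obtain ⟨u, rfl⟩ : ∃ u, π u = i := ⟨i.out, hout i⟩
        show good (act _ (π u))
        rw [hact, hgood]
        rw [hgood] at hi
        show twAvg ρ U lam (x * (u : Y) * x⁻¹) (f : Module.End K W) = 0
        rw [← h.twAvg_conj_x u.2 f.2, hi, mul_zero, zero_mul]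
      have hall : ∀ i, good i := by
        intro i
        set o : Quotient (MulAction.orbitRel G (U ⧸ Z')) := Quotient.mk'' i with ho
        have hrep : good o.out := by
          have := congrArg Subtype.val (congrFun hf o)
          have h2 := congrArg (fun t => ρ ((o.out.out : U) : Y) * t) this
          simp only [Ψ, LinearMap.coe_mk, AddHom.coe_mk, Pi.zero_apply, ZeroMemClass.coe_zero,
            ← mul_assoc, ← map_mul, mul_inv_cancel, map_one, one_mul, mul_zero] at h2
          exact h2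
        have hrel : i ∈ MulAction.orbit G o.out := by
          have := Quotient.out_eq' o
          rw [ho] at this ⊢
          exact MulAction.orbitRel_apply.1 (Quotient.exact' this.symm)
        obtain ⟨g, hgo⟩ := hrel
        rw [← hgo]
        clear hgo
        have hfin : IsOfFinOrder x := isOfFinOrder_of_finite x
        obtain ⟨m, hm⟩ := hfin.mem_powers_iff_mem_zpowers.2 g.2
        have hg : g = (⟨x, Subgroup.mem_zpowers x⟩ : G) ^ m := Subtype.ext hm.symm
        show good (g • o.out)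
        rw [hg]
        clear hm hg
        induction m with
        | zero => simpa using hrep
        | succ m ih => rw [pow_succ', mul_smul]; exact hstep _ ih
      have hsum := h.sum_twAvg (f : Module.End K W)
      rw [Finset.sum_eq_zero (fun u _ => (hgood u).1 (hall _))] at hsum
      have hZ0 : (Nat.card Z : K) ≠ 0 := fun h0 => by
        obtain ⟨k, hk⟩ := Subgroup.card_dvd_of_le h.hZU
        exact h.hU0 (by rw [hk, Nat.cast_mul, h0, zero_mul])
      exact Subtype.ext ((smul_eq_zero.1 hsum.symm).resolve_left (mul_ne_zero h.hU0 hZ0))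
    have := LinearMap.finrank_le_finrank_of_injective hΨ
    rwa [Module.finrank_pi_fintype, Finset.sum_const, Finset.card_univ, ← Nat.card_eq_fintype_card,
      smul_eq_mul] at this
  -- the eigenvalue `1` does not occur
  set r := 2 ^ (c + 1) with hrdef
  haveI : NeZero r := ⟨pow_ne_zero _ two_ne_zero⟩
  have hr0 : (r : K) ≠ 0 := by rw [hrdef, Nat.cast_pow]; exact pow_ne_zero _ (by exact_mod_cast h2)
  haveI : NeZero (r : K) := ⟨hr0⟩
  obtain ⟨ω, hω⟩ := HasEnoughRootsOfUnity.exists_primitiveRoot K r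
  have hxρ : ρ x ^ r = 1 := by rw [← map_pow, hxr, map_one]
  obtain ⟨hN, hM⟩ := exists_eigen_dims (ρ x) hxρ hr0 hω
  set M : Fin r → ℕ := fun i => Module.finrank K (Module.End.eigenspace (ρ x) (ω ^ (i : ℕ)))
  have hM0 : M 0 = 0 := by
    show Module.finrank K (Module.End.eigenspace (ρ x) (ω ^ ((0 : Fin r) : ℕ))) = 0
    rw [Fin.val_zero, pow_zero, ← fix_eq_eigenspace, hfix, finrank_bot]
  have hcs : (Module.finrank K W) ^ 2 ≤ (r - 1) * Module.finrank K (comm (ρ x)) := by
    have h1 := sq_sum_le_card_mul_sum_sq (s := Finset.univ.erase (0 : Fin r)) (f := M)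
    rw [Finset.sum_erase _ hM0, Finset.sum_erase _ (by rw [hM0]; rfl), hN,
      Finset.card_erase_of_mem (Finset.mem_univ _), Finset.card_univ, Fintype.card_fin] at h1
    exact h1.trans (Nat.mul_le_mul le_rfl hM)
  have hpos : 0 < Module.finrank K (commS ρ U) := by
    have : (1 : Module.End K W) ∈ commS ρ U := fun u _ => by rw [mul_one, one_mul]
    exact Module.finrank_pos_iff_exists_ne_zero.2
      ⟨⟨1, this⟩, fun e => one_ne_zero (congrArg Subtype.val e)⟩
  have hmain : Z.relIndex U ≤ (r - 1) * Nat.card (Quotient (MulAction.orbitRel G (U ⧸ Z'))) := by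
    refine Nat.le_of_mul_le_mul_right ?_ hpos
    calc Z.relIndex U * Module.finrank K (commS ρ U) ≤ Module.finrank K W ^ 2 := h.index_mul_le
      _ ≤ (r - 1) * Module.finrank K (comm (ρ x)) := hcs
      _ ≤ _ := by rw [mul_assoc]; exact Nat.mul_le_mul le_rfl hdim
  -- Burnside
  haveI := Fact.mk Nat.prime_two
  have hcardG : Nat.card G = r := by
    rw [hG, Nat.card_zpowers]
    exact orderOf_eq_prime_pow hy1 hxr
  have hF : ∀ g : G, Fintype.card (MulAction.fixedBy (U ⧸ Z') g) = Z.relIndex (h.fixMod g) := by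
    intro g
    rw [← Nat.card_eq_fintype_card]
    let f : h.fixMod g → MulAction.fixedBy (U ⧸ Z') g := fun u => ⟨π ⟨u, u.2.1⟩, by
      show act g (π _) = π _
      rw [hact]
      exact ((hπ _ _).2 u.2.2).symm⟩
    have hf : Function.Surjective f := by
      rintro ⟨i, hi⟩
      obtain ⟨u, rfl⟩ : ∃ u, π u = i := ⟨i.out, hout i⟩
      refine ⟨⟨u, u.2, ?_⟩, rfl⟩
      have hi' : act g (π u) = π u := hi
      rw [hact] at hi'
      exact (hπ u _).1 hi'.symm
    rw [Subgroup.relIndex, Subgroup.index]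
    refine (Nat.card_congr (Equiv.ofBijective (fun t : h.fixMod g ⧸ Z.subgroupOf (h.fixMod g) =>
      Quotient.liftOn' t f fun a b e => Subtype.ext ((hπ _ _).2 (by
        rw [QuotientGroup.leftRel_apply, Subgroup.mem_subgroupOf] at e
        simpa using e))) ⟨?_, ?_⟩)).symm
    · rintro ⟨a⟩ ⟨b⟩ e
      refine QuotientGroup.eq.2 (Subgroup.mem_subgroupOf.2 ?_)
      simpa using (hπ _ _).1 (congrArg Subtype.val e)
    · intro i
      obtain ⟨a, ha⟩ := hf i
      exact ⟨QuotientGroup.mk a, ha⟩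
  set xg : G := ⟨x, Subgroup.mem_zpowers x⟩ with hxg
  set gy := xg ^ 2 ^ c with hgy
  set g4 := xg ^ 2 ^ (c - 1) with hg4
  have hX : ∀ g, Z.relIndex (h.fixMod g) ≤ Z.relIndex U := fun g => by
    refine Subgroup.relIndex_le_of_le_right (fun u hu => hu.1) ?_
    exact Subgroup.index_ne_zero_of_finite
  have hsplit : ∀ g : G, g ≠ 1 → g ≠ gy → Z.relIndex (h.fixMod g) ≤ Z.relIndex (h.fixMod g4) := by
    intro g hg1 hgy'
    obtain ⟨i, hi⟩ : ∃ i : ℕ, g = xg ^ i := by
      obtain ⟨i, hi⟩ := (isOfFinOrder_of_finite x).mem_powers_iff_mem_zpowers.2 g.2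
      exact ⟨i, Subtype.ext hi.symm⟩
    have hxgr : xg ^ r = 1 := Subtype.ext hxr
    have hc : c ≠ 0 := by
      rintro rfl
      rcases Nat.even_or_odd' i with ⟨k, rfl | rfl⟩
      · exact hg1 (by rw [hi, pow_mul, show xg ^ 2 = 1 from hxgr, one_pow])
      · exact hgy' (by rw [hi, pow_succ, pow_mul, show xg ^ 2 = 1 from hxgr, one_pow, one_mul, hgy,
          pow_zero, pow_one])
    have hmem : g4 ∈ Subgroup.zpowers g := by
      refine FpfPower.pow_mem_of_pow_mem (i := i) Nat.prime_two hxgr (hi ▸ Subgroup.mem_zpowers g) ?_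
      rw [show c - 1 + 1 = c by omega]
      rintro ⟨k, rfl⟩
      rcases Nat.even_or_odd' k with ⟨l, rfl | rfl⟩
      · exact hg1 (by rw [hi, ← mul_assoc, ← pow_succ, pow_mul, hxgr, one_pow])
      · exact hgy' (by rw [hi, mul_add, pow_add, ← mul_assoc, ← pow_succ, pow_mul, hxgr, one_pow,
          one_mul, mul_one])
    obtain ⟨m, hm⟩ := (isOfFinOrder_of_finite g).mem_powers_iff_mem_zpowers.2 hmem
    refine Subgroup.relIndex_le_of_le_right ?_ Subgroup.index_ne_zero_of_finite
    rw [← show g ^ m = g4 from hm]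
    exact h.fixMod_le_pow g m
  have hburn := MulAction.sum_card_fixedBy_eq_card_orbits_mul_card_group G (U ⧸ Z')
  simp only [hF] at hburn
  rw [← Nat.card_eq_fintype_card, ← Nat.card_eq_fintype_card (α := G), hcardG] at hburn
  have hgy1 : gy ≠ 1 := fun e => hy1 (by
    have := congrArg Subtype.val e
    simpa [hgy, hxg] using this)
  have hsum : ∑ g : G, Z.relIndex (h.fixMod g) ≤ Z.relIndex U + Z.relIndex (h.fixMod gy) +
      (r - 2) * Z.relIndex (h.fixMod g4) := by
    rw [← Finset.add_sum_erase _ _ (Finset.mem_univ (1 : G)),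
      ← Finset.add_sum_erase _ _ (Finset.mem_erase.2 ⟨hgy1, Finset.mem_univ gy⟩), ← add_assoc]
    refine add_le_add (add_le_add (hX 1) le_rfl) ?_
    refine (Finset.sum_le_card_nsmul _ _ (Z.relIndex (h.fixMod g4)) fun g hg => ?_).trans ?_
    · simp only [Finset.mem_erase, Finset.mem_univ, and_true] at hg
      exact hsplit g hg.2 hg.1
    · rw [Finset.card_erase_of_mem (Finset.mem_erase.2 ⟨hgy1, Finset.mem_univ gy⟩),
        Finset.card_erase_of_mem (Finset.mem_univ _), Finset.card_univ, ← Nat.card_eq_fintype_card,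
        hcardG, smul_eq_mul, Nat.sub_sub]
  calc r * Z.relIndex U ≤ r * ((r - 1) * Nat.card (Quotient (MulAction.orbitRel G (U ⧸ Z')))) :=
        Nat.mul_le_mul le_rfl hmain
    _ = (r - 1) * (Nat.card (Quotient (MulAction.orbitRel G (U ⧸ Z'))) * r) := by ring
    _ ≤ _ := Nat.mul_le_mul le_rfl (hburn ▸ hsum)

end Form

end CfsgLib.HallHigman.FpfTwo
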