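import Cfsg.Agent.Lib.HallHigman.FpfTwo.Key
import Cfsg.Agent.Lib.HallHigman.FpfPower.Induction
import Cfsg.Agent.Lib.Fpf.OrderFourMain

/-!
Fitting height of a solvable group of odd order with a fixed-point-free operator of two-power order.
-/

set_option autoImplicit false
set_option linter.style.haveILetI false
set_option linter.unusedSectionVars false

open scoped commutatorElement

namespace CfsgLib.HallHigman.FpfTwo

open CfsgLib.HallHigman.FpfPower (coreIn coreIn_le coreIn_normal isPGroup_coreIn fittingOf_le_self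
  fittingOf_le_of_coreIn fittingOf_normal le_fittingOf fittingOf_isNilpotent
  eq_one_of_isPGroup_of_not_dvd commutator_le_frattini_image inf_centralizer_zpowers_eq_bot)

universe u

variable {X : Type u} [Group X] [Finite X]

/-- An element of a normal subgroup, of prime power order modulo the Fitting subgroup, centralizing
all the other cores lies in the Fitting subgroup. -/
theorem mem_fittingOf_of_centralizes {N : Subgroup X} [N.Normal] {q : ℕ} (hq : q.Prime) {U : Subgroup X}
    [U.Normal] (hUN : U ≤ N) (hUq : ∀ u ∈ U, ∃ k : ℕ, u ^ q ^ k ∈ Cfsg.fittingOf N) {d : X} (hd : d ∈ U)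
    (hc : ∀ s : ℕ, s.Prime → s ≠ q → coreIn s N ≤ Subgroup.centralizer {d}) :
    d ∈ Cfsg.fittingOf N := by
  haveI := Fact.mk hq
  haveI := coreIn_normal q N
  set T : Subgroup X := sSup {K | ∃ s : ℕ, s.Prime ∧ s ≠ q ∧ K = coreIn s N} with hT
  haveI : T.Normal := Subgroup.sSup_normal _ fun K ⟨s, _, _, hK⟩ => hK ▸ coreIn_normal s N
  set D := U ⊓ Subgroup.centralizer (T : Set X) with hD
  haveI : D.Normal := Subgroup.normal_inf_normal _ _
  have hdD : d ∈ D := ⟨hd, fun t ht => by
    have hle : T ≤ Subgroup.centralizer {d} := sSup_le fun K ⟨s, hs, hsq, hK⟩ => hK ▸ hc s hs hsq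
    exact Subgroup.mem_centralizer_singleton_iff.1 (hle ht)⟩
  have hFle : Cfsg.fittingOf N ≤ coreIn q N ⊔ T := fittingOf_le_of_coreIn fun s hs => by
    by_cases hsq : s = q
    · exact hsq ▸ le_sup_left
    · exact le_trans (le_sSup (s := {K : Subgroup X | ∃ s : ℕ, s.Prime ∧ s ≠ q ∧ K = coreIn s N})
        ⟨s, hs, hsq, rfl⟩) le_sup_right
  refine le_fittingOf (inf_le_left.trans hUN) ?_ hdD
  refine Group.of_quotient_center_nilpotent (IsPGroup.isNilpotent (p := q) fun g => ?_)
  obtain ⟨g, rfl⟩ := QuotientGroup.mk'_surjective (Subgroup.center D) g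
  obtain ⟨k, hk⟩ := hUq g g.2.1
  obtain ⟨w, hw, t, ht, hwt⟩ := Subgroup.mem_sup_of_normal_left.1 (hFle hk)
  obtain ⟨m, hm⟩ := isPGroup_coreIn q N ⟨w, hw⟩
  refine ⟨k + m, ?_⟩
  rw [← map_pow, QuotientGroup.mk'_apply, QuotientGroup.eq_one_iff, Subgroup.mem_center_iff]
  intro e
  have hTmem : (g : X) ^ q ^ (k + m) ∈ T := by
    rw [← QuotientGroup.eq_one_iff, ← QuotientGroup.mk'_apply, pow_add, pow_mul, ← hwt, map_pow,
      map_mul, show QuotientGroup.mk' T t = 1 from (QuotientGroup.eq_one_iff t).2 ht, mul_one,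
      ← map_pow, show w ^ q ^ m = 1 from congrArg Subtype.val hm, map_one]
  exact Subtype.ext (by simpa using (e.2.2 _ hTmem).symm)

/-- An element of coprime order centralizing the Fitting subgroup of a solvable normal subgroup
centralizes it. -/
theorem centralizes_of_fittingOf {M : Subgroup X} [M.Normal] (hsol : Group.IsSolvable M) {y : X}
    (hcop : (Nat.card (Subgroup.zpowers y)).Coprime (Nat.card M))
    (hyF : ∀ m ∈ Cfsg.fittingOf M, Commute y m) : ∀ g ∈ M, y * g = g * y := by
  haveI := hsol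
  haveI := fittingOf_normal M
  set F := Cfsg.fittingOf M with hF
  set A := Subgroup.zpowers y with hA
  have hAM : A ≤ Subgroup.normalizer (M : Set X) := Subgroup.le_normalizer_of_normal
  have hcomm : ⁅M, A⁆ ≤ F := by
    refine Subgroup.commutator_le.2 fun g hg a ha => ?_
    have hmem : ⁅g, a⁆ ∈ M := CfsgLib.Coprime.commutator_le_left_of_le_normalizer hAM
      (Subgroup.commutator_mem_commutator hg ha)
    have hcA : ∀ m ∈ F, Commute a m := fun m hm => by
      obtain ⟨i, rfl⟩ := Subgroup.mem_zpowers_iff.1 ha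
      exact (hyF m hm).zpow_left i
    have hF' : ∀ m ∈ F, Commute (g * a * g⁻¹) m := fun m hm => by
      have := hcA _ (Subgroup.Normal.conj_mem (inferInstance : F.Normal) m hm g⁻¹)
      have h2 := this.map (MulAut.conj g).toMonoidHom
      simpa [mul_assoc] using h2
    have h3 : ⁅g, a⁆ ∈ M ⊓ Subgroup.centralizer (F : Set X) :=
      ⟨hmem, fun m hm => ((hF' m hm).mul_left (hcA m hm).inv_left).eq.symm⟩
    refine ⟨⟨_, hmem⟩, PSolvable.centralizer_fittingSubgroup_le fun f hf => Subtype.ext ?_, rfl⟩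
    simpa using h3.2 f (Subgroup.mem_map_of_mem M.subtype hf)
  have h0 : ⁅M, A⁆ = ⊥ := by
    rw [← CfsgLib.Coprime.commutator_commutator_eq hAM hcop (Or.inl inferInstance)]
    refine Subgroup.commutator_eq_bot_iff_le_centralizer.2 fun m hm a ha => ?_
    obtain ⟨i, rfl⟩ := Subgroup.mem_zpowers_iff.1 ha
    exact ((hyF m (hcomm hm)).zpow_left i).eq
  exact fun g hg => Subgroup.commutator_eq_bot_iff_le_centralizer.1 h0 hg y (Subgroup.mem_zpowers _)

/-- An invariant Sylow subgroup covering an image of prime power order. -/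
theorem exists_sylow_onto {X' : Type*} [Group X'] (f : X →* X') {x : X} {K : Subgroup X}
    (hxK : x ∈ Subgroup.normalizer (K : Set X))
    (hcop : (Nat.card (Subgroup.zpowers x)).Coprime (Nat.card K)) {r : ℕ} [Fact r.Prime]
    (hK : IsPGroup r (K.map f)) :
    ∃ P : Sylow r K, x ∈ Subgroup.normalizer (((P : Subgroup K).map K.subtype : Subgroup X) : Set X) ∧
      ((P : Subgroup K).map K.subtype).map f = K.map f := by
  obtain ⟨P, hP⟩ := CfsgLib.Coprime.exists_invariant_sylow (p := r) (A := Subgroup.zpowers x) (K := K)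
    (Subgroup.zpowers_le.2 hxK) hcop (Or.inl inferInstance)
  refine ⟨P, hP (Subgroup.mem_zpowers x), ?_⟩
  haveI : Finite (K.map f) := Finite.of_surjective _ (f.subgroupMap_surjective K)
  let P' := P.mapSurjective (f.subgroupMap_surjective K)
  have hPtop : (P' : Subgroup (K.map f)) = ⊤ :=
    (P'.3 (show IsPGroup r ↥(⊤ : Subgroup (K.map f)) from hK.to_subgroup ⊤) le_top).symm
  have h := congrArg (Subgroup.map (K.map f).subtype) hPtop
  rw [Sylow.coe_mapSurjective, ← MonoidHom.range_eq_map, Subgroup.range_subtype, Subgroup.map_map] at h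
  rw [← h, Subgroup.map_map]
  congr 1

/-- A two-element without fixed points on the solvable normal subgroup `N` of odd order, whose
`2 ^ n`-th power has order dividing two on `N`. -/
structure FpfOp (x : X) (N : Subgroup X) (n j : ℕ) : Prop where
  hsol : Group.IsSolvable N
  hN2 : ¬ 2 ∣ Nat.card N
  hxj : x ^ 2 ^ j = 1
  hC : ∀ g ∈ N, x * g = g * x → g = 1
  hxp : ∀ g ∈ N, x ^ 2 ^ (n + 1) * g = g * x ^ 2 ^ (n + 1)

namespace FpfOp

variable {x : X} {N : Subgroup X} {n j : ℕ} (h : FpfOp x N n j)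

include h

theorem coprime_of_le {K : Subgroup X} (hK : K ≤ N) :
    (Nat.card (Subgroup.zpowers x)).Coprime (Nat.card K) := by
  rw [Nat.card_zpowers]
  exact (((Nat.prime_two.coprime_iff_not_dvd.2 h.hN2).coprime_dvd_right
    (Subgroup.card_dvd_of_le hK)).pow_left j).coprime_dvd_left (orderOf_dvd_of_pow_eq_one h.hxj)

/-- Fixed-point-freeness descends to images. -/
theorem map_fpf {K : Subgroup X} (hK : K ≤ N) (hxK : x ∈ Subgroup.normalizer (K : Set X))
    {X' : Type*} [Group X'] (f : X →* X') {v : X'} (hv : v ∈ K.map f) (hc : f x * v = v * f x) :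
    v = 1 := by
  have hmap := CfsgLib.Coprime.map_inf_centralizer (Subgroup.zpowers_le.2 hxK) (h.coprime_of_le hK)
    (Or.inl inferInstance) f
  rw [inf_centralizer_zpowers_eq_bot (fun g hg => h.hC g (hK hg)), Subgroup.map_bot] at hmap
  have hv' : v ∈ K.map f ⊓ Subgroup.centralizer ((Subgroup.zpowers x).map f : Set X') := by
    refine ⟨hv, ?_⟩
    rintro - ⟨a, ha, rfl⟩
    obtain ⟨i, rfl⟩ := Subgroup.mem_zpowers_iff.1 ha
    rw [map_zpow]
    exact ((show Commute (f x) v from hc).zpow_left i).eq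
  rwa [← hmap, Subgroup.mem_bot] at hv'

theorem map [N.Normal] {X' : Type u} [Group X'] [Finite X'] (f : X →* X') :
    FpfOp (f x) (N.map f) n j where
  hsol := by
    haveI := h.hsol
    exact Group.isSolvable_of_surjective (f.subgroupMap_surjective N)
  hN2 := fun hd => h.hN2 (hd.trans (Subgroup.card_map_dvd N f))
  hxj := by rw [← map_pow, h.hxj, map_one]
  hC := fun g hg hc => h.map_fpf le_rfl (Subgroup.le_normalizer_of_normal (Subgroup.mem_top x)) f hg hc
  hxp := by
    rintro - ⟨g, hg, rfl⟩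
    rw [← map_pow, ← map_mul, ← map_mul, h.hxp g hg]

/-- The power's commutators with the top factor centralize the middle factor. -/
theorem comm_comm_mem [N.Normal] [(Cfsg.fittingOf N).Normal] {q r : ℕ} (hq : q.Prime) (hr : r.Prime)
    (hq2 : q ≠ 2) (hr2 : r ≠ 2) (hqr : q ≠ r) {Q : Subgroup (X ⧸ Cfsg.fittingOf N)}
    (hQ : IsPGroup r Q) (hQN : Q ≤ N.map (QuotientGroup.mk' (Cfsg.fittingOf N)))
    (hxQ : QuotientGroup.mk' (Cfsg.fittingOf N) x ∈ Subgroup.normalizer (Q : Set (X ⧸ Cfsg.fittingOf N))) :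
    ∀ u ∈ Q, ∀ v ∈ coreIn q (N.map (QuotientGroup.mk' (Cfsg.fittingOf N))),
      ⁅⁅QuotientGroup.mk' (Cfsg.fittingOf N) x ^ 2 ^ n, u⁆, v⁆ = 1 := by
  classical
  haveI := Fact.mk hq
  haveI := Fact.mk hr
  set F := Cfsg.fittingOf N with hF
  set π := QuotientGroup.mk' F with hπ
  haveI : (N.map π).Normal := Subgroup.Normal.map inferInstance π (QuotientGroup.mk'_surjective _)
  set Sb := coreIn q (N.map π) with hSb
  haveI := coreIn_normal q (N.map π)
  set W := Sb.comap π with hW
  haveI : W.Normal := Subgroup.Normal.comap inferInstance π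
  have hcomapN : ∀ {T : Subgroup (X ⧸ F)}, T ≤ N.map π → T.comap π ≤ N := fun {T} hT => by
    refine (Subgroup.comap_mono hT).trans ?_
    rw [Subgroup.comap_map_eq, QuotientGroup.ker_mk', sup_eq_left.2 (fittingOf_le_self N)]
  have hWN : W ≤ N := hcomapN (coreIn_le q _)
  have hWmap : W.map π = Sb := Subgroup.map_comap_eq_self_of_surjective (QuotientGroup.mk'_surjective F) Sb
  obtain ⟨PS, hxS, hSmap⟩ := exists_sylow_onto π
    (Subgroup.le_normalizer_of_normal (H := W) (Subgroup.mem_top x)) (h.coprime_of_le hWN) (r := q)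
    (by rw [hWmap]; exact isPGroup_coreIn q _)
  set S := (PS : Subgroup W).map W.subtype with hS
  have hSW : S ≤ W := Subgroup.map_subtype_le _
  -- the normalizer covers everything
  have hcover : ∀ a : X ⧸ F, ∃ g ∈ Subgroup.normalizer (S : Set X), π g = a := by
    intro a
    obtain ⟨g, rfl⟩ := QuotientGroup.mk'_surjective F a
    obtain ⟨m, hm, w, hw, rfl⟩ := Subgroup.mem_sup_of_normal_right.1
      ((Sylow.normalizer_sup_eq_top PS).ge (Subgroup.mem_top g))
    obtain ⟨s, hs, hsw⟩ := hSmap.ge (Subgroup.mem_map_of_mem π hw)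
    exact ⟨m * s, mul_mem hm (Subgroup.le_normalizer hs), by rw [map_mul, map_mul, hsw]⟩
  set K2 := Q.comap π ⊓ Subgroup.normalizer (S : Set X) with hK2
  have hK2N : K2 ≤ N := inf_le_left.trans (hcomapN hQN)
  have hxK2 : x ∈ Subgroup.normalizer (K2 : Set X) := by
    refine CfsgLib.BG.FixedLine.mem_normalizer_of_conj fun g hg => ⟨?_, ?_⟩
    · show π (x * g * x⁻¹) ∈ Q
      rw [map_mul, map_mul, map_inv]
      exact (Subgroup.mem_normalizer_iff.1 hxQ _).1 hg.1
    · exact (Subgroup.normalizer (S : Set X)).mul_mem ((Subgroup.normalizer (S : Set X)).mul_mem hxS hg.2) ((Subgroup.normalizer (S : Set X)).inv_mem hxS)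
  have hK2map : K2.map π = Q := by
    refine le_antisymm (Subgroup.map_le_iff_le_comap.2 inf_le_left) fun a ha => ?_
    obtain ⟨g, hg, rfl⟩ := hcover a
    exact ⟨g, ⟨ha, hg⟩, rfl⟩
  obtain ⟨PR, hxR, hRmap⟩ := exists_sylow_onto π hxK2 (h.coprime_of_le hK2N) (r := r) (by rw [hK2map]; exact hQ)
  set R := (PR : Subgroup K2).map K2.subtype with hR
  have hRK2 : R ≤ K2 := Subgroup.map_subtype_le _
  have hSp : IsPGroup q S := PS.2.map _
  have hRp : IsPGroup r R := PR.2.map _
  intro u hu v hv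
  obtain ⟨u', hu', rfl⟩ := (hRmap.trans hK2map).ge hu
  obtain ⟨v', hv', rfl⟩ := (hSmap.trans hWmap).ge hv
  rw [← map_pow, ← map_commutatorElement, ← map_commutatorElement, hπ, QuotientGroup.mk'_apply,
    QuotientGroup.eq_one_iff]
  set d := ⁅⁅x ^ 2 ^ n, u'⁆, v'⁆ with hd
  have hyu : ⁅x ^ 2 ^ n, u'⁆ ∈ R := by
    rw [commutatorElement_def]
    exact R.mul_mem ((Subgroup.mem_normalizer_iff.1 (pow_mem hxR _) u').1 hu') (R.inv_mem hu')
  have hdS : d ∈ S := by
    rw [hd, commutatorElement_def]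
    exact S.mul_mem ((Subgroup.mem_normalizer_iff.1 ((hRK2 hyu).2) v').1 hv') (S.inv_mem hv')
  refine mem_fittingOf_of_centralizes hq hWN (fun w hw => ?_) (hSW hdS) fun s hs hsq => ?_
  · obtain ⟨k, hk⟩ := isPGroup_coreIn q (N.map π) ⟨π w, hw⟩
    refine ⟨k, ?_⟩
    rw [← QuotientGroup.eq_one_iff, ← QuotientGroup.mk'_apply, map_pow]
    exact congrArg Subtype.val hk
  by_cases hs2 : s = 2
  · subst hs2
    intro w hw
    rw [eq_one_of_isPGroup_of_not_dvd Nat.prime_two h.hN2 (coreIn_le _ N) (isPGroup_coreIn _ N) hw]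
    exact Subgroup.one_mem _
  haveI := coreIn_normal s N
  set C := coreIn s N with hC
  haveI : ((frattini C).map C.subtype).Normal := PSolvable.normal_map_of_characteristic C _
  set ψ := QuotientGroup.mk' ((frattini C).map C.subtype) with hψ
  have hCN : C ≤ N := coreIn_le s N
  haveI : (C.map ψ).Normal := Subgroup.Normal.map inferInstance ψ (QuotientGroup.mk'_surjective _)
  have key := comm_comm_mem_centralizer (n := n) (j := j) hq hr hs hq2 hr2 hs2 hqr (Ne.symm hsq)
    (V := C.map ψ) (S := S.map ψ) (R := R.map ψ) (x := ψ x)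
    (commutator_le_frattini_image hs C (isPGroup_coreIn s N)) (hSp.map _) (hRp.map _)
    (by rw [← map_pow, h.hxj, map_one])
    (Subgroup.le_normalizer_map ψ (Subgroup.mem_map_of_mem ψ hxS))
    (Subgroup.le_normalizer_map ψ (Subgroup.mem_map_of_mem ψ hxR))
    (Subgroup.le_normalizer_of_normal (Subgroup.mem_top _))
    (fun g ⟨a, ha, e⟩ => e ▸ Subgroup.le_normalizer_map ψ (Subgroup.mem_map_of_mem ψ ((hRK2 ha).2)))
    Subgroup.le_normalizer_of_normal Subgroup.le_normalizer_of_normal
    (fun v hv hc => h.map_fpf hCN (Subgroup.le_normalizer_of_normal (Subgroup.mem_top x)) ψ hv hc)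
    (fun v hv hc => h.map_fpf (hSW.trans hWN) hxS ψ hv hc)
    (fun v hv hc => h.map_fpf (hRK2.trans hK2N) hxR ψ hv hc)
    (by
      rintro - ⟨k, hk, rfl⟩
      rw [← map_pow, ← map_mul, ← map_mul, h.hxp k (hCN hk)])
    (ψ u') (Subgroup.mem_map_of_mem ψ hu') (ψ v') (Subgroup.mem_map_of_mem ψ hv')
  rw [← map_pow, ← map_commutatorElement, ← map_commutatorElement] at key
  have hcop : (Nat.card (Subgroup.zpowers d)).Coprime (Nat.card (frattini C)) := by
    haveI := Fact.mk hs
    obtain ⟨i, hi⟩ := hSp ⟨d, hdS⟩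
    obtain ⟨m, hm⟩ := ((isPGroup_coreIn s N).to_subgroup (frattini C)).exists_card_eq
    rw [Nat.card_zpowers, hm]
    exact (((Nat.coprime_primes hq hs).2 hsq.symm).pow i m).coprime_dvd_left
      (orderOf_dvd_of_pow_eq_one (congrArg Subtype.val hi))
  have hcent := CfsgLib.Coprime.le_centralizer_of_frattini (A := Subgroup.zpowers d) (K := C)
    Subgroup.le_normalizer_of_normal hcop fun a ha k hk => by
      obtain ⟨i, rfl⟩ := Subgroup.mem_zpowers_iff.1 ha
      rw [← QuotientGroup.eq_one_iff, ← QuotientGroup.mk'_apply, ← hψ, map_mul, map_mul, map_mul,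
        map_inv, map_inv, map_zpow,
        ((show Commute (ψ d) (ψ k) from (key (ψ k) (Subgroup.mem_map_of_mem ψ hk)).symm).zpow_left i).eq,
        mul_inv_cancel_right, mul_inv_cancel]
  intro w hw
  exact Subgroup.mem_centralizer_singleton_iff.2 (hcent (Subgroup.mem_zpowers d) w hw)

/-- The power centralizes each primary part of the third Fitting factor. -/
theorem commutator_mem_top [N.Normal] [(Cfsg.fittingOf N).Normal] {r : ℕ} (hr : r.Prime)
    {U : Subgroup (X ⧸ Cfsg.fittingOf N)} [U.Normal]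
    (hUN : U ≤ N.map (QuotientGroup.mk' (Cfsg.fittingOf N)))
    (hUr : ∀ u ∈ U, ∃ k : ℕ, u ^ r ^ k ∈ Cfsg.fittingOf (N.map (QuotientGroup.mk' (Cfsg.fittingOf N)))) :
    ∀ u ∈ U, ⁅QuotientGroup.mk' (Cfsg.fittingOf N) x ^ 2 ^ n, u⁆ ∈
      Cfsg.fittingOf (N.map (QuotientGroup.mk' (Cfsg.fittingOf N))) := by
  classical
  haveI := Fact.mk hr
  set π := QuotientGroup.mk' (Cfsg.fittingOf N) with hπ
  haveI : (N.map π).Normal := Subgroup.Normal.map inferInstance π (QuotientGroup.mk'_surjective _)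
  have h' : FpfOp (π x) (N.map π) n j := h.map π
  haveI := fittingOf_normal (N.map π)
  set M := Cfsg.fittingOf (N.map π) with hM
  have hUmap : IsPGroup r (U.map (QuotientGroup.mk' M)) := by
    rintro ⟨-, u, hu, rfl⟩
    obtain ⟨k, hk⟩ := hUr u hu
    refine ⟨k, Subtype.ext ?_⟩
    rw [Subgroup.coe_pow, ← map_pow, QuotientGroup.mk'_apply, Subgroup.coe_one, QuotientGroup.eq_one_iff]
    exact hk
  obtain ⟨P, hxP, hPmap⟩ := exists_sylow_onto (QuotientGroup.mk' M)
    (Subgroup.le_normalizer_of_normal (H := U) (Subgroup.mem_top (π x))) (h'.coprime_of_le hUN) hUmap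
  set Q := (P : Subgroup U).map U.subtype with hQdef
  have hQU : Q ≤ U := Subgroup.map_subtype_le _
  have hQ : IsPGroup r Q := P.2.map _
  set y := π x ^ 2 ^ n with hy
  intro u hu
  obtain ⟨u₀, hu₀, e⟩ := hPmap.ge (Subgroup.mem_map_of_mem (QuotientGroup.mk' M) hu)
  have hd : ⁅y, u₀⁆ ∈ M := by
    have hdQ : ⁅y, u₀⁆ ∈ Q := by
      rw [commutatorElement_def]
      exact Q.mul_mem ((Subgroup.mem_normalizer_iff.1 (pow_mem hxP _) u₀).1 hu₀) (Q.inv_mem hu₀)
    by_cases hr2 : r = 2
    · subst hr2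
      rw [eq_one_of_isPGroup_of_not_dvd Nat.prime_two h'.hN2 (hQU.trans hUN) hQ hdQ]
      exact M.one_mem
    refine mem_fittingOf_of_centralizes hr hUN hUr (hQU hdQ) fun q hq hqr v hv => ?_
    by_cases hq2 : q = 2
    · subst hq2
      rw [eq_one_of_isPGroup_of_not_dvd Nat.prime_two h'.hN2 (coreIn_le _ _) (isPGroup_coreIn _ _) hv]
      exact Subgroup.one_mem _
    exact Subgroup.mem_centralizer_singleton_iff.2 (commutatorElement_eq_one_iff_mul_comm.1
      (h.comm_comm_mem hq hr hq2 hr2 hqr hQ (hQU.trans hUN) hxP u₀ hu₀ v hv)).symm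
  rw [← QuotientGroup.eq_one_iff, ← QuotientGroup.mk'_apply, map_commutatorElement, ← e,
    ← map_commutatorElement, QuotientGroup.mk'_apply, QuotientGroup.eq_one_iff]
  exact hd

/-- The power centralizes `N` modulo the second Fitting subgroup. -/
theorem commute_quotient [N.Normal] [(Cfsg.fittingOf N).Normal]
    [(Cfsg.fittingOf (N.map (QuotientGroup.mk' (Cfsg.fittingOf N)))).Normal] :
    ∀ g ∈ (N.map (QuotientGroup.mk' (Cfsg.fittingOf N))).map
        (QuotientGroup.mk' (Cfsg.fittingOf (N.map (QuotientGroup.mk' (Cfsg.fittingOf N))))),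
      QuotientGroup.mk' (Cfsg.fittingOf (N.map (QuotientGroup.mk' (Cfsg.fittingOf N))))
          (QuotientGroup.mk' (Cfsg.fittingOf N) x) ^ 2 ^ n * g =
        g * QuotientGroup.mk' (Cfsg.fittingOf (N.map (QuotientGroup.mk' (Cfsg.fittingOf N))))
          (QuotientGroup.mk' (Cfsg.fittingOf N) x) ^ 2 ^ n := by
  set π := QuotientGroup.mk' (Cfsg.fittingOf N) with hπ
  haveI : (N.map π).Normal := Subgroup.Normal.map inferInstance π (QuotientGroup.mk'_surjective _)
  set M := Cfsg.fittingOf (N.map π) with hM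
  set ψ := QuotientGroup.mk' M with hψ
  haveI : ((N.map π).map ψ).Normal := Subgroup.Normal.map inferInstance ψ (QuotientGroup.mk'_surjective _)
  have h' : FpfOp (π x) (N.map π) n j := h.map π
  have h'' : FpfOp (ψ (π x)) ((N.map π).map ψ) n j := h'.map ψ
  refine centralizes_of_fittingOf h''.hsol ?_ ?_
  · refine (h''.coprime_of_le le_rfl).coprime_dvd_left (Subgroup.card_dvd_of_le ?_)
    exact Subgroup.zpowers_le.2 (pow_mem (Subgroup.mem_zpowers _) _)
  · have hle : Cfsg.fittingOf ((N.map π).map ψ) ≤ Subgroup.centralizer {ψ (π x) ^ 2 ^ n} := by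
      refine fittingOf_le_of_coreIn fun r hr => ?_
      haveI := coreIn_normal r ((N.map π).map ψ)
      haveI : ((coreIn r ((N.map π).map ψ)).comap ψ).Normal := Subgroup.Normal.comap inferInstance ψ
      have hUN : (coreIn r ((N.map π).map ψ)).comap ψ ≤ N.map π := by
        refine (Subgroup.comap_mono (coreIn_le r _)).trans ?_
        rw [Subgroup.comap_map_eq, QuotientGroup.ker_mk', sup_eq_left.2 (fittingOf_le_self _)]
      intro g hg
      obtain ⟨u, rfl⟩ := QuotientGroup.mk'_surjective M g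
      have h1 := h.commutator_mem_top hr hUN (fun v hv => by
        obtain ⟨k, hk⟩ := isPGroup_coreIn r ((N.map π).map ψ) ⟨ψ v, hv⟩
        refine ⟨k, ?_⟩
        rw [← QuotientGroup.eq_one_iff, ← QuotientGroup.mk'_apply, map_pow]
        exact congrArg Subtype.val hk) u hg
      rw [← QuotientGroup.eq_one_iff, ← QuotientGroup.mk'_apply, ← hψ, map_commutatorElement, map_pow,
        commutatorElement_eq_one_iff_mul_comm] at h1
      exact Subgroup.mem_centralizer_singleton_iff.2 h1.symm
    exact fun m hm => (Subgroup.mem_centralizer_singleton_iff.1 (hle hm)).symm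

end FpfOp

/-- Fitting height at most two for an operator of order four. -/
theorem iterResid_two_eq_bot {x : X} {N : Subgroup X} [N.Normal] (hsol : Group.IsSolvable N)
    (hC : ∀ g ∈ N, x * g = g * x → g = 1) (hxp : ∀ g ∈ N, x ^ 4 * g = g * x ^ 4) :
    FitLen.iterResid 2 N = ⊥ := by
  let σ : MulAut N := MulAut.conjNormal x
  have hσ : σ ^ 4 = 1 := by
    rw [← map_pow]
    refine MulEquiv.ext fun g => Subtype.ext ?_
    rw [MulAut.conjNormal_apply, hxp g g.2, mul_inv_cancel_right]
    rfl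
  have hfpf : ∀ g : N, σ g = g → g = 1 := fun g hg => Subtype.ext (hC g g.2 (by
    have h1 : x * (g : X) * x⁻¹ = g := by rw [← MulAut.conjNormal_apply]; exact congrArg Subtype.val hg
    exact mul_inv_eq_iff_eq_mul.1 h1))
  have h4 := CfsgLib.FpfFour.isNilpotent_commutator (Nat.card N) N rfl hsol σ ⟨hσ, hfpf⟩
  have h1 : FitLen.iterResid 1 N ≤ (commutator N).map N.subtype := by
    refine (FitLen.resid_le_lcs N 1).trans (le_of_eq ?_)
    rw [Subgroup.lowerCentralSeries_succ, Subgroup.lowerCentralSeries_zero, Subgroup.map_subtype_commutator]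
  refine le_bot_iff.1 ((FitLen.resid_mono h1).trans ?_)
  haveI := h4
  exact (FitLen.resid_eq_bot_iff.2 (Group.nilpotent_of_mulEquiv
    ((commutator N).equivMapOfInjective N.subtype N.subtype_injective))).le

/-- Fitting height at most `2 k + 2`. -/
theorem iterResid_eq_bot (k j : ℕ) :
    ∀ {X : Type u} [Group X] [Finite X] (x : X) (N : Subgroup X), N.Normal → Group.IsSolvable N →
      ¬ 2 ∣ Nat.card N → x ^ 2 ^ j = 1 → (∀ g ∈ N, x * g = g * x → g = 1) →
      (∀ g ∈ N, x ^ 2 ^ (k + 2) * g = g * x ^ 2 ^ (k + 2)) → FitLen.iterResid (2 * k + 2) N = ⊥ := by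
  induction k with
  | zero =>
    intro X _ _ x N hN hsol _ _ hC hxp
    exact iterResid_two_eq_bot hsol hC hxp
  | succ k ih =>
    intro X _ _ x N hN hsol hN2 hxj hC hxp
    have h : FpfOp x N (k + 2) j := ⟨hsol, hN2, hxj, hC, hxp⟩
    haveI := fittingOf_normal N
    set π := QuotientGroup.mk' (Cfsg.fittingOf N) with hπ
    haveI : (N.map π).Normal := Subgroup.Normal.map hN π (QuotientGroup.mk'_surjective _)
    haveI := fittingOf_normal (N.map π)
    set ψ := QuotientGroup.mk' (Cfsg.fittingOf (N.map π)) with hψ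
    have h'' := (h.map π).map ψ
    have hres := ih (ψ (π x)) ((N.map π).map ψ)
      (Subgroup.Normal.map inferInstance ψ (QuotientGroup.mk'_surjective _))
      h''.hsol h''.hN2 h''.hxj h''.hC h.commute_quotient
    rw [← FitLen.iterResid_map, Subgroup.map_eq_bot_iff, hψ, QuotientGroup.ker_mk'] at hres
    have h1 : FitLen.iterResid (2 * k + 3) (N.map π) = ⊥ :=
      le_bot_iff.1 ((FitLen.resid_mono hres).trans (FitLen.resid_eq_bot_iff.2 (fittingOf_isNilpotent _)).le)
    rw [← FitLen.iterResid_map, Subgroup.map_eq_bot_iff, hπ, QuotientGroup.ker_mk'] at h1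
    exact le_bot_iff.1 ((FitLen.resid_mono h1).trans (FitLen.resid_eq_bot_iff.2 (fittingOf_isNilpotent _)).le)

end CfsgLib.HallHigman.FpfTwo
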