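import Cfsg.Agent.Lib.HallHigman.FpfTwo.Contradiction
import Cfsg.Agent.Lib.HallHigman.FpfPower.Key

/-!
Group form: an operator of two-power order without fixed points on three layers.
-/

set_option autoImplicit false
set_option linter.style.haveILetI false
set_option linter.unusedSectionVars false

open scoped commutatorElement

namespace CfsgLib.HallHigman.FpfTwo

open CfsgLib.BG.FixedLine

variable {K W Y : Type*} [Field K] [IsAlgClosed K] [AddCommGroup W] [Module K W] [FiniteDimensional K W]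
  [Group Y] [Finite Y] {ρ : Y →* Module.End K W}

/-- Linear form: the involution's commutators with the top group centralize the middle group. -/
theorem comm_comm_eq_one (hinj : Function.Injective ρ) {x : Y} {q r₀ n : ℕ} (hq : q.Prime) (hq2 : q ≠ 2)
    (hr₀ : r₀.Prime) (hr₀2 : r₀ ≠ 2) (hqr : q ≠ r₀) (hq0 : (q : K) ≠ 0) (h2 : (2 : K) ≠ 0)
    (hxr : x ^ 2 ^ (n + 1) = 1) (hfix : fix ρ x = ⊥) :
    ∀ S R : Subgroup Y, IsPGroup q S → IsPGroup r₀ R → (∀ v ∈ S, x * v * x⁻¹ ∈ S) →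
      (∀ u ∈ R, x * u * x⁻¹ ∈ R) → (∀ u ∈ R, ∀ v ∈ S, u * v * u⁻¹ ∈ S) →
      (∀ v ∈ S, x * v = v * x → v = 1) → (∀ u ∈ R, x * u = u * x → u = 1) →
      ∀ u ∈ R, ∀ v ∈ S, ⁅⁅x ^ 2 ^ n, u⁆, v⁆ = 1 := by
  intro S R
  induction hc : Nat.card S + Nat.card R using Nat.strong_induction_on generalizing S R with
  | _ m ih =>
  intro hS hR hxS hxR hRS hCS hCR
  subst hc
  by_contra hmove
  push Not at hmove
  refine Triple.false (ρ := ρ) (S := S) (R := R) (x := x) (q := q) (r₀ := r₀) (n := n)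
    ⟨hinj, hq, hq2, hr₀, hr₀2, hqr, hq0, h2, hxr, hfix, hS, hR, hxS, hxR, hRS, hCS, hCR, ?_, hmove⟩
  intro S' R' hS' hR' hlt hxS' hxR' hRS'
  refine ih _ ?_ S' R' rfl (hS.to_le hS') (hR.to_le hR') hxS' hxR' hRS'
    (fun v hv => hCS v (hS' hv)) (fun u hu => hCR u (hR' hu))
  rcases hlt with h | h
  · exact Nat.add_lt_add_of_lt_of_le (Set.Finite.card_lt_card (Set.toFinite _) (SetLike.coe_ssubset_coe.2 h))
      (Subgroup.card_le_of_le hR')
  · exact Nat.add_lt_add_of_le_of_lt (Subgroup.card_le_of_le hS')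
      (Set.Finite.card_lt_card (Set.toFinite _) (SetLike.coe_ssubset_coe.2 h))

variable {X : Type*} [Group X] [Finite X]

/-- Group form. -/
theorem comm_comm_mem_centralizer {q r₀ s n j : ℕ} (hq : q.Prime) (hr₀ : r₀.Prime) (hs : s.Prime)
    (hq2 : q ≠ 2) (hr₀2 : r₀ ≠ 2) (hs2 : s ≠ 2) (hqr : q ≠ r₀) (hqs : q ≠ s) {V S R : Subgroup X} {x : X}
    (hV : Cfsg.IsElementaryAbelian s V) (hS : IsPGroup q S) (hR : IsPGroup r₀ R) (hxj : x ^ 2 ^ j = 1)
    (hxS : x ∈ Subgroup.normalizer (S : Set X)) (hxR : x ∈ Subgroup.normalizer (R : Set X))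
    (hxV : x ∈ Subgroup.normalizer (V : Set X)) (hRS : R ≤ Subgroup.normalizer (S : Set X))
    (hSV : S ≤ Subgroup.normalizer (V : Set X)) (hRV : R ≤ Subgroup.normalizer (V : Set X))
    (hCV : ∀ v ∈ V, x * v = v * x → v = 1) (hCS : ∀ v ∈ S, x * v = v * x → v = 1)
    (hCR : ∀ u ∈ R, x * u = u * x → u = 1)
    (hxp : x ^ 2 ^ (n + 1) ∈ Subgroup.centralizer (V : Set X)) :
    ∀ u ∈ R, ∀ v ∈ S, ⁅⁅x ^ 2 ^ n, u⁆, v⁆ ∈ Subgroup.centralizer (V : Set X) := by
  haveI := Fact.mk hs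
  set H := (R ⊔ S) ⊔ Subgroup.zpowers x with hH
  have hHV : H ≤ Subgroup.normalizer (V : Set X) := sup_le (sup_le hRV hSV) (Subgroup.zpowers_le.2 hxV)
  haveI := finiteDimensional_dual s (V := V)
  set ρ := dualRep s hHV with hρ
  let φ := ρ.toHomUnits
  let ρ' := (Units.coeHom _).comp φ.range.subtype
  haveI : Finite φ.range := Finite.of_surjective _ φ.rangeRestrict_surjective
  set xH : H := ⟨x, Subgroup.mem_sup_right (Subgroup.mem_zpowers x)⟩ with hxH
  have hρ' : ∀ g : H, ρ' (φ.rangeRestrict g) = ρ g := fun g => MonoidHom.coe_toHomUnits ρ g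
  have hinj : Function.Injective ρ' := fun a b h => Subtype.ext (Units.ext h)
  have hxord : orderOf x ∣ 2 ^ j := orderOf_dvd_of_pow_eq_one hxj
  have hfix : fix ρ' (φ.rangeRestrict xH) = ⊥ := by
    have h0 : fix ρ xH = ⊥ := fix_dualRep_eq_bot s hV hHV xH
      ((((Nat.coprime_primes Nat.prime_two hs).2 hs2.symm).pow_left j).coprime_dvd_left hxord)
      (le_bot_iff.1 fun v hv => hCV v hv.1 (hv.2 x rfl))
    rw [← h0]
    ext w
    simp only [mem_fix, hρ']
  have himage : ∀ {t : ℕ}, t.Prime → t ≠ 2 → ∀ {U : Subgroup X}, U ≤ H → IsPGroup t U →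
      x ∈ Subgroup.normalizer (U : Set X) → (∀ v ∈ U, x * v = v * x → v = 1) →
      IsPGroup t ((U.subgroupOf H).map φ.rangeRestrict) ∧
      (∀ v ∈ (U.subgroupOf H).map φ.rangeRestrict,
        φ.rangeRestrict xH * v * (φ.rangeRestrict xH)⁻¹ ∈ (U.subgroupOf H).map φ.rangeRestrict) ∧
      (∀ v ∈ (U.subgroupOf H).map φ.rangeRestrict,
        φ.rangeRestrict xH * v = v * φ.rangeRestrict xH → v = 1) := by
    intro t ht ht2 U hUH hU hxU hCU
    have hmem : ∀ u : H, u ∈ U.subgroupOf H → xH * u * xH⁻¹ ∈ U.subgroupOf H := fun u hu =>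
      (Subgroup.mem_normalizer_iff.1 hxU u).1 hu
    have hcop : (Nat.card (Subgroup.zpowers xH)).Coprime (Nat.card (U.subgroupOf H)) := by
      haveI := Fact.mk ht
      obtain ⟨i, hi⟩ := (hU.of_equiv (Subgroup.subgroupOfEquivOfLe hUH).symm).exists_card_eq
      rw [hi, Nat.card_zpowers, ← Subgroup.orderOf_coe]
      exact (((Nat.coprime_primes Nat.prime_two ht).2 ht2.symm).pow j i).coprime_dvd_left hxord
    have hmap := CfsgLib.Coprime.map_inf_centralizer (zpowers_le_normalizer hmem) hcop (Or.inl inferInstance)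
      φ.rangeRestrict
    have hbot : U.subgroupOf H ⊓ Subgroup.centralizer (Subgroup.zpowers xH : Set H) = ⊥ :=
      FpfPower.inf_centralizer_zpowers_eq_bot fun g hg h => Subtype.ext (hCU g hg (congrArg Subtype.val h))
    rw [hbot, Subgroup.map_bot] at hmap
    refine ⟨(hU.of_equiv (Subgroup.subgroupOfEquivOfLe hUH).symm).map _, ?_, fun v hv h => ?_⟩
    · rintro - ⟨u, hu, rfl⟩
      exact ⟨xH * u * xH⁻¹, hmem u hu, by simp⟩
    · have hv' : v ∈ (U.subgroupOf H).map φ.rangeRestrict ⊓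
          Subgroup.centralizer ((Subgroup.zpowers xH).map φ.rangeRestrict : Set φ.range) := by
        refine ⟨hv, ?_⟩
        rintro - ⟨a, ha, rfl⟩
        obtain ⟨i, rfl⟩ := Subgroup.mem_zpowers_iff.1 ha
        rw [map_zpow]
        exact ((show Commute (φ.rangeRestrict xH) v from h).zpow_left i).eq
      rwa [← hmap, Subgroup.mem_bot] at hv'
  have hRH : R ≤ H := le_sup_left.trans le_sup_left
  have hSH : S ≤ H := le_sup_right.trans le_sup_left
  obtain ⟨hS', hxS', hCS'⟩ := himage hq hq2 hSH hS hxS hCS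
  obtain ⟨hR', hxR', hCR'⟩ := himage hr₀ hr₀2 hRH hR hxR hCR
  have hq0 : (q : AlgebraicClosure (ZMod s)) ≠ 0 :=
    natCast_ne_zero_dual s fun h => hqs ((Nat.prime_dvd_prime_iff_eq hs hq).1 h).symm
  have h2 : (2 : AlgebraicClosure (ZMod s)) ≠ 0 := by
    have := natCast_ne_zero_dual s (n := 2) fun h => hs2 ((Nat.prime_dvd_prime_iff_eq hs Nat.prime_two).1 h)
    exact_mod_cast this
  have key := comm_comm_eq_one (ρ := ρ') (x := φ.rangeRestrict xH) (n := n) hinj hq hq2 hr₀ hr₀2 hqr hq0 h2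
    (hinj (by
      rw [← map_pow φ.rangeRestrict, hρ', map_one]
      exact (dualRep_eq_one_iff s hV hHV (xH ^ 2 ^ (n + 1))).2 (by simpa [hxH] using hxp)))
    hfix _ _ hS' hR' hxS' hxR'
    (by
      rintro - ⟨u, hu, rfl⟩ - ⟨v, hv, rfl⟩
      refine ⟨u * v * u⁻¹, ?_, by simp⟩
      exact (Subgroup.mem_normalizer_iff.1 (hRS hu) v).1 hv)
    hCS' hCR'
  intro u hu v hv
  set uH : H := ⟨u, hRH hu⟩ with huH
  set vH : H := ⟨v, hSH hv⟩ with hvH
  have h1 := key _ (Subgroup.mem_map_of_mem _ (show uH ∈ R.subgroupOf H from hu)) _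
    (Subgroup.mem_map_of_mem _ (show vH ∈ S.subgroupOf H from hv))
  rw [← map_pow, ← map_commutatorElement, ← map_commutatorElement] at h1
  have h2' := congrArg ρ' h1
  rw [hρ', map_one] at h2'
  simpa [hxH, huH, hvH, commutatorElement_def] using (dualRep_eq_one_iff s hV hHV _).1 h2'

end CfsgLib.HallHigman.FpfTwo
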