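import Cfsg.Agent.Lib.HallHigman.FpfPower.Block
import Cfsg.Agent.Lib.HallHigman.FpfPower.Count

/-!
Homogeneous components of a class two group of odd order: an involution inverting it modulo the
centre, and an operator of order four squaring to it, move much of every component.
-/

set_option autoImplicit false
set_option linter.style.haveILetI false
set_option linter.unusedSectionVars false

open scoped commutatorElement

namespace CfsgLib.HallHigman.FpfTwo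

open CfsgLib.BG.FixedLine
open CfsgLib.HallHigman.FpfPower (ext ext_eq ext_mul ext_one ext_ne_zero)

variable {K W Y : Type*} [Field K] [IsAlgClosed K] [AddCommGroup W] [Module K W] [Group Y] [Finite Y]
  (ρ : Y →* Module.End K W)

/-- A group of class two and an involution inverting it modulo a central subgroup. -/
structure Pieces (B Z : Subgroup Y) (y : Y) (r₀ : ℕ) : Prop where
  hr₀ : r₀.Prime
  hr₀2 : r₀ ≠ 2
  hr00 : (r₀ : K) ≠ 0
  h2 : (2 : K) ≠ 0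
  hB : IsPGroup r₀ B
  hZB : Z ≤ B
  hcen : ∀ z ∈ Z, ∀ u ∈ B, z * u = u * z
  hder : ∀ u ∈ B, ∀ v ∈ B, ⁅u, v⁆ ∈ Z
  hy2 : y ^ 2 = 1
  hyB : ∀ u ∈ B, y * u * y⁻¹ ∈ B
  hyZ : ∀ z ∈ Z, y * z = z * y
  hyU : ∀ u ∈ B, ⁅y, u⁆ ∈ Z → u ∈ Z
  hscal : ∀ μ : Chi K Z, comp ρ Z μ ≠ ⊥ → ∀ a ∈ B, (∀ v ∈ B, ext μ ⁅a, v⁆ = 1) →
    ∃ t : K, ∀ w ∈ comp ρ Z μ, ρ a w = t • w

variable {ρ}

namespace Pieces

variable {B Z : Subgroup Y} {y : Y} {r₀ : ℕ} (P : Pieces ρ B Z y r₀)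

include P

theorem comm_mul_left {a b v : Y} (ha : a ∈ B) (hb : b ∈ B) (hv : v ∈ B) :
    ⁅a * b, v⁆ = ⁅a, v⁆ * ⁅b, v⁆ := by
  calc ⁅a * b, v⁆ = a * ⁅b, v⁆ * a⁻¹ * ⁅a, v⁆ := by simp only [commutatorElement_def]; group
    _ = ⁅b, v⁆ * ⁅a, v⁆ := by rw [← P.hcen _ (P.hder b hb v hv) a ha, mul_inv_cancel_right]
    _ = _ := P.hcen _ (P.hder b hb v hv) _ (P.hZB (P.hder a ha v hv))

/-- The radical of the form of a character. -/
def rad (μ : Chi K Z) : Subgroup Y where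
  carrier := {u | u ∈ B ∧ ∀ v ∈ B, ext μ ⁅u, v⁆ = 1}
  one_mem' := ⟨B.one_mem, fun v _ => by rw [commutatorElement_one_left, ext_one]⟩
  mul_mem' {a b} ha hb := ⟨B.mul_mem ha.1 hb.1, fun v hv => by
    rw [P.comm_mul_left ha.1 hb.1 hv, ext_mul μ (P.hder a ha.1 v hv) (P.hder b hb.1 v hv), ha.2 v hv,
      hb.2 v hv, one_mul]⟩
  inv_mem' {a} ha := ⟨B.inv_mem ha.1, fun v hv => by
    have h := P.comm_mul_left (B.inv_mem ha.1) ha.1 hv
    rw [inv_mul_cancel, commutatorElement_one_left] at h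
    have h' := congrArg (ext μ) h
    rw [ext_one, ext_mul μ (P.hder a⁻¹ (B.inv_mem ha.1) v hv) (P.hder a ha.1 v hv), ha.2 v hv,
      mul_one] at h'
    exact h'.symm⟩

theorem le_rad (μ : Chi K Z) : Z ≤ P.rad μ := fun z hz => ⟨P.hZB hz, fun v hv => by
  rw [commutatorElement_eq_one_iff_mul_comm.2 (P.hcen z hz v hv), ext_one]⟩

theorem rad_inv (μ : Chi K Z) : P.rad μ⁻¹ = P.rad μ := by
  ext u
  refine and_congr_right fun hu => forall₂_congr fun v hv => ?_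
  rw [ext_eq μ⁻¹ (P.hder u hu v hv), ext_eq μ (P.hder u hu v hv)]
  simp

theorem rad_relIndex_conj (g : Subgroup.normalizer (Z : Set Y)) (hg : ∀ u ∈ B, (g : Y) * u * (g : Y)⁻¹ ∈ B)
    (μ : Chi K Z) : (P.rad (g • μ)).relIndex B = (P.rad μ).relIndex B := by
  set φ := (MulAut.conj (g : Y)).toMonoidHom with hφ
  have hmap : B.map φ = B := by
    refine Subgroup.eq_of_le_of_card_ge ?_ ?_
    · rintro - ⟨u, hu, rfl⟩
      exact hg u hu
    · rw [Subgroup.card_map_of_injective (MulAut.conj (g : Y)).injective]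
  have key : ∀ z (hz : z ∈ Z), ext (g • μ) ((g : Y) * z * (g : Y)⁻¹) = ext μ z := by
    intro z hz
    have hz' := (Subgroup.mem_normalizer_iff.1 g.2 z).1 hz
    rw [ext_eq _ hz', ext_eq _ hz]
    show ((μ (CfsgLib.Coprime.conjAct le_rfl g⁻¹ ⟨_, hz'⟩) : Kˣ) : K) = _
    congr 2
    apply Subtype.ext
    rw [CfsgLib.Coprime.coe_conjAct]
    simp only [Subgroup.coe_inv, inv_inv]
    group
  have hradmap : (P.rad μ).map φ = P.rad (g • μ) := by
    ext w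
    constructor
    · rintro ⟨u, ⟨hu, hu'⟩, rfl⟩
      refine ⟨hg u hu, fun v hv => ?_⟩
      obtain ⟨v', hv', rfl⟩ := hmap.ge hv
      rw [← map_commutatorElement]
      exact (key _ (P.hder u hu v' hv')).trans (hu' v' hv')
    · rintro ⟨hw, hw'⟩
      obtain ⟨u, hu, rfl⟩ := hmap.ge hw
      refine ⟨u, ⟨hu, fun v hv => ?_⟩, rfl⟩
      have h1 := hw' (φ v) (hmap.le ⟨v, hv, rfl⟩)
      rw [← map_commutatorElement] at h1
      exact (key _ (P.hder u hu v hv)).symm.trans h1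
  rw [← hradmap]
  exact (congrArg (fun T => ((P.rad μ).map φ).relIndex T) hmap.symm).trans
    (Subgroup.relIndex_map_map_of_injective _ _ (MulAut.conj (g : Y)).injective)

/-- An operator stabilizing a component, with the involution as its smallest power. -/
structure Op (P : Pieces ρ B Z y r₀) (μ : Chi K Z) (g : Y) (c : ℕ) : Prop where
  hg : g ^ 2 ^ (c + 1) = 1
  hgy : y = g ^ 2 ^ c
  hgB : ∀ u ∈ B, g * u * g⁻¹ ∈ B
  hgZ : ∀ z ∈ Z, g * z * g⁻¹ ∈ Z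
  hgμ : ∀ z ∈ Z, ext μ (g * z * g⁻¹) = ext μ z

theorem exists_comm_y {μ : Chi K Z} {r : Y} (hr : r ∈ P.rad μ) : ∃ w ∈ P.rad μ, ⁅y, w⁆⁻¹ * r ∈ Z := by
  haveI := Fact.mk P.hr₀
  -- `r` has odd order and is inverted modulo `Z`, so it is a square of such an element
  obtain ⟨k, hk⟩ := P.hB ⟨r, hr.1⟩
  have hk' : r ^ r₀ ^ k = 1 := congrArg Subtype.val hk
  obtain ⟨m, hm⟩ := (P.hr₀.odd_of_ne_two P.hr₀2).pow (n := k)
  have hinv : ∀ u ∈ B, y * u * y⁻¹ * u ∈ Z := by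
    intro u hu
    refine P.hyU _ (B.mul_mem (P.hyB u hu) hu) ?_
    have hyy : y * y = 1 := by rw [← pow_two]; exact P.hy2
    have : ⁅y, y * u * y⁻¹ * u⁆ = ⁅u, y * u * y⁻¹⁆ := by
      have hyi : y⁻¹ = y := inv_eq_of_mul_eq_one_left hyy
      have hyya : ∀ a : Y, y * (y * a) = a := fun a => by rw [← mul_assoc, hyy, one_mul]
      simp only [commutatorElement_def, mul_inv_rev, inv_inv, hyi, mul_assoc, hyya]
    rw [this]
    exact P.hder u hu _ (P.hyB u hu)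
  -- take `w = r ^ m`
  refine ⟨r ^ m, (P.rad μ).pow_mem hr m, ?_⟩
  have h1 := hinv (r ^ m) (B.pow_mem hr.1 m)
  have e : ⁅y, r ^ m⁆⁻¹ * r = r ^ m * r ^ m * ((y * r ^ m * y⁻¹ * r ^ m)⁻¹ * r) := by
    simp only [commutatorElement_def]; group
  have e2 : r ^ m * r ^ m * r = 1 := by
    rw [← pow_add, ← pow_succ, show m + m + 1 = r₀ ^ k by omega, hk']
  rw [e, P.hcen _ (Z.inv_mem h1) r hr.1, ← mul_assoc, e2, one_mul]
  exact Z.inv_mem h1

variable [FiniteDimensional K W]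

/-- The counting facts for one component and one operator. -/
theorem comp_count {μ : Chi K Z} (hμ : comp ρ Z μ ≠ ⊥) (hne : ∃ a ∈ B, ∃ b ∈ B, ext μ ⁅a, b⁆ ≠ 1)
    {g : Y} {c : ℕ} (O : P.Op μ g c) :
    ∃ n o b : ℕ, (P.rad μ).relIndex B = (r₀ ^ n) ^ 2 ∧ n ≠ 0 ∧
      (r₀ ^ n) ^ 2 = 1 + o * 2 ^ (c + 1) ∧
      (r₀ ^ n) ^ 2 * b ≤ Module.finrank K (comp ρ Z μ) ^ 2 ∧ 0 < b ∧
      (2 ^ (c + 1) - 1) * Module.finrank K ↥(comp ρ Z μ ⊓ fix ρ g) ^ 2 +
        (Module.finrank K (comp ρ Z μ) - Module.finrank K ↥(comp ρ Z μ ⊓ fix ρ g)) ^ 2 ≤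
        (2 ^ (c + 1) - 1) * ((1 + o) * b) := by
  classical
  haveI := Fact.mk P.hr₀
  set E := comp ρ Z μ with hE
  haveI : Nontrivial E := (Submodule.nontrivial_iff_ne_bot).2 hμ
  set S := stab ρ E with hS
  have hgn : g ∈ Subgroup.normalizer (Z : Set Y) := mem_normalizer_of_conj O.hgZ
  have hstab : ∀ (s : Y) (hs : s ∈ Subgroup.normalizer (Z : Set Y)),
      (∀ z ∈ Z, ext μ (s * z * s⁻¹) = ext μ z) → s ∈ S := by
    intro s hs hsμ v hv
    have h := rho_mem_comp ρ Z ⟨s, hs⟩ hv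
    rwa [(FpfPower.smul_chi_eq_iff ⟨s, hs⟩ μ).2 fun a => Units.ext (by
      have hz : s⁻¹ * (a : Y) * s ∈ Z := by
        have := ((Subgroup.mem_normalizer_iff.1 (inv_mem hs)) (a : Y)).1 a.2
        rwa [inv_inv] at this
      have := hsμ _ hz
      rw [show s * (s⁻¹ * (a : Y) * s) * s⁻¹ = (a : Y) by group, ext_eq μ hz, ext_eq μ a.2] at this
      refine Eq.trans (congrArg (fun t : Z => (μ t : K)) (Subtype.ext ?_)) this.symm
      rw [CfsgLib.Coprime.coe_conjAct]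
      simp)] at h
  have hgS : g ∈ S := hstab g hgn O.hgμ
  have hBS : B ≤ S := fun u hu => by
    refine hstab u (mem_normalizer_of_conj fun z hz => ?_) fun z hz => ?_
    · rwa [← P.hcen z hz u hu, mul_inv_cancel_right]
    · rw [← P.hcen z hz u hu, mul_inv_cancel_right]
  have hyS : y ∈ S := O.hgy ▸ S.pow_mem hgS _
  have hRB : P.rad μ ≤ B := fun u hu => hu.1
  let f := (res ρ E).toHomUnits
  let σ : f.range →* Module.End K E := (Units.coeHom (Module.End K E)).comp f.range.subtype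
  have hσ : Function.Injective σ := fun a b h => Subtype.ext (Units.ext h)
  haveI : Finite f.range := Finite.of_surjective f.rangeRestrict f.rangeRestrict_surjective
  let φ := f.rangeRestrict
  have hσg : ∀ (s : S) (v : E), ((σ (φ s) v : E) : W) = ρ (s : Y) v := fun s v => rfl
  have hZscal : ∀ z (hz : z ∈ Z), σ (φ ⟨z, hBS (P.hZB hz)⟩) = ext μ z • 1 := fun z hz =>
    LinearMap.ext fun v => Subtype.ext (by
      rw [hσg, LinearMap.smul_apply, Module.End.one_apply, Submodule.coe_smul, ext_eq μ hz]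
      exact v.2 ⟨z, hz⟩)
  have hscal_inj : ∀ {a b : K}, (a • (1 : Module.End K E)) = b • 1 → a = b := fun {a b} h =>
    smul_left_injective K (one_ne_zero (α := Module.End K E)) h
  set Ue := (B.subgroupOf S).map φ with hUe
  set Re := ((P.rad μ).subgroupOf S).map φ with hRe
  set ge := φ ⟨g, hgS⟩ with hge
  set ye := φ ⟨y, hyS⟩ with hye
  have hye' : ye = ge ^ 2 ^ c := by
    rw [hge, hye, ← map_pow]; congr 1; exact Subtype.ext (by simpa using O.hgy)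
  have hger : ge ^ 2 ^ (c + 1) = 1 := by
    rw [hge, ← map_pow, show (⟨g, hgS⟩ : S) ^ 2 ^ (c + 1) = 1 from Subtype.ext (by simpa using O.hg),
      map_one]
  have hRscal : ∀ a ∈ Re, ∃ t : K, σ a = t • 1 := by
    rintro - ⟨⟨r, hrS⟩, hr, rfl⟩
    obtain ⟨t, ht⟩ := P.hscal μ hμ r (show r ∈ P.rad μ from hr).1 (show r ∈ P.rad μ from hr).2
    exact ⟨t, LinearMap.ext fun v => Subtype.ext (by rw [hσg]; exact ht v v.2)⟩
  let lamE : f.range → K := fun a => if h : ∃ t : K, σ a = t • 1 then h.choose else 0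
  have hlamE : ∀ {a : f.range} {t : K}, σ a = t • 1 → lamE a = t := fun {a t} h => by
    have h' : ∃ t : K, σ a = t • 1 := ⟨t, h⟩
    simp only [lamE, dif_pos h']
    exact hscal_inj (h'.choose_spec.symm.trans h)
  have hgcomm : ∀ (a b : S), φ ⁅a, b⁆ = ⁅φ a, φ b⁆ := fun a b => map_commutatorElement φ a b
  have hlamC : ∀ {a b : Y} (ha : a ∈ B) (hb : b ∈ B),
      lamE ⁅φ ⟨a, hBS ha⟩, φ ⟨b, hBS hb⟩⁆ = ext μ ⁅a, b⁆ := fun {a b} ha hb => by
    refine hlamE ?_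
    rw [← hgcomm, show ⁅(⟨a, hBS ha⟩ : S), ⟨b, hBS hb⟩⁆ = ⟨⁅a, b⁆, hBS (P.hZB (P.hder a ha b hb))⟩ from
      Subtype.ext rfl, hZscal _ (P.hder a ha b hb)]
  have hmem : ∀ {u : Y} (hu : u ∈ B), φ ⟨u, hBS hu⟩ ∈ Re → u ∈ P.rad μ := by
    rintro u hu ⟨⟨r, hrS⟩, hr, he⟩
    refine ⟨hu, fun v hv => ?_⟩
    rw [← hlamC hu hv, ← he, hlamC (hRB (show r ∈ P.rad μ from hr)) hv,
      (show r ∈ P.rad μ from hr).2 v hv]
  have hcentralRe : ∀ z ∈ Re, ∀ a : f.range, z * a = a * z := fun z hz a => by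
    obtain ⟨t, ht⟩ := hRscal z hz
    refine hσ ?_
    rw [map_mul, map_mul, ht, smul_mul_assoc, one_mul, mul_smul_comm, mul_one]
  have hUp : IsPGroup r₀ Ue := (P.hB.of_equiv (Subgroup.subgroupOfEquivOfLe hBS).symm).map φ
  have hcentral : Central σ Ue Re ye 2 lamE := by
    refine ⟨Nat.prime_two, ?_, ?_, Subgroup.map_mono (fun s hs => hRB hs), fun z hz => (hcentralRe z hz ye).symm,
      fun z hz u _ => hcentralRe z hz u, ?_, fun z hz => ?_, ?_, ?_, ?_⟩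
    · rw [hye', ← pow_mul, ← pow_succ, hger]
    · rintro - ⟨⟨u, _⟩, hu, rfl⟩
      refine ⟨⟨y, hyS⟩ * ⟨u, _⟩ * ⟨y, hyS⟩⁻¹, ?_, by rw [map_mul, map_mul, map_inv]⟩
      exact P.hyB u hu
    · rintro - ⟨⟨u, _⟩, hu, rfl⟩ - ⟨⟨v, _⟩, hv, rfl⟩
      exact ⟨_, P.le_rad μ (P.hder u hu v hv), hgcomm _ _⟩
    · obtain ⟨t, ht⟩ := hRscal z hz
      rw [hlamE ht, ht]
    · rintro - ⟨⟨u, hu'⟩, hu, rfl⟩ h
      refine ⟨⟨u, hu'⟩, ⟨hu, fun v hv => ?_⟩, rfl⟩
      exact (hlamC hu hv).symm.trans (h _ ⟨⟨v, hBS hv⟩, hv, rfl⟩)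
    · rintro - ⟨⟨u, hu'⟩, hu, rfl⟩ h
      refine ⟨⟨u, hu'⟩, ?_, rfl⟩
      have hyu : ⁅y, u⁆ ∈ B := B.mul_mem (P.hyB u hu) (B.inv_mem hu)
      have h1 : φ ⟨⁅y, u⁆, hBS hyu⟩ ∈ Re := by
        rw [show (⟨⁅y, u⁆, hBS hyu⟩ : S) = ⁅(⟨y, hyS⟩ : S), ⟨u, hu'⟩⁆ from Subtype.ext rfl, hgcomm]
        exact h
      obtain ⟨w, hw, hz⟩ := P.exists_comm_y (hmem hyu h1)
      show u ∈ P.rad μ
      have hw1 : w⁻¹ * u ∈ B := B.mul_mem (B.inv_mem hw.1) hu
      have h2 : w⁻¹ * u ∈ Z := by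
        refine P.hyU _ hw1 ?_
        have hyw : ⁅y, w⁆ ∈ B := B.mul_mem (P.hyB w hw.1) (B.inv_mem hw.1)
        have e : ⁅y, u⁆ = ⁅y, w⁆ * (⁅w, ⁅y, w⁻¹ * u⁆⁆ * ⁅y, w⁻¹ * u⁆) := by
          simp only [commutatorElement_def]; group
        rw [e, inv_mul_cancel_left] at hz
        exact (Subgroup.mul_mem_cancel_left _ (P.hder w hw.1 _
          (B.mul_mem (P.hyB _ hw1) (B.inv_mem hw1)))).1 hz
      simpa using (P.rad μ).mul_mem hw (P.le_rad μ h2)
    · exact natCast_ne_zero_of_isPGroup (K := K) hUp P.hr00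
  have hop : FpfPower.PowOp Ue Re ge ye 2 c := by
    refine ⟨Nat.prime_two, hger, hye', ?_, fun z hz => (hcentralRe z hz ge).symm⟩
    rintro - ⟨⟨u, _⟩, hu, rfl⟩
    exact ⟨⟨g, hgS⟩ * ⟨u, _⟩ * ⟨g, hgS⟩⁻¹, O.hgB u hu, by rw [map_mul, map_mul, map_inv]⟩
  have hrel : Re.relIndex Ue = (P.rad μ).relIndex B := by
    rw [Subgroup.relIndex, Subgroup.relIndex]
    let ψ : B →* Ue :=
      { toFun := fun u => ⟨φ ⟨u, hBS u.2⟩, _, u.2, rfl⟩
        map_one' := Subtype.ext (map_one φ)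
        map_mul' := fun a b => Subtype.ext (map_mul φ ⟨a, hBS a.2⟩ ⟨b, hBS b.2⟩) }
    have hψ : Function.Surjective ψ := by
      rintro ⟨-, ⟨u, hu'⟩, hu, rfl⟩
      exact ⟨⟨u, hu⟩, rfl⟩
    rw [← Subgroup.index_comap_of_surjective (Re.subgroupOf Ue) hψ]
    congr 1
    ext u
    exact ⟨fun h => hmem u.2 h, fun h => ⟨⟨u, hBS u.2⟩, h, rfl⟩⟩
  obtain ⟨n, hn⟩ := hcentral.exists_index_eq P.hr₀ hUp
  obtain ⟨o, ho, he⟩ := hop.comm_dim_le hcentral
  refine ⟨n, o, Module.finrank K (commS σ Ue), hrel ▸ hn, ?_, hn ▸ ho, hn ▸ hcentral.index_mul_le,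
    hcentral.finrank_commS_pos, ?_⟩
  · rintro rfl
    obtain ⟨a, ha, b, hb, hab⟩ := hne
    rw [pow_zero, one_pow, hrel, Subgroup.relIndex_eq_one] at hn
    exact hab ((hn ha).2 b hb)
  set r := 2 ^ (c + 1) with hrdef
  haveI : NeZero r := ⟨pow_ne_zero _ two_ne_zero⟩
  have hr0 : (r : K) ≠ 0 := by rw [hrdef, Nat.cast_pow]; exact pow_ne_zero _ (by exact_mod_cast P.h2)
  haveI : NeZero (r : K) := ⟨hr0⟩
  obtain ⟨ω, hω⟩ := HasEnoughRootsOfUnity.exists_primitiveRoot K r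
  obtain ⟨hN, hM⟩ := exists_eigen_dims (σ ge) (by rw [← map_pow, hger, map_one]) hr0 hω
  set M : Fin r → ℕ := fun i => Module.finrank K (Module.End.eigenspace (σ ge) (ω ^ (i : ℕ)))
  have hM0 : M 0 = Module.finrank K ↥(E ⊓ fix ρ g) := by
    show Module.finrank K (Module.End.eigenspace (σ ge) (ω ^ ((0 : Fin r) : ℕ))) = _
    have hfix : fix σ ge = (E ⊓ fix ρ g).comap E.subtype := by
      ext v
      rw [Submodule.mem_comap, Submodule.mem_inf, mem_fix, mem_fix]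
      exact ⟨fun h => ⟨v.2, (hσg ⟨g, hgS⟩ v).symm.trans (congrArg Subtype.val h)⟩,
        fun h => Subtype.ext ((hσg ⟨g, hgS⟩ v).trans h.2)⟩
    rw [Fin.val_zero, pow_zero, ← fix_eq_eigenspace, hfix]
    exact (Submodule.comapSubtypeEquivOfLe (inf_le_left : E ⊓ fix ρ g ≤ E)).finrank_eq
  have hsum := Finset.add_sum_erase Finset.univ M (Finset.mem_univ (0 : Fin r))
  have hsum2 := Finset.add_sum_erase Finset.univ (fun i => M i ^ 2) (Finset.mem_univ (0 : Fin r))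
  rw [hN] at hsum
  have h1 := sq_sum_le_card_mul_sum_sq (s := Finset.univ.erase (0 : Fin r)) (f := M)
  rw [Finset.card_erase_of_mem (Finset.mem_univ _), Finset.card_univ, Fintype.card_fin] at h1
  rw [show Module.finrank K E - Module.finrank K ↥(E ⊓ fix ρ g) =
    ∑ i ∈ Finset.univ.erase (0 : Fin r), M i by omega, ← hM0]
  have hbt : Module.finrank K ↥(commS σ Ue ⊓ comm (σ ge)) ≤ Module.finrank K (commS σ Ue) :=
    Submodule.finrank_mono inf_le_left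
  calc (r - 1) * M 0 ^ 2 + (∑ i ∈ Finset.univ.erase (0 : Fin r), M i) ^ 2
      ≤ (r - 1) * (M 0 ^ 2 + ∑ i ∈ Finset.univ.erase (0 : Fin r), M i ^ 2) := by
        rw [mul_add]; exact Nat.add_le_add_left h1 _
    _ ≤ _ := Nat.mul_le_mul le_rfl (by rw [hsum2, add_mul, one_mul]; omega)

/-- Each component: the involution moves at least `h`, an element of order four at least `h + 1`, and
a stabilizing operator has order at most `4 * (h + 1)`, where the form has index `(2 * h + 1) ^ 2`. -/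
theorem comp_bounds {μ : Chi K Z} (hμ : comp ρ Z μ ≠ ⊥) (hne : ∃ a ∈ B, ∃ b ∈ B, ext μ ⁅a, b⁆ ≠ 1)
    {h : ℕ} (hh : (P.rad μ).relIndex B = (2 * h + 1) ^ 2) {g : Y} {c : ℕ} (O : P.Op μ g c) :
    1 ≤ h ∧ (h = 1 → r₀ = 3) ∧ 2 ^ (c + 1) ≤ 4 * (h + 1) ∧
    (c = 0 → Module.finrank K ↥(comp ρ Z μ ⊓ fix ρ g) + h ≤ Module.finrank K (comp ρ Z μ)) ∧
    (c = 1 → Module.finrank K ↥(comp ρ Z μ ⊓ fix ρ g) + (h + 1) ≤ Module.finrank K (comp ρ Z μ)) := by
  obtain ⟨n, o, b, hn, hn0, ho, hb, hb0, hcount⟩ := P.comp_count hμ hne O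
  have hn' : r₀ ^ n = 2 * h + 1 := Nat.pow_left_injective two_ne_zero (hn.symm.trans hh)
  rw [hn'] at ho hb
  have h3 : 3 ≤ r₀ := by have := P.hr₀.two_le; have := P.hr₀2; omega
  have hh1 : 1 ≤ h := by
    have := Nat.le_self_pow hn0 r₀
    omega
  set N := Module.finrank K (comp ρ Z μ)
  set f := Module.finrank K ↥(comp ρ Z μ ⊓ fix ρ g)
  have hfN : f ≤ N := Submodule.finrank_mono inf_le_left
  have hnN : 2 * h + 1 ≤ N := by
    refine (Nat.pow_le_pow_iff_left two_ne_zero).1 (le_trans ?_ hb)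
    exact Nat.le_mul_of_pos_right _ hb0
  refine ⟨hh1, ?_, ?_, ?_, ?_⟩
  · rintro rfl
    rcases Nat.lt_or_ge n 2 with hn2 | hn2
    · rw [show n = 1 by omega, pow_one] at hn'; omega
    · have := Nat.pow_le_pow_right (show 0 < r₀ by omega) hn2
      nlinarith
  · -- `2 ^ (c + 1)` divides `(n₀ - 1) (n₀ + 1) = 4 h (h + 1)`
    have h4 : o * 2 ^ (c + 1) = 4 * (h * (h + 1)) := by nlinarith
    rcases Nat.lt_or_ge c 2 with hc | hc
    · interval_cases c <;> omega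
    obtain ⟨d, rfl⟩ : ∃ d, c = d + 2 := ⟨c - 2, by omega⟩
    rw [show d + 2 + 1 = 2 + (d + 1) by omega, pow_add] at h4 ⊢
    have h5 : h * (h + 1) = o * 2 ^ (d + 1) := by nlinarith
    have hdvd : 2 ^ (d + 1) ∣ h * (h + 1) := ⟨o, by rw [h5, mul_comm]⟩
    rcases Nat.even_or_odd h with he | he
    · have := (Nat.Coprime.pow_left (d + 1) (Nat.coprime_two_left.2 he.add_one)).dvd_of_dvd_mul_right hdvd
      have := Nat.le_of_dvd (by omega) this
      omega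
    · have := (Nat.Coprime.pow_left (d + 1) (Nat.coprime_two_left.2 he)).dvd_of_dvd_mul_left hdvd
      have := Nat.le_of_dvd (by omega) this
      omega
  · rintro rfl
    norm_num at hcount ho
    obtain ⟨d, hd⟩ : ∃ d, N = f + d := ⟨N - f, by omega⟩
    rw [show N - f = d by omega] at hcount
    by_contra hlt
    have hdh : d + 1 ≤ h := by omega
    obtain ⟨e, he⟩ : ∃ e, f = d + e := ⟨f - d, by omega⟩
    rw [he] at hcount
    rw [hd, he] at hb hnN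
    have h1 : e ^ 2 ≤ b := by nlinarith
    have h2 : ((2 * h + 1) * e) ^ 2 ≤ (d + e + d) ^ 2 := by
      rw [mul_pow]; exact le_trans (Nat.mul_le_mul le_rfl h1) hb
    have h3 := (Nat.pow_le_pow_iff_left two_ne_zero).1 h2
    nlinarith
  · rintro rfl
    norm_num at hcount ho
    obtain ⟨d, hd⟩ : ∃ d, N = f + d := ⟨N - f, by omega⟩
    rw [show N - f = d by omega] at hcount
    by_contra hlt
    have hdh : d ≤ h := by omega
    rw [hd] at hb hnN
    obtain ⟨e, he⟩ : ∃ e, 3 * f = d + e := ⟨3 * f - d, by omega⟩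
    have h1 : e ^ 2 ≤ 9 * b := by nlinarith
    have h2 : ((2 * h + 1) * e) ^ 2 ≤ (3 * (f + d)) ^ 2 := by
      rw [mul_pow, mul_pow, show (3 : ℕ) ^ 2 = 9 by norm_num]
      calc (2 * h + 1) ^ 2 * e ^ 2 ≤ (2 * h + 1) ^ 2 * (9 * b) := Nat.mul_le_mul le_rfl h1
        _ = 9 * ((2 * h + 1) ^ 2 * b) := by ring
        _ ≤ _ := Nat.mul_le_mul le_rfl hb
    have h3 := (Nat.pow_le_pow_iff_left two_ne_zero).1 h2
    nlinarith

end Pieces

end CfsgLib.HallHigman.FpfTwo
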