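import Cfsg.Agent.Lib.BG.FixedLine.Mono

/-!
An operator stabilizing several components moves at least the sum of what it moves on each.
-/

set_option autoImplicit false
set_option linter.style.haveILetI false
set_option linter.unusedSectionVars false

namespace CfsgLib.HallHigman.FpfTwo

open CfsgLib.BG.FixedLine

variable {K W Y : Type*} [Field K] [AddCommGroup W] [Module K W] [FiniteDimensional K W] [Group Y]
  [Finite Y] (ρ : Y →* Module.End K W) {A : Subgroup Y}

theorem card_mul_le_finrank_range (hA0 : (Nat.card A : K) ≠ 0) (g : Subgroup.normalizer (A : Set Y))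
    (O : Finset (Chi K A)) (m : ℕ) (hg : ∀ μ ∈ O, g • μ = μ)
    (hm : ∀ μ ∈ O, Module.finrank K ↥(comp ρ A μ ⊓ fix ρ (g : Y)) + m ≤
      Module.finrank K (comp ρ A μ)) :
    O.card * m ≤ Module.finrank K (LinearMap.range (ρ (g : Y) - 1)) := by
  classical
  set D := ρ (g : Y) - 1 with hD
  have hrank : ∀ μ, Module.finrank K ((comp ρ A μ).map D) +
      Module.finrank K ↥(comp ρ A μ ⊓ fix ρ (g : Y)) = Module.finrank K (comp ρ A μ) := by
    intro μ
    have h := LinearMap.finrank_range_add_finrank_ker (D.comp (comp ρ A μ).subtype)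
    rw [LinearMap.range_comp, Submodule.range_subtype] at h
    rw [← h, add_right_inj]
    have hk : LinearMap.ker (D.comp (comp ρ A μ).subtype) =
        (comp ρ A μ ⊓ fix ρ (g : Y)).comap (comp ρ A μ).subtype := by
      ext v
      simp [hD, mem_fix, sub_eq_zero, LinearMap.mem_ker]
    rw [hk]
    exact (Submodule.comapSubtypeEquivOfLe inf_le_left).finrank_eq.symm
  let Ψ : ((μ : O) → (comp ρ A μ.1).map D) →ₗ[K] LinearMap.range D :=
    { toFun := fun b => ⟨∑ μ, (b μ : W), Submodule.sum_mem _ fun μ _ => LinearMap.map_le_range (b μ).2⟩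
      map_add' := fun a b => Subtype.ext (by simp [Finset.sum_add_distrib])
      map_smul' := fun c a => Subtype.ext (by simp [Finset.smul_sum]) }
  have hle : ∀ μ ∈ O, (comp ρ A μ).map D ≤ comp ρ A μ := by
    rintro μ hμ - ⟨v, hv, rfl⟩
    have h1 := rho_mem_comp ρ A g hv
    rw [hg μ hμ] at h1
    exact sub_mem h1 hv
  have hΨ : Function.Injective Ψ := by
    rw [injective_iff_map_eq_zero]
    intro b hb
    funext ν
    have h1 := congrArg (fun t : LinearMap.range D => proj ρ A ν.1 (t : W)) hb
    simp only [Ψ, LinearMap.coe_mk, AddHom.coe_mk, ZeroMemClass.coe_zero, map_sum, map_zero] at h1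
    rw [Finset.sum_eq_single ν, proj_self ρ A (hle _ ν.2 (b ν).2)] at h1
    · exact Subtype.ext ((smul_eq_zero.1 h1).resolve_left hA0)
    · intro μ _ hne
      exact proj_other ρ A (fun e => hne (Subtype.ext e.symm)) (hle _ μ.2 (b μ).2)
    · exact fun h => absurd (Finset.mem_univ _) h
  have h := LinearMap.finrank_le_finrank_of_injective hΨ
  rw [Module.finrank_pi_fintype] at h
  refine le_trans ?_ h
  rw [Finset.univ_eq_attach, ← smul_eq_mul, ← Finset.card_attach]
  refine Finset.card_nsmul_le_sum _ _ _ fun μ _ => ?_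
  have := hrank μ.1
  have := hm μ.1 μ.2
  omega

end CfsgLib.HallHigman.FpfTwo
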