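import Cfsg.Agent.Lib.HallHigman.FpfTwo.Moved
import Cfsg.Agent.Lib.HallHigman.FpfTwo.Sum
import Cfsg.Agent.Lib.HallHigman.FpfPower.Linear

/-!
An orbit of components, closed up under inversion: how much the powers of the operator move.
-/

set_option autoImplicit false
set_option linter.style.haveILetI false
set_option linter.unusedSectionVars false

open scoped commutatorElement

namespace CfsgLib.HallHigman.FpfTwo

open CfsgLib.BG.FixedLine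
open CfsgLib.HallHigman.FpfPower (ext ext_eq ext_mul ext_one ext_ne_zero)

variable {K W Y : Type*} [Field K] [IsAlgClosed K] [AddCommGroup W] [Module K W] [FiniteDimensional K W]
  [Group Y] [Finite Y] {ρ : Y →* Module.End K W} {B Z : Subgroup Y} {y : Y} {r₀ : ℕ}

theorem Pieces.orbit_bounds (P : Pieces ρ B Z y r₀) {g : Y} {c : ℕ} (hg : g ^ 2 ^ (c + 1) = 1)
    (hgy : y = g ^ 2 ^ c) (hgB : ∀ u ∈ B, g * u * g⁻¹ ∈ B) (hgZ : ∀ z ∈ Z, g * z * g⁻¹ ∈ Z)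
    {μ₀ : Chi K Z} (hμ₀ : comp ρ Z μ₀ ≠ ⊥) (hμinv : comp ρ Z μ₀⁻¹ ≠ ⊥) {a₀ b₀ : Y} (ha₀ : a₀ ∈ B)
    (hb₀ : b₀ ∈ B) (hμc : ext μ₀ ⁅a₀, b₀⁆ ≠ 1) :
    ∃ a h : ℕ, 2 ≤ a ∧ 1 ≤ h ∧ (h = 1 → r₀ = 3) ∧ a * h ≤ Module.finrank K (LinearMap.range (ρ y - 1)) ∧
      (2 ^ (c + 1) ≤ 2 * a ∨ (1 ≤ c ∧ 2 ^ (c + 1) ≤ 4 * a * (h + 1) ∧
        a * (h + 1) ≤ Module.finrank K (LinearMap.range (ρ (g ^ 2 ^ (c - 1)) - 1)))) := by
  classical
  haveI := Fact.mk P.hr₀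
  have hZ0 : (Nat.card Z : K) ≠ 0 := natCast_ne_zero_of_isPGroup (K := K) (P.hB.to_le P.hZB) P.hr00
  set c₀ := ⁅a₀, b₀⁆ with hc₀
  have hc₀Z : c₀ ∈ Z := P.hder a₀ ha₀ b₀ hb₀
  -- the orbit and its inverse
  let gN : Subgroup.normalizer (Z : Set Y) := ⟨g, mem_normalizer_of_conj hgZ⟩
  have hgNr : gN ^ 2 ^ (c + 1) = 1 := Subtype.ext hg
  have hyfix : ∀ μ : Chi K Z, gN ^ 2 ^ c • μ = μ := fun μ =>
    (FpfPower.smul_chi_eq_iff _ μ).2 fun a => by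
      congr 1
      apply Subtype.ext
      rw [CfsgLib.Coprime.coe_conjAct]
      show (g ^ 2 ^ c)⁻¹ * (a : Y) * (g ^ 2 ^ c)⁻¹⁻¹ = a
      rw [inv_inv, ← hgy, mul_assoc, ← P.hyZ _ a.2, inv_mul_cancel_left]
  have hinvsmul : ∀ (s : Subgroup.normalizer (Z : Set Y)) (μ : Chi K Z),
      s • μ⁻¹ = (s • μ)⁻¹ := fun s μ => rfl
  have hex : ∃ e, gN ^ 2 ^ e • μ₀ = μ₀ := ⟨c, hyfix μ₀⟩
  obtain ⟨e, he, hemin⟩ : ∃ e, gN ^ 2 ^ e • μ₀ = μ₀ ∧ ∀ e' < e, gN ^ 2 ^ e' • μ₀ ≠ μ₀ :=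
    ⟨Nat.find hex, Nat.find_spec hex, fun e' he' => Nat.find_min hex he'⟩
  have hec : e ≤ c := by
    by_contra h
    exact hemin c (not_le.1 h) (hyfix μ₀)
  let O : Finset (Chi K Z) :=
    ((Finset.range (2 ^ e)).image fun i => gN ^ i • μ₀) ∪
      ((Finset.range (2 ^ e)).image fun i => gN ^ i • μ₀⁻¹)
  have hne_inv : μ₀⁻¹ ≠ μ₀ := by
    intro h
    refine hμc ?_
    rw [ext_eq μ₀ hc₀Z, Units.val_eq_one]
    have h2 : μ₀ ⟨c₀, hc₀Z⟩ ^ 2 = 1 := by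
      rw [sq]
      nth_rw 1 [← h]
      rw [MonoidHom.inv_apply, inv_mul_cancel]
    obtain ⟨k, hk⟩ := P.hB.to_le P.hZB ⟨c₀, hc₀Z⟩
    have h3 : μ₀ ⟨c₀, hc₀Z⟩ ^ r₀ ^ k = 1 := by rw [← map_pow, hk, map_one]
    have h4 := pow_gcd_eq_one.2 ⟨h2, h3⟩
    rwa [(((Nat.coprime_primes Nat.prime_two P.hr₀).2 P.hr₀2.symm).pow_right k).gcd_eq_one, pow_one] at h4
  have hmem0 : μ₀ ∈ O := Finset.mem_union_left _ (Finset.mem_image.2
    ⟨0, Finset.mem_range.2 (Nat.pow_pos two_pos), by simp⟩)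
  have hmem1 : μ₀⁻¹ ∈ O := Finset.mem_union_right _ (Finset.mem_image.2
    ⟨0, Finset.mem_range.2 (Nat.pow_pos two_pos), by simp⟩)
  have ha2 : 2 ≤ O.card := by
    have := Finset.card_le_card (show ({μ₀⁻¹, μ₀} : Finset _) ⊆ O by
      intro μ hμ
      simp only [Finset.mem_insert, Finset.mem_singleton] at hμ
      rcases hμ with rfl | rfl
      · exact hmem1
      · exact hmem0)
    rwa [Finset.card_pair hne_inv] at this
  have hae : 2 ^ e ≤ O.card := by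
    refine le_trans ?_ (Finset.card_le_card Finset.subset_union_left)
    rw [Finset.card_image_of_injOn, Finset.card_range]
    have key : ∀ {i j : ℕ}, i < j → j < 2 ^ e → gN ^ i • μ₀ ≠ gN ^ j • μ₀ := by
      intro i j hij hj h
      have h1 : gN ^ (j - i) • μ₀ = μ₀ := by
        rw [show j = i + (j - i) by omega, pow_add, mul_smul] at h
        exact (smul_left_cancel _ h).symm
      rcases Nat.eq_zero_or_pos e with rfl | he0
      · rw [pow_zero] at hj; omega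
      · refine hemin (e - 1) (by omega) (FpfPower.pow_mem_of_pow_mem (H := MulAction.stabilizer _ μ₀)
          Nat.prime_two hgNr h1 ?_)
        rw [show e - 1 + 1 = e by omega]
        exact fun hdd => absurd (Nat.le_of_dvd (by omega) hdd) (by omega)
    intro i hi j hj hij
    rw [Finset.coe_range, Set.mem_Iio] at hi hj
    by_contra hne
    rcases Nat.lt_or_ge i j with h | h
    · exact key h hj hij
    · exact key (lt_of_le_of_ne h (Ne.symm hne)) hi hij.symm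
  have hcomp_smul : ∀ (s : Subgroup.normalizer (Z : Set Y)) μ, comp ρ Z μ ≠ ⊥ →
      comp ρ Z (s • μ) ≠ ⊥ := by
    intro s μ hμ
    obtain ⟨f, hf, hf0⟩ := (Submodule.ne_bot_iff _).1 hμ
    refine (Submodule.ne_bot_iff _).2 ⟨_, rho_mem_comp ρ Z s hf, fun h => hf0 ?_⟩
    have := congrArg (ρ (s : Y)⁻¹) h
    rwa [← rho_mul, inv_mul_cancel, map_one, Module.End.one_apply, map_zero] at this
  -- all components in `O` look alike
  have hOpy : ∀ μ, P.Op μ y 0 := fun μ => by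
    refine ⟨by simpa using P.hy2, by simp, P.hyB, fun z hz => ?_, fun z hz => ?_⟩
    · rwa [P.hyZ z hz, mul_inv_cancel_right]
    · rw [P.hyZ z hz, mul_inv_cancel_right]
  have hne0 : ∃ a ∈ B, ∃ b ∈ B, ext μ₀ ⁅a, b⁆ ≠ 1 := ⟨_, ha₀, _, hb₀, hμc⟩
  obtain ⟨n, o, b, hn, hn0, -, -, -, -⟩ := P.comp_count hμ₀ hne0 (hOpy μ₀)
  obtain ⟨h, hh⟩ := (P.hr₀.odd_of_ne_two P.hr₀2).pow (n := n)
  rw [hh] at hn
  have hh1 : 1 ≤ h := by
    have := Nat.le_self_pow hn0 r₀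
    have := P.hr₀.two_le
    omega
  have hOprop : ∀ μ ∈ O, comp ρ Z μ ≠ ⊥ ∧ (∃ a ∈ B, ∃ b ∈ B, ext μ ⁅a, b⁆ ≠ 1) ∧
      (P.rad μ).relIndex B = (2 * h + 1) ^ 2 := by
    intro μ hμ
    obtain ⟨i, ν, hν, hνr, rfl⟩ : ∃ (i : ℕ) (ν : Chi K Z),
        comp ρ Z ν ≠ ⊥ ∧ (P.rad ν).relIndex B = (2 * h + 1) ^ 2 ∧ gN ^ i • ν = μ := by
      rcases Finset.mem_union.1 hμ with h' | h' <;> obtain ⟨i, -, rfl⟩ := Finset.mem_image.1 h'
      · exact ⟨i, μ₀, hμ₀, hn, rfl⟩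
      · exact ⟨i, μ₀⁻¹, hμinv, by rw [P.rad_inv, hn], rfl⟩
    have hr := P.rad_relIndex_conj (gN ^ i) (fun u hu => by
      rw [Subgroup.coe_pow]; exact FpfPower.conj_pow_mem' hgB _ hu) ν
    rw [hνr] at hr
    refine ⟨hcomp_smul _ _ hν, ?_, hr⟩
    by_contra hno
    push Not at hno
    rw [Subgroup.relIndex_eq_one.2 (show B ≤ P.rad (gN ^ i • ν) from fun u hu => ⟨hu, hno u hu⟩)] at hr
    have : 3 ^ 2 ≤ (2 * h + 1) ^ 2 := Nat.pow_le_pow_left (by omega) 2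
    omega
  have hg4 : ∀ μ ∈ O, gN ^ 2 ^ c • μ = μ := fun μ _ => hyfix μ
  refine ⟨O.card, h, ha2, hh1, (P.comp_bounds hμ₀ hne0 hn (hOpy μ₀)).2.1, ?_, ?_⟩
  · refine card_mul_le_finrank_range ρ hZ0 (gN ^ 2 ^ c) O h hg4 (fun μ hμ => ?_) |>.trans ?_
    · rw [Subgroup.coe_pow, show (gN : Y) = g from rfl, ← hgy]
      obtain ⟨h1, h2, h3⟩ := hOprop μ hμ
      exact ((P.comp_bounds h1 h2 h3 (hOpy μ)).2.2.2.1 rfl)
    · rw [Subgroup.coe_pow, show (gN : Y) = g from rfl, ← hgy]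
  rcases eq_or_lt_of_le hec with hec' | hec'
  · left
    rw [pow_succ, ← hec']
    omega
  right
  have hfix4 : ∀ μ ∈ O, gN ^ 2 ^ (c - 1) • μ = μ := by
    have h1 : gN ^ 2 ^ (c - 1) • μ₀ = μ₀ := by
      rw [show c - 1 = e + (c - 1 - e) by omega, pow_add, pow_mul]
      exact (MulAction.stabilizer _ μ₀).pow_mem (show gN ^ 2 ^ e ∈ MulAction.stabilizer _ μ₀ from he) _
    intro μ hμ
    rcases Finset.mem_union.1 hμ with h' | h' <;> obtain ⟨i, -, rfl⟩ := Finset.mem_image.1 h'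
    · rw [← mul_smul, ((Commute.refl gN).pow_pow _ i).eq, mul_smul, h1]
    · rw [← mul_smul, ((Commute.refl gN).pow_pow _ i).eq, mul_smul, hinvsmul, h1]
  have hOp : ∀ (d : ℕ) (μ : Chi K Z), d ≤ c → gN ^ 2 ^ d • μ = μ →
      P.Op μ (g ^ 2 ^ d) (c - d) := by
    intro d μ hd hμ
    refine ⟨?_, ?_, fun u hu => FpfPower.conj_pow_mem' hgB _ hu,
      fun z hz => FpfPower.conj_pow_mem' hgZ _ hz, fun z hz => ?_⟩
    · rw [← pow_mul, ← pow_add, show d + (c - d + 1) = c + 1 by omega, hg]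
    · rw [← pow_mul, ← pow_add, show d + (c - d) = c by omega, ← hgy]
    · exact FpfPower.ext_conj μ (gN ^ 2 ^ d) hμ hz
  refine ⟨by omega, ?_, ?_⟩
  · have h1 := (P.comp_bounds hμ₀ hne0 hn (hOp e μ₀ hec he)).2.2.1
    calc 2 ^ (c + 1) = 2 ^ e * 2 ^ (c - e + 1) := by rw [← pow_add, show e + (c - e + 1) = c + 1 by omega]
      _ ≤ O.card * (4 * (h + 1)) := Nat.mul_le_mul hae h1
      _ = _ := by ring
  · refine card_mul_le_finrank_range ρ hZ0 (gN ^ 2 ^ (c - 1)) O (h + 1) hfix4 (fun μ hμ => ?_) |>.trans ?_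
    · rw [Subgroup.coe_pow, show (gN : Y) = g from rfl]
      obtain ⟨h1, h2, h3⟩ := hOprop μ hμ
      exact (P.comp_bounds h1 h2 h3 (hOp (c - 1) μ (by omega) (hfix4 μ hμ))).2.2.2.2 (by omega)
    · rw [Subgroup.coe_pow, show (gN : Y) = g from rfl]

end CfsgLib.HallHigman.FpfTwo
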