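import Cfsg.Agent.Lib.HallHigman.FpfTwo.Abelian
import Cfsg.Agent.Lib.HallHigman.FpfTwo.Count
import Cfsg.Agent.Lib.HallHigman.FpfPower.Linear

/-!
The side carrying the form: a stabilizing power of the operator moves few cosets of a radical.
-/

set_option autoImplicit false
set_option linter.style.haveILetI false
set_option linter.unusedSectionVars false

open scoped commutatorElement

namespace CfsgLib.HallHigman.FpfTwo

open CfsgLib.BG.FixedLine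
open CfsgLib.HallHigman.FpfPower (ext ext_eq ext_mul ext_one ext_ne_zero ext_conj)

variable {K W Y : Type*} [Field K] [IsAlgClosed K] [AddCommGroup W] [Module K W] [FiniteDimensional K W]
  [Group Y] [Finite Y] {ρ : Y →* Module.End K W}

/-- A power of the operator fixing the character satisfies the orbit inequality on the form. -/
theorem side {x : Y} {n q : ℕ} (hq : q.Prime) (hq0 : (q : K) ≠ 0) (h2 : (2 : K) ≠ 0)
    (hxr : x ^ 2 ^ (n + 1) = 1) (hfix : fix ρ x = ⊥) {S Z : Subgroup Y} (hS : IsPGroup q S)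
    (hxS : ∀ u ∈ S, x * u * x⁻¹ ∈ S) (hZS : Z ≤ S) (hxZ : ∀ z ∈ Z, x * z * x⁻¹ ∈ Z)
    (hcen : ∀ z ∈ Z, ∀ u ∈ S, z * u = u * z) (hder : ∀ u ∈ S, ∀ v ∈ S, ⁅u, v⁆ ∈ Z)
    (hyZ : ∀ z ∈ Z, x ^ 2 ^ n * z = z * x ^ 2 ^ n)
    {μ : Chi K Z} (hμ : comp ρ Z μ ≠ ⊥) {Rd : Subgroup Y}
    (hRd : ∀ u, u ∈ Rd ↔ u ∈ S ∧ ∀ v ∈ S, ext μ ⁅u, v⁆ = 1)
    (hmove : ∃ v ∈ S, v⁻¹ * (x ^ 2 ^ n * v * (x ^ 2 ^ n)⁻¹) ∉ Rd) :
    ∃ i c : ℕ, (x ^ i) ^ 2 ^ (c + 1) = 1 ∧ x ^ 2 ^ n = (x ^ i) ^ 2 ^ c ∧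
      (∀ z ∈ Z, ext μ (x ^ i * z * (x ^ i)⁻¹) = ext μ z) ∧
      (∀ a ∈ Rd, x ^ i * a * (x ^ i)⁻¹ ∈ Rd) ∧
      ∀ Fy F4 : Subgroup Y,
        (∀ v, v ∈ Fy ↔ v ∈ S ∧ v⁻¹ * ((x ^ i) ^ 2 ^ c * v * ((x ^ i) ^ 2 ^ c)⁻¹) ∈ Rd) →
        (∀ v, v ∈ F4 ↔ v ∈ S ∧ v⁻¹ * ((x ^ i) ^ 2 ^ (c - 1) * v * ((x ^ i) ^ 2 ^ (c - 1))⁻¹) ∈ Rd) →
        2 ^ (c + 1) * Rd.relIndex S ≤ (2 ^ (c + 1) - 1) *
          (Rd.relIndex S + Rd.relIndex Fy + (2 ^ (c + 1) - 2) * Rd.relIndex F4) := by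
  classical
  haveI := Fact.mk hq
  have hRS : Rd ≤ S := fun u hu => ((hRd u).1 hu).1
  have hZR : Z ≤ Rd := fun z hz => (hRd z).2 ⟨hZS hz, fun v hv => by
    rw [commutatorElement_eq_one_iff_mul_comm.2 (hcen z hz v hv), ext_one]⟩
  have hZ0 : (Nat.card Z : K) ≠ 0 := natCast_ne_zero_of_isPGroup (K := K) (hS.to_le hZS) hq0
  have hR0 : (Nat.card Rd : K) ≠ 0 := natCast_ne_zero_of_isPGroup (K := K) (hS.to_le hRS) hq0
  set E := comp ρ Z μ with hE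
  -- the stabilizer of the character
  let xZ : Subgroup.normalizer (Z : Set Y) := ⟨x, mem_normalizer_of_conj hxZ⟩
  have hyμ : xZ ^ 2 ^ n • μ = μ := (FpfPower.smul_chi_eq_iff _ μ).2 fun a => by
    congr 1
    apply Subtype.ext
    rw [CfsgLib.Coprime.coe_conjAct]
    show (x ^ 2 ^ n)⁻¹ * (a : Y) * (x ^ 2 ^ n)⁻¹⁻¹ = a
    rw [inv_inv, mul_assoc, ← hyZ _ a.2, inv_mul_cancel_left]
  have hex : ∃ d, xZ ^ 2 ^ d • μ = μ := ⟨n, hyμ⟩
  obtain ⟨d, hd, hdmin⟩ : ∃ d, xZ ^ 2 ^ d • μ = μ ∧ ∀ e < d, xZ ^ 2 ^ e • μ ≠ μ :=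
    ⟨Nat.find hex, Nat.find_spec hex, fun e he => Nat.find_min hex he⟩
  have hdn : d ≤ n := by
    by_contra h
    exact hdmin n (not_le.1 h) hyμ
  have hmin : ∀ {G : Type _} [Group G] {T : Subgroup G} {g : G} {m : ℕ}, g ^ 2 ^ m = 1 →
      ∀ (k : ℕ), (∀ e < k, g ^ 2 ^ e ∉ T) → ∀ j, 0 < j → j < 2 ^ k → g ^ j ∉ T := by
    intro G _ T g m hg k hk j hj hjk hmem
    rcases Nat.eq_zero_or_pos k with rfl | hk0
    · rw [pow_zero] at hjk; omega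
    · refine hk (k - 1) (by omega) (FpfPower.pow_mem_of_pow_mem Nat.prime_two hg hmem ?_)
      rw [show k - 1 + 1 = k by omega]
      exact fun hdd => absurd (Nat.le_of_dvd hj hdd) (not_le.2 hjk)
  have hxZr : xZ ^ 2 ^ (n + 1) = 1 := Subtype.ext hxr
  have hμM : ∀ i, 0 < i → i < 2 ^ d → xZ ^ i • μ ≠ μ := fun i hi hiM =>
    hmin (T := MulAction.stabilizer _ μ) hxZr d hdmin i hi hiM
  set w := x ^ 2 ^ d with hw
  have hwμ : ∀ z ∈ Z, ext μ (w * z * w⁻¹) = ext μ z := fun z hz => ext_conj μ (xZ ^ 2 ^ d) hd hz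
  have hwS : ∀ u ∈ S, w * u * w⁻¹ ∈ S := fun u hu => FpfPower.conj_pow_mem' hxS _ hu
  have hwS' : ∀ u ∈ S, w⁻¹ * u * w ∈ S := fun u hu => by
    have := ((Subgroup.mem_normalizer_iff.1 (inv_mem (mem_normalizer_of_conj hwS))) u).1 hu
    rwa [inv_inv] at this
  have hwR : ∀ u ∈ Rd, w * u * w⁻¹ ∈ Rd := by
    intro u hu
    obtain ⟨hu, hu'⟩ := (hRd u).1 hu
    refine (hRd _).2 ⟨hwS u hu, fun v hv => ?_⟩
    rw [show ⁅w * u * w⁻¹, v⁆ = w * ⁅u, w⁻¹ * v * w⁆ * w⁻¹ by simp only [commutatorElement_def]; group,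
      hwμ _ (hder u hu _ (hwS' v hv)), hu' _ (hwS' v hv)]
  have hEw : ∀ v ∈ E, ρ w v ∈ E := fun v hv => by
    have h := rho_mem_comp ρ Z (xZ ^ 2 ^ d) hv
    rwa [hd, Subgroup.coe_pow] at h
  have hfixE : ∀ v ∈ E, ρ w v = v → v = 0 := fun v hv e =>
    FpfPower.no_fixed_comp ρ hZ0 xZ hfix (Nat.pow_pos two_pos) hμM hv e
  -- a character of the radical
  haveI : Nontrivial E := (Submodule.nontrivial_iff_ne_bot).2 hμ
  have hSE : S ≤ stab ρ E := fun u hu v hv a => by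
    rw [← rho_mul, hcen a a.2 u hu, rho_mul, hv a, map_smul]
  let f := (res ρ E).toHomUnits
  let σ : f.range →* Module.End K E := (Units.coeHom (Module.End K E)).comp f.range.subtype
  haveI : Finite f.range := Finite.of_surjective f.rangeRestrict f.rangeRestrict_surjective
  have hσ : Function.Injective σ := fun a b h => Subtype.ext (Units.ext h)
  set Re := (Rd.subgroupOf (stab ρ E)).map f.rangeRestrict with hRe
  have hReab : ∀ a ∈ Re, ∀ b ∈ Re, a * b = b * a := by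
    rintro - ⟨⟨a, haS⟩, ha, rfl⟩ - ⟨⟨b, hbS⟩, hb, rfl⟩
    rw [← commutatorElement_eq_one_iff_mul_comm, ← map_commutatorElement]
    refine hσ (LinearMap.ext fun v => Subtype.ext ?_)
    show ρ ⁅a, b⁆ (v : W) = (v : W)
    have hab := hder a (hRS ha) b (hRS (show b ∈ Rd from hb))
    have h1 := v.2 ⟨_, hab⟩
    rw [← ext_eq μ hab, ((hRd a).1 ha).2 b (hRS (show b ∈ Rd from hb)), one_smul] at h1
    exact h1
  have hRe0 : (Nat.card Re : K) ≠ 0 :=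
    natCast_ne_zero_of_isPGroup (K := K) (((hS.to_le hRS).of_equiv
      (Subgroup.subgroupOfEquivOfLe (hRS.trans hSE)).symm).map _) hq0
  obtain ⟨ν', hν'⟩ := exists_comp_ne_bot σ Re hReab hRe0
  let toRe : Rd →* Re :=
    { toFun := fun a => ⟨f.rangeRestrict ⟨a, hSE (hRS a.2)⟩, _, a.2, rfl⟩
      map_one' := Subtype.ext (map_one f.rangeRestrict)
      map_mul' := fun a b => Subtype.ext (map_mul f.rangeRestrict ⟨a, hSE (hRS a.2)⟩ ⟨b, hSE (hRS b.2)⟩) }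
  set ν : Chi K Rd := ν'.comp toRe with hνdef
  obtain ⟨v₀, hv₀, hv₀0⟩ := (Submodule.ne_bot_iff _).1 hν'
  have hv₀' : (v₀ : W) ∈ comp ρ Rd ν := fun a => congrArg Subtype.val (hv₀ (toRe a))
  have hv₀0' : (v₀ : W) ≠ 0 := fun h => hv₀0 (Subtype.ext h)
  have hνμ : ∀ z (hz : z ∈ Z), (ν ⟨z, hZR hz⟩ : K) = ext μ z := by
    intro z hz
    refine smul_left_injective K hv₀0' ?_
    show (ν ⟨z, hZR hz⟩ : K) • (v₀ : W) = ext μ z • (v₀ : W)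
    rw [← hv₀' ⟨z, hZR hz⟩, ext_eq μ hz]
    exact v₀.2 ⟨z, hz⟩
  have hνE : comp ρ Rd ν ≤ E := fun v hv a => by
    have := hv ⟨a, hZR a.2⟩
    rwa [hνμ a a.2, ext_eq μ a.2] at this
  -- the stabilizer of that character
  let wR : Subgroup.normalizer (Rd : Set Y) := ⟨w, mem_normalizer_of_conj hwR⟩
  obtain ⟨c₀, hc₀⟩ : ∃ c₀, n = d + c₀ := ⟨n - d, by omega⟩
  have hwr : w ^ 2 ^ (c₀ + 1) = 1 := by
    rw [hw, ← pow_mul, ← pow_add, show d + (c₀ + 1) = n + 1 by omega, hxr]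
  have hwy : x ^ 2 ^ n = w ^ 2 ^ c₀ := by rw [hw, ← pow_mul, ← pow_add, hc₀]
  have hwRr : wR ^ 2 ^ (c₀ + 1) = 1 := Subtype.ext hwr
  have hyν : wR ^ 2 ^ c₀ • ν = ν := by
    by_contra hne
    refine hv₀0' (no_fixed_comp' ρ hR0 wR hEw hfixE (M := 2 ^ (c₀ + 1)) (Nat.pow_pos two_pos)
      (fun i hi hiM e => hne ?_) hv₀' v₀.2 ?_)
    · exact FpfPower.pow_mem_of_pow_mem (H := MulAction.stabilizer _ ν) Nat.prime_two hwRr e
        (fun hdd => absurd (Nat.le_of_dvd hi hdd) (not_le.2 hiM))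
    · rw [show (wR : Y) = w from rfl, hwr, map_one, Module.End.one_apply]
  have hex2 : ∃ e, wR ^ 2 ^ e • ν = ν := ⟨c₀, hyν⟩
  obtain ⟨e, he, hemin⟩ : ∃ e, wR ^ 2 ^ e • ν = ν ∧ ∀ e' < e, wR ^ 2 ^ e' • ν ≠ ν :=
    ⟨Nat.find hex2, Nat.find_spec hex2, fun e' he' => Nat.find_min hex2 he'⟩
  have hec : e ≤ c₀ := by
    by_contra h
    exact hemin c₀ (not_le.1 h) hyν
  obtain ⟨c, hc⟩ : ∃ c, c₀ = e + c := ⟨c₀ - e, by omega⟩
  refine ⟨2 ^ (d + e), c, ?_, ?_, ?_, ?_, fun Fy F4 hFy hF4 => ?_⟩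
  · rw [← pow_mul, ← pow_add, show d + e + (c + 1) = n + 1 by omega, hxr]
  · rw [← pow_mul, ← pow_add, show d + e + c = n by omega]
  · intro z hz
    have h1 : xZ ^ 2 ^ (d + e) • μ = μ := by
      rw [pow_add, pow_mul]
      exact (MulAction.stabilizer _ μ).pow_mem (show xZ ^ 2 ^ d ∈ MulAction.stabilizer _ μ from hd) _
    exact ext_conj μ (xZ ^ 2 ^ (d + e)) h1 hz
  · intro a ha
    rw [pow_add, pow_mul, ← hw]
    exact FpfPower.conj_pow_mem' hwR _ ha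
  set g := x ^ 2 ^ (d + e) with hg
  have hgw : g = w ^ 2 ^ e := by rw [hg, hw, ← pow_mul, ← pow_add]
  -- the group on the component
  set F := comp ρ Rd ν with hF
  have hgF : ∀ v ∈ F, ρ g v ∈ F := fun v hv => by
    have h := rho_mem_comp ρ Rd (wR ^ 2 ^ e) hv
    rwa [he, Subgroup.coe_pow, show (wR : Y) ^ 2 ^ e = g from hgw.symm] at h
  have hSF : S ≤ stab ρ F := fun u hu v hv a => by
    obtain ⟨haS, ha'⟩ := (hRd a).1 a.2
    have hcm := hder a haS u hu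
    rw [← rho_mul, show (a : Y) * u = ⁅(a : Y), u⁆ * (u * (a : Y)) by
      simp only [commutatorElement_def]; group, rho_mul, rho_mul, hv a, map_smul, map_smul]
    congr 1
    have huE : ρ u v ∈ E := hSE hu v (hνE hv)
    have h1 := huE ⟨_, hcm⟩
    rw [← ext_eq μ hcm, ha' u hu, one_smul] at h1
    exact h1
  haveI : Nontrivial F := (Submodule.nontrivial_iff_ne_bot).2
    ((Submodule.ne_bot_iff _).2 ⟨v₀, hv₀', hv₀0'⟩)
  let f2 := (res ρ F).toHomUnits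
  let σ2 : f2.range →* Module.End K F := (Units.coeHom (Module.End K F)).comp f2.range.subtype
  haveI : Finite f2.range := Finite.of_surjective f2.rangeRestrict f2.rangeRestrict_surjective
  have hσ2 : Function.Injective σ2 := fun a b h => Subtype.ext (Units.ext h)
  let φ := f2.rangeRestrict
  have hσg : ∀ (s : stab ρ F) (v : F), ((σ2 (φ s) v : F) : W) = ρ (s : Y) v := fun s v => rfl
  have hgS2 : g ∈ stab ρ F := hgF
  set Ue := (S.subgroupOf (stab ρ F)).map φ with hUe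
  set Ze := (Rd.subgroupOf (stab ρ F)).map φ with hZe
  set ge := φ ⟨g, hgS2⟩ with hge
  have hZscal : ∀ a (ha : a ∈ Rd), σ2 (φ ⟨a, hSF (hRS ha)⟩) = (ν ⟨a, ha⟩ : K) • 1 := fun a ha =>
    LinearMap.ext fun v => Subtype.ext (by
      rw [hσg, LinearMap.smul_apply, Module.End.one_apply, Submodule.coe_smul]
      exact v.2 ⟨a, ha⟩)
  let lam : f2.range → K := fun a => if h : ∃ t : K, σ2 a = t • 1 then h.choose else 0
  have hlam : ∀ {a : f2.range} {t : K}, σ2 a = t • 1 → lam a = t := fun {a t} h => by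
    have h' : ∃ t : K, σ2 a = t • 1 := ⟨t, h⟩
    simp only [lam, dif_pos h']
    exact smul_left_injective K (one_ne_zero (α := Module.End K F)) (h'.choose_spec.symm.trans h)
  have hlamC : ∀ {a b : Y} (ha : a ∈ S) (hb : b ∈ S),
      lam ⁅φ ⟨a, hSF ha⟩, φ ⟨b, hSF hb⟩⁆ = ext μ ⁅a, b⁆ := fun {a b} ha hb => by
    refine hlam ?_
    rw [← map_commutatorElement φ, show ⁅(⟨a, hSF ha⟩ : stab ρ F), ⟨b, hSF hb⟩⁆ =
      ⟨⁅a, b⁆, hSF (hRS (hZR (hder a ha b hb)))⟩ from Subtype.ext rfl, hZscal _ (hZR (hder a ha b hb)),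
      hνμ _ (hder a ha b hb)]
  have hcent : ∀ z ∈ Ze, ∀ a : f2.range, z * a = a * z := by
    rintro - ⟨⟨r, hrS⟩, hr, rfl⟩ a
    refine hσ2 ?_
    rw [map_mul, map_mul, hZscal r hr, smul_mul_assoc, one_mul, mul_smul_comm, mul_one]
  have hmem : ∀ {u : Y} (hu : u ∈ S), φ ⟨u, hSF hu⟩ ∈ Ze → u ∈ Rd := by
    rintro u hu ⟨⟨r, hrS⟩, hr, hre⟩
    refine (hRd u).2 ⟨hu, fun v hv => ?_⟩
    rw [← hlamC hu hv, ← hre, hlamC (hRS (show r ∈ Rd from hr)) hv,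
      ((hRd r).1 (show r ∈ Rd from hr)).2 v hv]
  have hUp : IsPGroup q Ue := (hS.of_equiv (Subgroup.subgroupOfEquivOfLe hSF).symm).map φ
  have hgS : ∀ u ∈ S, g * u * g⁻¹ ∈ S := fun u hu => FpfPower.conj_pow_mem' hxS _ hu
  have hform : Form σ2 Ue Ze ge lam := by
    refine ⟨?_, Subgroup.map_mono (fun s hs => hRS hs), fun z hz => (hcent z hz ge).symm,
      fun z hz u _ => hcent z hz u, ?_, ?_, ?_, natCast_ne_zero_of_isPGroup (K := K) hUp hq0⟩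
    · rintro - ⟨⟨u, _⟩, hu, rfl⟩
      exact ⟨⟨g, hgS2⟩ * ⟨u, _⟩ * ⟨g, hgS2⟩⁻¹, hgS u hu, by rw [map_mul, map_mul, map_inv]⟩
    · rintro - ⟨⟨u, _⟩, hu, rfl⟩ - ⟨⟨v, _⟩, hv, rfl⟩
      exact ⟨_, hZR (hder u hu v hv), map_commutatorElement φ _ _⟩
    · rintro - ⟨⟨r, hrS⟩, hr, rfl⟩
      rw [hlam (hZscal r hr), hZscal r hr]
    · rintro - ⟨⟨u, hu'⟩, hu, rfl⟩ h
      refine ⟨⟨u, hu'⟩, (hRd u).2 ⟨hu, fun v hv => ?_⟩, rfl⟩
      exact (hlamC hu hv).symm.trans (h _ ⟨⟨v, hSF hv⟩, hv, rfl⟩)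
  have hger : ge ^ 2 ^ (c + 1) = 1 := by
    rw [hge, ← map_pow, show (⟨g, hgS2⟩ : stab ρ F) ^ 2 ^ (c + 1) = 1 from Subtype.ext (by
      show g ^ 2 ^ (c + 1) = 1
      rw [hg, ← pow_mul, ← pow_add, show d + e + (c + 1) = n + 1 by omega, hxr]), map_one]
  have hgy : g ^ 2 ^ c = x ^ 2 ^ n := by
    rw [hg, ← pow_mul, ← pow_add, show d + e + c = n by omega]
  have hy1 : ge ^ 2 ^ c ≠ 1 := by
    intro h1
    obtain ⟨v, hv, hv'⟩ := hmove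
    have hconj : v⁻¹ * (g ^ 2 ^ c * v * (g ^ 2 ^ c)⁻¹) ∈ S :=
      S.mul_mem (S.inv_mem hv) (FpfPower.conj_pow_mem' hgS _ hv)
    refine hv' ?_
    rw [← hgy]
    refine hmem hconj ?_
    rw [show (⟨_, hSF hconj⟩ : stab ρ F) = (⟨v, hSF hv⟩ : stab ρ F)⁻¹ *
      (⟨g, hgS2⟩ ^ 2 ^ c * ⟨v, hSF hv⟩ * (⟨g, hgS2⟩ ^ 2 ^ c)⁻¹) from Subtype.ext (by simp), map_mul,
      map_mul, map_mul, map_inv, map_inv, map_pow, ← hge, h1, one_mul, inv_one, mul_one, inv_mul_cancel]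
    exact Ze.one_mem
  have hfix2 : fix σ2 ge = ⊥ := by
    rw [Submodule.eq_bot_iff]
    intro v hv
    refine Subtype.ext (no_fixed_comp' ρ hR0 wR hEw hfixE (M := 2 ^ e) (Nat.pow_pos two_pos)
      (fun i hi hiM => hmin (T := MulAction.stabilizer _ ν) hwRr e hemin i hi hiM) v.2 (hνE v.2) ?_)
    rw [show (wR : Y) ^ 2 ^ e = g from hgw.symm]
    exact (hσg ⟨g, hgS2⟩ v).symm.trans (congrArg Subtype.val hv)
  have key := hform.index_mul_le_fixMod h2 hger hy1 hfix2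
  -- back to the original indices
  let ψ : S →* Ue :=
    { toFun := fun u => ⟨φ ⟨u, hSF u.2⟩, _, u.2, rfl⟩
      map_one' := Subtype.ext (map_one φ)
      map_mul' := fun a b => Subtype.ext (map_mul φ ⟨a, hSF a.2⟩ ⟨b, hSF b.2⟩) }
  have hψ : Function.Surjective ψ := by
    rintro ⟨-, ⟨u, hu'⟩, hu, rfl⟩
    exact ⟨⟨u, hu⟩, rfl⟩
  have hrel : ∀ (T : Subgroup Y) (Te : Subgroup f2.range), T ≤ S → Te ≤ Ue →
      (∀ u (hu : u ∈ S), φ ⟨u, hSF hu⟩ ∈ Te ↔ u ∈ T) → Ze.relIndex Te = Rd.relIndex T := by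
    intro T Te hT hTe hiff
    rw [Subgroup.relIndex, Subgroup.relIndex]
    let χ : T →* Te :=
      { toFun := fun u => ⟨φ ⟨u, hSF (hT u.2)⟩, (hiff u (hT u.2)).2 u.2⟩
        map_one' := Subtype.ext (map_one φ)
        map_mul' := fun a b => Subtype.ext (map_mul φ ⟨a, hSF (hT a.2)⟩ ⟨b, hSF (hT b.2)⟩) }
    have hχ : Function.Surjective χ := by
      rintro ⟨a, ha⟩
      obtain ⟨⟨u, hu'⟩, hu, rfl⟩ := hTe ha
      exact ⟨⟨u, (hiff u hu).1 ha⟩, rfl⟩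
    rw [← Subgroup.index_comap_of_surjective (Ze.subgroupOf Te) hχ]
    congr 1
    ext u
    exact ⟨fun h => hmem (hT u.2) h, fun h => ⟨⟨u, hSF (hT u.2)⟩, h, rfl⟩⟩
  have hFix : ∀ (m : ℕ) (T : Subgroup Y),
      (∀ v, v ∈ T ↔ v ∈ S ∧ v⁻¹ * (g ^ m * v * (g ^ m)⁻¹) ∈ Rd) →
      Ze.relIndex (hform.fixMod (⟨ge, Subgroup.mem_zpowers ge⟩ ^ m)) = Rd.relIndex T := by
    intro m T hT
    refine hrel T _ (fun v hv => ((hT v).1 hv).1) (fun v hv => hv.1) fun u hu => ?_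
    have hconj : u⁻¹ * (g ^ m * u * (g ^ m)⁻¹) ∈ S :=
      S.mul_mem (S.inv_mem hu) (FpfPower.conj_pow_mem' hgS _ hu)
    have heq : φ ⟨_, hSF hconj⟩ = (φ ⟨u, hSF hu⟩)⁻¹ * (ge ^ m * φ ⟨u, hSF hu⟩ * (ge ^ m)⁻¹) := by
      rw [show (⟨_, hSF hconj⟩ : stab ρ F) = (⟨u, hSF hu⟩ : stab ρ F)⁻¹ *
        (⟨g, hgS2⟩ ^ m * ⟨u, hSF hu⟩ * (⟨g, hgS2⟩ ^ m)⁻¹) from Subtype.ext (by simp), map_mul,
        map_mul, map_mul, map_inv, map_inv, map_pow]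
    constructor
    · intro h
      refine (hT u).2 ⟨hu, hmem hconj ?_⟩
      rw [heq]
      simpa using h.2
    · intro h
      refine ⟨⟨⟨u, hSF hu⟩, hu, rfl⟩, ?_⟩
      have h2 : φ ⟨_, hSF hconj⟩ ∈ Ze := ⟨⟨_, hSF hconj⟩, ((hT u).1 h).2, rfl⟩
      rw [heq] at h2
      simpa using h2
  rw [hFix _ Fy hFy, hFix _ F4 hF4,
    hrel S Ue le_rfl le_rfl (fun u hu => ⟨fun _ => hu, fun _ => ⟨⟨u, hSF hu⟩, hu, rfl⟩⟩)] at key
  exact key

end CfsgLib.HallHigman.FpfTwo
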