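import Cfsg.Agent.Lib.HallHigman.FpfTwo.Side
import Cfsg.Agent.Lib.Coprime.Generation
import Cfsg.Agent.Lib.PSolvable.Omega

/-!
Three layers: a minimal counterexample to the involution centralizing the top of three.
-/

set_option autoImplicit false
set_option linter.style.haveILetI false
set_option linter.unusedSectionVars false

open scoped commutatorElement

namespace CfsgLib.HallHigman.FpfTwo

open CfsgLib.BG.FixedLine

variable {K W Y : Type*} [Field K] [IsAlgClosed K] [AddCommGroup W] [Module K W] [FiniteDimensional K W]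
  [Group Y] [Finite Y]

/-- A minimal counterexample. -/
structure Triple (ρ : Y →* Module.End K W) (S R : Subgroup Y) (x : Y) (q r₀ n : ℕ) : Prop where
  hinj : Function.Injective ρ
  hq : q.Prime
  hq2 : q ≠ 2
  hr₀ : r₀.Prime
  hr₀2 : r₀ ≠ 2
  hqr : q ≠ r₀
  hq0 : (q : K) ≠ 0
  h2 : (2 : K) ≠ 0
  hxr : x ^ 2 ^ (n + 1) = 1
  hfix : fix ρ x = ⊥
  hS : IsPGroup q S
  hR : IsPGroup r₀ R
  hxS : ∀ v ∈ S, x * v * x⁻¹ ∈ S
  hxR : ∀ u ∈ R, x * u * x⁻¹ ∈ R
  hRS : ∀ u ∈ R, ∀ v ∈ S, u * v * u⁻¹ ∈ S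
  hCS : ∀ v ∈ S, x * v = v * x → v = 1
  hCR : ∀ u ∈ R, x * u = u * x → u = 1
  hsmall : ∀ S' R' : Subgroup Y, S' ≤ S → R' ≤ R → (S' < S ∨ R' < R) →
    (∀ v ∈ S', x * v * x⁻¹ ∈ S') → (∀ u ∈ R', x * u * x⁻¹ ∈ R') →
    (∀ u ∈ R', ∀ v ∈ S', u * v * u⁻¹ ∈ S') →
    ∀ u ∈ R', ∀ v ∈ S', ⁅⁅x ^ 2 ^ n, u⁆, v⁆ = 1
  hmove : ∃ u ∈ R, ∃ v ∈ S, ⁅⁅x ^ 2 ^ n, u⁆, v⁆ ≠ 1

namespace Triple

variable {ρ : Y →* Module.End K W} {S R : Subgroup Y} {x : Y} {q r₀ n : ℕ} (T : Triple ρ S R x q r₀ n)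

include T

theorem hyy : x ^ 2 ^ n * x ^ 2 ^ n = 1 := by rw [← pow_add, ← two_mul, ← pow_succ', T.hxr]

theorem hyS : ∀ v ∈ S, x ^ 2 ^ n * v * (x ^ 2 ^ n)⁻¹ ∈ S := fun v hv =>
  FpfPower.conj_pow_mem' T.hxS _ hv

theorem hyR : ∀ u ∈ R, x ^ 2 ^ n * u * (x ^ 2 ^ n)⁻¹ ∈ R := fun u hu =>
  FpfPower.conj_pow_mem' T.hxR _ hu

theorem R_le_normalizer : R ≤ Subgroup.normalizer (S : Set Y) := fun u hu =>
  mem_normalizer_of_conj (T.hRS u hu)

theorem ne_one_of_centralizes {u : Y} (h : ∀ v ∈ S, u * v = v * u) : ∀ v ∈ S, ⁅u, v⁆ = 1 :=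
  fun v hv => commutatorElement_eq_one_iff_mul_comm.2 (h v hv)

theorem comm_R : ⁅R, Subgroup.zpowers (x ^ 2 ^ n)⁆ = R := by
  set A := Subgroup.zpowers (x ^ 2 ^ n) with hA
  have hAR : A ≤ Subgroup.normalizer (R : Set Y) := zpowers_le_normalizer T.hyR
  have hle : ⁅R, A⁆ ≤ R := CfsgLib.Coprime.commutator_le_left_of_le_normalizer hAR
  by_contra hne
  have hlt := lt_of_le_of_ne hle hne
  have hxA : x ∈ Subgroup.normalizer (A : Set Y) := mem_normalizer_of_conj fun a ha => by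
    obtain ⟨i, rfl⟩ := Subgroup.mem_zpowers_iff.1 ha
    rw [((Commute.self_pow x (2 ^ n)).zpow_right i).eq, mul_inv_cancel_right]
    exact zpow_mem (Subgroup.mem_zpowers _) _
  have hinv : ∀ s ∈ ⁅R, A⁆, x * s * x⁻¹ ∈ ⁅R, A⁆ := conj_mem_of_le_normalizer
    (CfsgLib.Coprime.le_normalizer_commutator (A := Subgroup.zpowers x) (zpowers_le_normalizer T.hxR)
      (Subgroup.zpowers_le.2 hxA) (Subgroup.mem_zpowers x))
  have hsm := T.hsmall S ⁅R, A⁆ le_rfl hle (Or.inr hlt) T.hxS hinv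
    (fun u hu => T.hRS u (hle hu))
  haveI := Fact.mk T.hr₀
  have hcop : (Nat.card A).Coprime (Nat.card R) :=
    coprime_zpowers T.hr₀ Nat.prime_two T.hr₀2 T.hR (by rw [pow_two, T.hyy])
  have hcc := CfsgLib.Coprime.commutator_commutator_eq hAR hcop
    (Or.inr (by haveI := T.hR.isNilpotent; infer_instance))
  have hK : ⁅⁅R, A⁆, A⁆ ≤ Subgroup.centralizer (S : Set Y) := by
    refine Subgroup.commutator_le.2 fun u hu a ha => ?_
    have hya : a = 1 ∨ a = x ^ 2 ^ n := by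
      obtain ⟨i, rfl⟩ := Subgroup.mem_zpowers_iff.1 ha
      rcases Int.even_or_odd' i with ⟨k, rfl | rfl⟩
      · left; rw [zpow_mul, zpow_two, T.hyy, one_zpow]
      · right; rw [zpow_add_one, zpow_mul, zpow_two, T.hyy, one_zpow, one_mul]
    rcases hya with rfl | rfl
    · rw [commutatorElement_one_right]; exact Subgroup.one_mem _
    · rw [← commutatorElement_inv]
      refine Subgroup.inv_mem _ fun v hv => (commutatorElement_eq_one_iff_mul_comm.1 (hsm u hu v hv)).symm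
  rw [hcc] at hK
  obtain ⟨u, hu, v, hv, hne'⟩ := T.hmove
  refine hne' (commutatorElement_eq_one_iff_mul_comm.2 (((hK ?_) v hv).symm))
  rw [← commutatorElement_inv]
  exact inv_mem (Subgroup.commutator_mem_commutator hu (Subgroup.mem_zpowers _))

/-- A subgroup containing every commutator with the involution contains `R`. -/
theorem le_of_comm_mem {H : Subgroup Y} (h : ∀ u ∈ R, ⁅x ^ 2 ^ n, u⁆ ∈ H) : R ≤ H := by
  rw [← T.comm_R]
  refine Subgroup.commutator_le.2 fun u hu a ha => ?_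
  have hya : a = 1 ∨ a = x ^ 2 ^ n := by
    obtain ⟨i, rfl⟩ := Subgroup.mem_zpowers_iff.1 ha
    rcases Int.even_or_odd' i with ⟨k, rfl | rfl⟩
    · left; rw [zpow_mul, zpow_two, T.hyy, one_zpow]
    · right; rw [zpow_add_one, zpow_mul, zpow_two, T.hyy, one_zpow, one_mul]
  rcases hya with rfl | rfl
  · rw [commutatorElement_one_right]; exact one_mem _
  · rw [← commutatorElement_inv]; exact inv_mem (h u hu)

theorem centralizes_of_lt {D : Subgroup Y} (hD : D < S) (hxD : ∀ v ∈ D, x * v * x⁻¹ ∈ D)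
    (hRD : ∀ u ∈ R, ∀ v ∈ D, u * v * u⁻¹ ∈ D) : R ≤ Subgroup.centralizer (D : Set Y) :=
  T.le_of_comm_mem fun u hu v hv =>
    (commutatorElement_eq_one_iff_mul_comm.1
      (T.hsmall D R hD.le le_rfl (Or.inl hD) hxD T.hxR hRD u hu v hv)).symm

theorem comm_S : ⁅S, R⁆ = S := by
  have hle : ⁅S, R⁆ ≤ S := CfsgLib.Coprime.commutator_le_left_of_le_normalizer T.R_le_normalizer
  by_contra hne
  have hc := T.centralizes_of_lt (lt_of_le_of_ne hle hne)
    (conj_mem_of_le_normalizer (CfsgLib.Coprime.le_normalizer_commutator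
      (A := Subgroup.zpowers x) (zpowers_le_normalizer T.hxS) (zpowers_le_normalizer T.hxR)
      (Subgroup.mem_zpowers x)))
    (fun u hu => conj_mem_of_le_normalizer ((CfsgLib.Coprime.le_normalizer_commutator
      T.R_le_normalizer Subgroup.le_normalizer) hu))
  haveI := Fact.mk T.hq
  haveI := Fact.mk T.hr₀
  have hcop : (Nat.card R).Coprime (Nat.card S) := by
    obtain ⟨a, ha⟩ := T.hR.exists_card_eq
    obtain ⟨b, hb⟩ := T.hS.exists_card_eq
    rw [ha, hb]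
    exact Nat.coprime_pow_primes _ _ T.hr₀ T.hq T.hqr.symm
  have hcc := CfsgLib.Coprime.commutator_commutator_eq T.R_le_normalizer hcop
    (Or.inr (by haveI := T.hS.isNilpotent; infer_instance))
  have h0 : ⁅⁅S, R⁆, R⁆ = ⊥ := Subgroup.commutator_eq_bot_iff_le_centralizer.2 fun d hd u hu =>
    (hc hu d hd).symm
  rw [hcc] at h0
  obtain ⟨u, hu, v, hv, hne'⟩ := T.hmove
  refine hne' (commutatorElement_eq_one_iff_mul_comm.2 ?_)
  have hyu : ⁅x ^ 2 ^ n, u⁆ ∈ R := R.mul_mem (T.hyR u hu) (R.inv_mem hu)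
  exact (Subgroup.commutator_eq_bot_iff_le_centralizer.1 h0 hv _ hyu)

theorem central_of_lt {D : Subgroup Y} (hD : D < S) (hxD : ∀ v ∈ D, x * v * x⁻¹ ∈ D)
    (hRD : ∀ u ∈ R, ∀ v ∈ D, u * v * u⁻¹ ∈ D) (hSD : S ≤ Subgroup.normalizer (D : Set Y)) :
    ∀ z ∈ D, ∀ v ∈ S, z * v = v * z :=
  central_of_centralizes hSD (fun d hd u hu => (T.centralizes_of_lt hD hxD hRD hu d hd).symm) T.comm_S

theorem y_moves : ¬ ∀ v ∈ S, x ^ 2 ^ n * v = v * x ^ 2 ^ n := by
  intro h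
  obtain ⟨u, hu, v, hv, hne⟩ := T.hmove
  refine hne (commutatorElement_eq_one_iff_mul_comm.2 ?_)
  have hy : ∀ w ∈ S, (x ^ 2 ^ n)⁻¹ * w * x ^ 2 ^ n = w := fun w hw => by
    rw [mul_assoc, ← h w hw, inv_mul_cancel_left]
  have h1 : u⁻¹ * v * u ∈ S := by
    have := T.hRS u⁻¹ (R.inv_mem hu) v hv
    rwa [inv_inv] at this
  have h2 : (x ^ 2 ^ n)⁻¹ * v * x ^ 2 ^ n = v := hy v hv
  calc ⁅x ^ 2 ^ n, u⁆ * v
      = x ^ 2 ^ n * (u * ((x ^ 2 ^ n)⁻¹ * (u⁻¹ * v * u) * x ^ 2 ^ n) * u⁻¹) *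
          (x ^ 2 ^ n)⁻¹ * ⁅x ^ 2 ^ n, u⁆ := by simp only [commutatorElement_def]; group
    _ = x ^ 2 ^ n * v * (x ^ 2 ^ n)⁻¹ * ⁅x ^ 2 ^ n, u⁆ := by
        rw [hy _ h1]; congr 3; group
    _ = v * ⁅x ^ 2 ^ n, u⁆ := by rw [h v hv, mul_inv_cancel_right]

theorem xS_mem : x ∈ Subgroup.normalizer (S : Set Y) := mem_normalizer_of_conj T.hxS

theorem conj_center {g : Y} (hg : g ∈ Subgroup.normalizer (S : Set Y)) {z : Y}
    (hz : z ∈ S ⊓ Subgroup.centralizer (S : Set Y)) : g * z * g⁻¹ ∈ S ⊓ Subgroup.centralizer (S : Set Y) := by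
  refine ⟨(Subgroup.mem_normalizer_iff.1 hg z).1 hz.1, fun v hv => ?_⟩
  have hv' : g⁻¹ * v * g ∈ S := by
    have := (Subgroup.mem_normalizer_iff.1 (inv_mem hg) v).1 hv
    rwa [inv_inv] at this
  have h := hz.2 _ hv'
  calc v * (g * z * g⁻¹) = g * ((g⁻¹ * v * g) * z) * g⁻¹ := by group
    _ = g * (z * (g⁻¹ * v * g)) * g⁻¹ := by rw [h]
    _ = g * z * g⁻¹ * v := by group

theorem y_comm_abelian {A : Subgroup Y} (hA : ∀ a ∈ A, ∀ b ∈ A, a * b = b * a) (hAS : A ≤ S)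
    (hxA : ∀ a ∈ A, x * a * x⁻¹ ∈ A) : ∀ a ∈ A, x ^ 2 ^ n * a = a * x ^ 2 ^ n := by
  haveI := Fact.mk T.hq
  intro a ha
  refine T.hinj ?_
  rw [map_mul, map_mul]
  exact commute_of_abelian ρ T.hxr T.hfix hA
    (natCast_ne_zero_of_isPGroup (K := K) (T.hS.to_le hAS) T.hq0) hxA a ha

theorem center_lt : S ⊓ Subgroup.centralizer (S : Set Y) < S := by
  refine lt_of_le_of_ne inf_le_left fun e => T.y_moves (T.y_comm_abelian (fun a ha b hb => ?_) le_rfl T.hxS)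
  exact ((e.ge hb).2 a ha)

theorem R_centralizes_center :
    R ≤ Subgroup.centralizer ((S ⊓ Subgroup.centralizer (S : Set Y) : Subgroup Y) : Set Y) :=
  T.centralizes_of_lt T.center_lt (fun _ hz => T.conj_center T.xS_mem hz)
    fun _ hu _ hz => T.conj_center (T.R_le_normalizer hu) hz

theorem y_centralizes_center :
    ∀ z ∈ S ⊓ Subgroup.centralizer (S : Set Y), x ^ 2 ^ n * z = z * x ^ 2 ^ n :=
  T.y_comm_abelian (fun _ ha _ hb => (hb.2 _ ha.1)) inf_le_left fun _ hz => T.conj_center T.xS_mem hz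

theorem commutator_mem_center : ∀ v ∈ S, ∀ w ∈ S, ⁅v, w⁆ ∈ S ⊓ Subgroup.centralizer (S : Set Y) := by
  haveI := Fact.mk T.hq
  have hlt : ⁅S, S⁆ < S := by
    haveI := T.hS.isNilpotent
    haveI : Nontrivial S := (Subgroup.nontrivial_iff_ne_bot S).2 fun e => T.y_moves fun v hv => by
      rw [e, Subgroup.mem_bot] at hv
      rw [hv, mul_one, one_mul]
    have h1 := Group.IsSolvable.commutator_lt_top_of_nontrivial S
    have h2 := (Subgroup.map_lt_map_iff_of_injective (f := S.subtype) S.subtype_injective).2 h1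
    rwa [← MonoidHom.range_eq_map, Subgroup.range_subtype, Subgroup.map_subtype_commutator] at h2
  have hn : ∀ {A : Subgroup Y}, A ≤ Subgroup.normalizer (S : Set Y) →
      A ≤ Subgroup.normalizer ((⁅S, S⁆ : Subgroup Y) : Set Y) := fun hA =>
    CfsgLib.Coprime.le_normalizer_commutator hA hA
  have hc := T.central_of_lt hlt
    (conj_mem_of_le_normalizer (hn (zpowers_le_normalizer T.hxS) (Subgroup.mem_zpowers x)))
    (fun u hu => conj_mem_of_le_normalizer (hn T.R_le_normalizer hu)) (hn Subgroup.le_normalizer)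
  intro v hv w hw
  have hm := Subgroup.commutator_mem_commutator hv hw
  exact ⟨hlt.le hm, fun s hs => (hc _ hm s hs).symm⟩

theorem pow_mem_center : ∀ v ∈ S, v ^ q ∈ S ⊓ Subgroup.centralizer (S : Set Y) := by
  haveI := Fact.mk T.hq
  set Z := S ⊓ Subgroup.centralizer (S : Set Y) with hZ
  set D := Subgroup.closure ({w | ∃ v ∈ S, v ^ q = w} ∪ (Z : Set Y)) with hD
  have hgen : ∀ {g : Y}, g ∈ Subgroup.normalizer (S : Set Y) → ∀ d ∈ D, g * d * g⁻¹ ∈ D := by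
    intro g hg d hd
    induction hd using Subgroup.closure_induction with
    | mem w hw =>
      refine Subgroup.subset_closure ?_
      rcases hw with ⟨v, hv, rfl⟩ | hw
      · exact Or.inl ⟨g * v * g⁻¹, (Subgroup.mem_normalizer_iff.1 hg v).1 hv, conj_pow⟩
      · exact Or.inr (T.conj_center hg hw)
    | one => simp
    | mul a b _ _ iha ihb =>
      rw [show g * (a * b) * g⁻¹ = g * a * g⁻¹ * (g * b * g⁻¹) by group]
      exact D.mul_mem iha ihb
    | inv a _ iha =>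
      rw [show g * a⁻¹ * g⁻¹ = (g * a * g⁻¹)⁻¹ by group]
      exact D.inv_mem iha
  have hDS : D ≤ S := (Subgroup.closure_le _).2 (by
    rintro w (⟨v, hv, rfl⟩ | hw)
    · exact S.pow_mem hv q
    · exact hw.1)
  have hlt : D < S := by
    refine lt_of_le_of_ne hDS fun e => T.center_lt.ne ?_
    refine le_antisymm inf_le_left ?_
    have hsup : Z.subgroupOf S ⊔ frattini S = ⊤ := by
      refine eq_top_iff.2 fun v _ => ?_
      have hle : D ≤ (Z.subgroupOf S ⊔ frattini S).map S.subtype := (Subgroup.closure_le _).2 (by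
        rintro w (⟨v, hv, rfl⟩ | hw)
        · exact ⟨(⟨v, hv⟩ : S) ^ q, Subgroup.mem_sup_right ((PSolvable.commutator_le_frattini T.hS).2 _), rfl⟩
        · exact ⟨⟨w, hw.1⟩, Subgroup.mem_sup_left hw, rfl⟩)
      obtain ⟨v', hv', he⟩ := hle (e.ge v.2)
      exact (show v' = v from Subtype.ext he) ▸ hv'
    exact Subgroup.subgroupOf_eq_top.1 (frattini_nongenerating hsup)
  have hc := T.central_of_lt hlt (hgen T.xS_mem) (fun u hu => hgen (T.R_le_normalizer hu))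
    (fun v hv => mem_normalizer_of_conj (hgen (Subgroup.le_normalizer hv)))
  intro v hv
  have hm : v ^ q ∈ D := Subgroup.subset_closure (Or.inl ⟨v, hv, rfl⟩)
  exact ⟨S.pow_mem hv q, fun s hs => (hc _ hm s hs).symm⟩

/-- Proper invariant subgroups of `R` are centralized by the involution modulo the kernel. -/
theorem comm_mem_centralizer {D : Subgroup Y} (hD : D < R) (hxD : ∀ u ∈ D, x * u * x⁻¹ ∈ D) :
    ∀ u ∈ D, ∀ v ∈ S, ⁅⁅x ^ 2 ^ n, u⁆, v⁆ = 1 :=
  T.hsmall S D le_rfl hD.le (Or.inr hD) T.hxS hxD fun u hu => T.hRS u (hD.le hu)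

end Triple

end CfsgLib.HallHigman.FpfTwo
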